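import Cfsg.Agent.Lib.Chevalley.Overgroup.RootSet
import Cfsg.Agent.Lib.Chevalley.TablesSupp
import Cfsg.Agent.Lib.Chevalley.Data.StCerts

/-!
The parameters of the root elements of a finite overgroup form a field, one for all roots: the
tables one by one, with the exceptional roots in the special characteristics.
-/

set_option autoImplicit false
set_option maxRecDepth 20000

namespace CfsgLib.Chevalley.Overgroup

open CfsgLib.Chevalley CfsgLib.Chevalley.Tbl
open CfsgLib.KnownB.FieldAut (mapGL map_xU)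

variable {F : Type*} [Field F]

/-- The parameters form one field and the exceptional roots cause no irrational element. -/
def RootField (T : Tbl) (F : Type*) [Field F] (M : Subgroup (GL T.I F)) : Prop :=
  (∀ r < T.n, rootSet M r = rootSet M (T.n - 1)) ∧
  (∀ s ∈ rootSet M (T.n - 1), ∀ t ∈ rootSet M (T.n - 1), s * t ∈ rootSet M (T.n - 1)) ∧
  ∃ E : ℕ → Prop, Exc T F E ∧ ∀ σ : F →+* F, (∀ t ∈ rootSet M (T.n - 1), σ t = t) →
    ∀ z ∈ M, z ∈ T.rootGen F E → mapGL T σ z = z

/-- The check behind `Exc`. -/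
def chkExc (T : Tbl) (es : List ℕ) (okN zeroN : ℤ → Bool) : Bool :=
  es.all (fun e => Nat.ble T.half e && Nat.blt e T.n) &&
  es.all (fun e => allLt (fun s => !(Nat.ble T.half s) ||
    (T.commT e s).all (fun c => zeroN c.2.1)) T.n) &&
  allLt (fun r => !(Nat.ble T.half r) || es.contains r || (List.range T.n).any (fun s =>
    Nat.ble T.half s && (match T.sum? r s with | some p => okN p.2 | none => false))) T.n &&
  es.all (fun a => es.all fun b => (T.commT a b).isEmpty) &&
  es.all (fun e => (List.range T.rank).any fun i => !(es.contains (T.refl i e)) &&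
    es.all (fun a => Nat.ble T.half (T.refl i a)) &&
    es.all (fun a => es.all fun b => (T.commT (T.refl i a) (T.refl i b)).isEmpty))

theorem exc_of_chk {T : Tbl} {es : List ℕ} {okN zeroN : ℤ → Bool}
    (h : chkExc T es okN zeroN = true) (hok : ∀ N, okN N = true → (N : F) ≠ 0)
    (hz : ∀ N, zeroN N = true → (N : F) = 0) : Exc T F (fun r => r ∈ es) := by
  simp only [chkExc, Bool.and_eq_true, List.all_eq_true, Nat.ble_eq, Bool.or_eq_true,
    Bool.not_eq_true', List.any_eq_true, List.mem_range, List.isEmpty_iff,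
    List.contains_iff_mem] at h
  obtain ⟨⟨⟨⟨h1, h2⟩, h3⟩, h4⟩, h5⟩ := h
  refine ⟨fun e he => ⟨(h1 e he).1, Nat.le_of_ble_eq_true (h1 e he).2⟩, fun e he s hs hsp c hc => ?_,
    fun r hr hrp hne => ?_, fun a b ha hb => h4 a ha b hb, fun e he => ?_⟩
  · have h' := allLt_iff.mp (h2 e he) s hs
    simp only [Bool.or_eq_true, Bool.not_eq_true', List.all_eq_true] at h'
    exact hz _ ((h'.resolve_left (by simp [hsp])) c hc)
  · have h' := allLt_iff.mp h3 r hr
    simp only [Bool.or_eq_true, Bool.not_eq_true', List.any_eq_true, List.mem_range,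
      List.contains_iff_mem, Bool.and_eq_true, Nat.ble_eq] at h'
    obtain ⟨s, hs, hsp, hN⟩ := h'.resolve_left (by simp [hrp, hne])
    refine ⟨s, hs, hsp, ?_⟩
    cases hsum : T.sum? r s with
    | none => simp [hsum] at hN
    | some p => exact ⟨p.1, p.2, rfl, hok _ (by simpa [hsum] using hN)⟩
  · obtain ⟨i, hi, ⟨hout, hpos⟩, hab⟩ := h5 e he
    exact ⟨i, hi, by simpa using hout, hpos, fun a b ha hb => hab a ha b hb⟩

theorem intCast_ne_zero_of_natAbs (p : ℕ) [CharP F p] {N : ℤ} (h : ¬ p ∣ N.natAbs) : (N : F) ≠ 0 :=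
  fun e => h (Int.natCast_dvd.mp ((CharP.intCast_eq_zero_iff F p N).mp e))

theorem intCast_eq_zero_of_emod (p : ℕ) [CharP F p] {N : ℤ} (h : N % (p : ℤ) = 0) : (N : F) = 0 :=
  (CharP.intCast_eq_zero_iff F p N).mpr (Int.dvd_of_emod_eq_zero h)

theorem prime_not_dvd {p : ℕ} (hp : p.Prime) {m : ℕ} (hm : m = 1 ∨ (m = 2 ∧ p ≠ 2) ∨ (m = 3 ∧ p ≠ 3)) :
    ¬ p ∣ m := by
  rcases hm with rfl | ⟨rfl, h⟩ | ⟨rfl, h⟩
  · exact fun h => hp.ne_one (Nat.dvd_one.mp h)
  · exact fun h' => h ((Nat.prime_dvd_prime_iff_eq hp Nat.prime_two).mp h')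
  · exact fun h' => h ((Nat.prime_dvd_prime_iff_eq hp Nat.prime_three).mp h')

variable {T : Tbl} (hT : T.Valid) {M : Subgroup (GL T.I F)} (hB : Base T F M)
include hT hB

/-- The positive roots reach the listed ones by reflections. -/
theorem rootSet_class (es : List ℕ)
    (h : allLt (fun r => !(Nat.ble T.half r) || es.contains (upRep T T.half r)) T.n = true)
    (he : ∀ e ∈ es, rootSet M e = rootSet M (T.n - 1)) :
    ∀ r < T.n, rootSet M r = rootSet M (T.n - 1) := by
  have hpos : ∀ r < T.n, T.half ≤ r → rootSet M r = rootSet M (T.n - 1) := by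
    intro r hr hrp
    have h' := allLt_iff.mp h r hr
    simp only [Bool.or_eq_true, Bool.not_eq_true', List.contains_iff_mem] at h'
    exact (rootSet_eq_of_upRep hT hB hr rfl).trans (he _ (h'.resolve_left (by simp [hrp])))
  intro r hr
  by_cases hrp : T.half ≤ r
  · exact hpos r hr hrp
  · rw [← rootSet_negRoot hT hB hr]
    exact hpos _ (neg_lt' hr) (le_negF (T := T) (s := ⟨r, hr⟩) (not_le.mp hrp))

omit hB in
theorem base_top {M : Subgroup (GL T.I F)} (σ : F →+* F) (hn : T.n - 1 < T.n)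
    (hσ : ∀ t ∈ rootSet M (T.n - 1), σ t = t) {z : GL T.I F} (hz : z ∈ M)
    (hz' : z ∈ T.rootGen F (fun r => r ∈ [T.n - 1])) : mapGL T σ z = z := by
  rw [rootGen_congr (Q := fun r => r = T.n - 1) (fun r _ => by simp), rootGen_eq_singleton hT hn,
    mem_rootSubgroup_iff hT hn] at hz'
  obtain ⟨t, rfl⟩ := hz'
  rw [map_xU σ hT hn, hσ t hz]

omit hB in
theorem base_two {M : Subgroup (GL T.I F)} (hC : T.chkComm = true) (σ : F →+* F) {e : ℕ}
    (he : e < T.n) (hep : T.half ≤ e) (hlt : e < T.n - 1)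
    (hσ : ∀ t ∈ rootSet M (T.n - 1), σ t = t)
    (hkey : ∀ t v : F, T.xU F e t * T.xU F (T.n - 1) v ∈ M → t ∈ rootSet M (T.n - 1))
    (heq : rootSet M e = rootSet M (T.n - 1)) (hab : T.commT e (T.n - 1) = [])
    {z : GL T.I F} (hz : z ∈ M)
    (hz' : z ∈ T.rootGen F (fun r => r ∈ [e, T.n - 1])) : mapGL T σ z = z := by
  have hn : T.n - 1 < T.n := by omega
  have hc : ∀ t v : F, T.xU F (T.n - 1) v * T.xU F e t = T.xU F e t * T.xU F (T.n - 1) v := by
    intro t v
    rw [comm_xU hT hC he hn (by omega) (by unfold Tbl.neg Tbl.n at *; omega), hab]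
    simp
  obtain ⟨t, v, rfl⟩ : ∃ t v, z = T.xU F e t * T.xU F (T.n - 1) v := by
    clear hz
    induction hz' using Subgroup.closure_induction with
    | mem x hx =>
      obtain ⟨r, hr, hre, t, rfl⟩ := hx
      simp only [List.mem_cons, List.not_mem_nil, or_false] at hre
      rcases hre with rfl | rfl
      · exact ⟨t, 0, by rw [xU_zero hT hn, mul_one]⟩
      · exact ⟨0, t, by rw [xU_zero hT he, one_mul]⟩
    | one => exact ⟨0, 0, by rw [xU_zero hT hn, xU_zero hT he, one_mul]⟩
    | mul x y _ _ hx hy =>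
      obtain ⟨t, v, rfl⟩ := hx
      obtain ⟨t', v', rfl⟩ := hy
      refine ⟨t + t', v + v', ?_⟩
      rw [← xU_add hT he, ← xU_add hT hn, mul_assoc, ← mul_assoc (T.xU F (T.n - 1) v), hc]
      group
    | inv x _ hx =>
      obtain ⟨t, v, rfl⟩ := hx
      refine ⟨-t, -v, ?_⟩
      rw [_root_.mul_inv_rev, xU_inv hT hn, xU_inv hT he, hc]
  have ht := hkey t v hz
  have hte : T.xU F e t ∈ M := by rw [← heq] at ht; exact ht
  have hv : v ∈ rootSet M (T.n - 1) := by
    show T.xU F (T.n - 1) v ∈ M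
    have := mul_mem (inv_mem hte) hz
    rwa [inv_mul_cancel_left] at this
  rw [map_mul, map_xU σ hT he, map_xU σ hT hn, hσ t ht, hσ v hv]

/-- The simply laced tables. -/
theorem rootField_simplyLaced (hC : T.chkComm = true) (p : ℕ) [hp : Fact p.Prime] [CharP F p]
    (h1 : chkExc T [T.n - 1] (fun N => Nat.beq N.natAbs 1) (fun N => decide (N = 0)) = true)
    (h2 : allLt (fun r => !(Nat.ble T.half r) || [T.n - 1].contains (upRep T T.half r)) T.n = true)
    {r s : ℕ} {N : ℤ} (hr : r < T.n) (hs : s < T.n) (hrs : s ≠ r) (hneg : s ≠ T.neg r)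
    (h3 : T.commT r s = [(T.n - 1, N, 1, 1)]) (hN : N = 1 ∨ N = -1) : RootField T F M := by
  have hall := rootSet_class hT hB [T.n - 1] h2 (by simp)
  have hn : T.n - 1 < T.n := by omega
  refine ⟨hall, fun a ha b hb => ?_, _, exc_of_chk h1 (fun N hN => ?_) (fun N hN => ?_),
    fun σ hσ z hz hz' => base_top hT σ hn hσ hz hz'⟩
  · have := commWord_mem hT hC hr hs hrs hneg (t := a) (u := b) (by rw [hall r hr]; exact ha)
      (by rw [hall s hs]; exact hb)
    rw [h3] at this
    simp only [List.map_cons, List.map_nil, List.prod_cons, List.prod_nil, mul_one, pow_one] at this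
    have h' : (N : F) * -(a * b) ∈ rootSet M (T.n - 1) := by
      show T.xU F (T.n - 1) _ ∈ M
      rw [show (N : F) * -(a * b) = (N : F) * -a * b by ring]
      exact this
    simpa using rootSet_neg hT hn ((rootSet_sign hT hn hN).mp h')
  · exact intCast_ne_zero_of_natAbs p (prime_not_dvd hp.out (Or.inl (Nat.eq_of_beq_eq_true hN)))
  · simp [show N = 0 by simpa using hN]

end CfsgLib.Chevalley.Overgroup
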