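import Cfsg.Agent.Lib.Chevalley.Overgroup.Cases
import Mathlib.Algebra.CharP.Two

/-!
The parameters of the root elements of a finite overgroup: the tables with two root lengths.
-/

set_option autoImplicit false
set_option maxRecDepth 20000

namespace CfsgLib.Chevalley.Overgroup

open CfsgLib.Chevalley CfsgLib.Chevalley.Tbl
open CfsgLib.KnownB.FieldAut (mapGL map_xU)

variable {F : Type*} [Field F]

section Helpers

variable {T : Tbl} (hT : T.Valid) {M : Subgroup (GL T.I F)}
include hT

theorem rootSet_nat {r : ℕ} (hr : r < T.n) (k : ℕ) {t : F} (ht : t ∈ rootSet M r) :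
    (k : F) * t ∈ rootSet M r := by
  induction k with
  | zero => simpa using rootSet_zero hT hr
  | succ k ih =>
    rw [Nat.cast_succ, add_mul, one_mul]
    exact rootSet_add hT hr ih ht

/-- Division by a natural number prime to the characteristic. -/
theorem rootSet_div (p : ℕ) [hp : Fact p.Prime] [CharP F p] {r : ℕ} (hr : r < T.n) {c : ℕ}
    (hc : ¬ p ∣ c) {t : F} (ht : (c : F) * t ∈ rootSet M r) : t ∈ rootSet M r := by
  obtain ⟨k, hk⟩ := Nat.exists_mul_mod_eq_one_of_coprime
    (Nat.Coprime.symm ((hp.out.coprime_iff_not_dvd).mpr hc)) hp.out.one_lt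
  have h := rootSet_nat hT hr k ht
  have e : (k : F) * (c : F) = 1 := by
    rw [← Nat.cast_mul, mul_comm k c, ← Nat.mod_add_div (c * k) p, hk.2]
    simp
  rwa [← mul_assoc, e, one_mul] at h

theorem rootSet_sign' {r : ℕ} (hr : r < T.n) {i s : ℕ} (hi : i < T.rank) (hs : s < T.n) {t : F} :
    (T.eta i s : F) * t ∈ rootSet M r ↔ t ∈ rootSet M r :=
  rootSet_sign hT hr (eta_sq hT hi hs)

theorem refl_mem_two (hB : Base T F M) {i r s : ℕ} (hi : i < T.rank) (hr : r < T.n) (hs : s < T.n)
    {t v : F} (h : T.xU F r t * T.xU F s v ∈ M) :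
    T.xU F (T.refl i r) ((T.eta i r : F) * t) * T.xU F (T.refl i s) ((T.eta i s : F) * v) ∈ M := by
  have hn := hB.nU_mem hT (simple_lt hT hi)
  rw [eq_mul_inv_of_mul_eq (nU_simple_xU (F := F) hT hi hr t).symm,
    eq_mul_inv_of_mul_eq (nU_simple_xU (F := F) hT hi hs v).symm]
  rw [show T.nU F (T.simple i) 1 * T.xU F r t * (T.nU F (T.simple i) 1)⁻¹ *
    (T.nU F (T.simple i) 1 * T.xU F s v * (T.nU F (T.simple i) 1)⁻¹) =
    T.nU F (T.simple i) 1 * (T.xU F r t * T.xU F s v) * (T.nU F (T.simple i) 1)⁻¹ by group]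
  exact mul_mem (mul_mem hn h) (inv_mem hn)

theorem commute_of_commT (hC : T.chkComm = true) {r c : ℕ} (hr : r < T.n) (hc : c < T.n)
    (hcr : c ≠ r) (hcneg : c ≠ T.neg r) (h : ∀ x ∈ T.commT r c, ((x.2.1 : ℤ) : F) = 0) (t v : F) :
    Commute (T.xU F c v) (T.xU F r t) := by
  show _ = _
  rw [comm_xU hT hC hr hc hcr hcneg, List.prod_eq_one, mul_one]
  intro y hy
  obtain ⟨x, hx, rfl⟩ := List.mem_map.mp hy
  rw [h x hx, zero_mul, zero_mul, xU_zero hT (commT_lt hT hr hc x hx)]

end Helpers

open Data in
/-- Type F₄. -/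
theorem rootField_F4 {M : Subgroup (GL F4.tbl.I F)} (hB : Base F4.tbl F M) (p : ℕ) [hp : Fact p.Prime]
    [CharP F p] : RootField F4.tbl F M := by
  have hT := F4.valid
  have hC := F4.chkComm
  have up : ∀ r e, r < F4.tbl.n → upRep F4.tbl F4.tbl.half r = e → rootSet M r = rootSet M e :=
    fun r e hr h => rootSet_eq_of_upRep hT hB hr h
  have hn : F4.tbl.n = 48 := rfl
  have e24 := up 24 47 (by omega) (by decide +kernel)
  have e25 := up 25 47 (by omega) (by decide +kernel)
  have e26 := up 26 47 (by omega) (by decide +kernel)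
  have e30 := up 30 47 (by omega) (by decide +kernel)
  have e27 := up 27 44 (by omega) (by decide +kernel)
  have e28 := up 28 44 (by omega) (by decide +kernel)
  set A := rootSet M 47 with hA
  set A' := rootSet M 44 with hA'
  have h1' : (1 : F) ∈ A' := hB.one 44 (by omega)
  have w2725 : ∀ t ∈ A', ∀ u ∈ A, F4.tbl.xU F 28 (t * u) * F4.tbl.xU F 30 (-(t * t * u)) ∈ M := by
    intro t ht u hu
    have h := commWord_mem hT hC (r := 27) (s := 25) (by omega) (by omega) (by omega)
      (by decide +kernel) (M := M) (t := t) (u := u) (by rw [e27]; exact ht) (by rw [e25]; exact hu)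
    rw [show F4.tbl.commT 27 25 = [(28, -1, 1, 1), (30, -1, 2, 1)] by decide +kernel] at h
    simpa [sq] using h
  have hAA' : A ⊆ A' := by
    intro v hv
    have h := w2725 (-1) (rootSet_neg hT (by omega) h1') v hv
    have h30 : F4.tbl.xU F 30 (-((-1) * (-1) * v)) ∈ M :=
      show _ ∈ rootSet M 30 by rw [e30]; simpa using rootSet_neg hT (show 47 < F4.tbl.n by omega) hv
    have h28 : (-1) * v ∈ rootSet M 28 := by
      have := mul_mem h (inv_mem h30)
      rwa [mul_inv_cancel_right] at this
    rw [e28] at h28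
    simpa using rootSet_neg hT (show 44 < F4.tbl.n by omega) h28
  have heq : A = A' := by
    by_cases h2 : p = 2
    · subst h2
      refine eq_of_pow_subset (rootSet_finite hT hB (by omega)) hAA' (k := 2)
        (fun a b e => frobenius_inj F 2 (by simpa [frobenius_def] using e)) fun t ht => ?_
      have h := w2725 t ht 1 (hB.one 47 (by omega))
      have h28 : F4.tbl.xU F 28 (t * 1) ∈ M := show _ ∈ rootSet M 28 by rw [e28, mul_one]; exact ht
      have h30 : -(t * t * 1) ∈ rootSet M 30 := by
        have := mul_mem (inv_mem h28) h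
        rwa [inv_mul_cancel_left] at this
      rw [e30] at h30
      simpa [sq] using rootSet_neg hT (show 47 < F4.tbl.n by omega) h30
    · refine Set.Subset.antisymm hAA' fun t ht => ?_
      have h := commWord_mem hT hC (r := 27) (s := 28) (by omega) (by omega) (by omega)
        (by decide +kernel) (M := M) (t := t) (u := 1) (by rw [e27]; exact ht) (by rw [e28]; exact h1')
      rw [show F4.tbl.commT 27 28 = [(30, 2, 1, 1)] by decide +kernel] at h
      simp only [List.map_cons, List.map_nil, List.prod_cons, List.prod_nil, mul_one, pow_one] at h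
      have h' : ((2 : ℕ) : F) * t ∈ A := by
        have h30 : (((2 : ℤ) : F) * -t) ∈ rootSet M 30 := h
        rw [e30] at h30
        simpa using rootSet_neg hT (show 47 < F4.tbl.n by omega) h30
      exact rootSet_div hT p (show 47 < F4.tbl.n by omega)
        (fun hd => h2 ((Nat.prime_dvd_prime_iff_eq hp.out Nat.prime_two).mp hd)) h'
  have hall := rootSet_class hT hB [44, 47] (by decide +kernel)
    (fun e he => by
      simp only [List.mem_cons, List.not_mem_nil, or_false] at he
      rcases he with rfl | rfl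
      · exact heq.symm
      · rfl)
  refine ⟨hall, fun a ha b hb => ?_, ?_⟩
  · have h := commWord_mem hT hC (r := 24) (s := 25) (by omega) (by omega) (by omega)
      (by decide +kernel) (M := M) (t := a) (u := b) (by rw [e24]; exact ha) (by rw [e25]; exact hb)
    rw [show F4.tbl.commT 24 25 = [(26, 1, 1, 1)] by decide +kernel] at h
    have h' : -a * b ∈ rootSet M 26 := by simpa [rootSet] using h
    rw [e26] at h'
    show a * b ∈ A
    simpa using rootSet_neg hT (show 47 < F4.tbl.n by omega) h'
  by_cases h2 : p = 2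
  · subst h2
    refine ⟨_, exc_of_chk (T := F4.tbl) (es := [44, 47]) (okN := fun N => Nat.beq N.natAbs 1)
      (zeroN := fun N => decide (N % 2 = 0)) (by decide +kernel) (fun N hN => ?_) (fun N hN => ?_),
      fun σ hσ z hz hz' => base_two hT hC σ (by omega) (by decide) (by omega) hσ (fun t v htv => ?_)
        heq.symm (by decide +kernel) hz hz'⟩
    · exact intCast_ne_zero_of_natAbs 2 (prime_not_dvd hp.out (Or.inl (Nat.eq_of_beq_eq_true hN)))
    · exact intCast_eq_zero_of_emod 2 (by simpa using hN)
    · have h := refl_mem_two hT hB (i := 0) (by decide) (show 44 < F4.tbl.n by omega)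
        (show F4.tbl.n - 1 < F4.tbl.n by omega) htv
      rw [show F4.tbl.refl 0 44 = 40 by decide +kernel,
        show F4.tbl.refl 0 (F4.tbl.n - 1) = 47 by decide +kernel] at h
      have h' := commWord_mem' hT hC (r := 33) (s := 40) (c := 47) (by omega) (by omega) (by omega)
        (by decide +kernel) (M := M) (t := (1 : F))
        (commute_of_commT hT hC (by omega) (by omega) (by omega) (by decide +kernel)
          (fun x hx => by rw [show F4.tbl.commT 33 47 = [] by decide +kernel] at hx; simp at hx) _ _)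
        (hB.one 33 (by omega)) h
      rw [show F4.tbl.commT 33 40 = [(44, 1, 1, 1)] by decide +kernel] at h'
      have h'' : -((F4.tbl.eta 0 44 : F) * t) ∈ A' := by simpa [rootSet, hA'] using h'
      have := (rootSet_sign' hT (show 44 < F4.tbl.n by omega) (show 0 < F4.tbl.rank by decide)
        (show 44 < F4.tbl.n by omega)).mp
        (by simpa using rootSet_neg hT (show 44 < F4.tbl.n by omega) h'')
      show t ∈ A
      rwa [heq]
  · refine ⟨_, exc_of_chk (T := F4.tbl) (es := [F4.tbl.n - 1])
      (okN := fun N => Nat.beq N.natAbs 1 || Nat.beq N.natAbs 2)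
      (zeroN := fun N => decide (N = 0)) (by decide +kernel) (fun N hN => ?_) (fun N hN => ?_),
      fun σ hσ z hz hz' => base_top hT σ (by omega) hσ hz hz'⟩
    · simp only [Bool.or_eq_true, Nat.beq_eq] at hN
      exact intCast_ne_zero_of_natAbs p (prime_not_dvd hp.out
        (hN.imp id fun h => Or.inl ⟨h, h2⟩))
    · simp [show N = 0 by simpa using hN]

open Data in
/-- Type G₂. -/
theorem rootField_G2 {M : Subgroup (GL G2.tbl.I F)} (hB : Base G2.tbl F M) (p : ℕ) [hp : Fact p.Prime]
    [CharP F p] : RootField G2.tbl F M := by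
  have hT := G2.valid
  have hC := G2.chkComm
  have up : ∀ r e, r < G2.tbl.n → upRep G2.tbl G2.tbl.half r = e → rootSet M r = rootSet M e :=
    fun r e hr h => rootSet_eq_of_upRep hT hB hr h
  have hn : G2.tbl.n = 12 := rfl
  have e6 := up 6 11 (by omega) (by decide +kernel)
  have e10 := up 10 11 (by omega) (by decide +kernel)
  have e7 := up 7 9 (by omega) (by decide +kernel)
  have e8 := up 8 9 (by omega) (by decide +kernel)
  set A := rootSet M 11 with hA
  set A' := rootSet M 9 with hA'
  have h1' : (1 : F) ∈ A' := hB.one 9 (by omega)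
  have hmul : ∀ a ∈ A, ∀ b ∈ A, a * b ∈ A := by
    intro a ha b hb
    have h := commWord_mem hT hC (r := 6) (s := 10) (by omega) (by omega) (by omega)
      (by decide +kernel) (M := M) (t := a) (u := b) (by rw [e6]; exact ha) (by rw [e10]; exact hb)
    rw [show G2.tbl.commT 6 10 = [(11, 1, 1, 1)] by decide +kernel] at h
    have h' : -a * b ∈ A := by simpa [rootSet, hA] using h
    simpa using rootSet_neg hT (show 11 < G2.tbl.n by omega) h'
  -- products with long parts removed
  have strip : ∀ a b c d : F, c ∈ A → d ∈ A →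
      G2.tbl.xU F 8 a * (G2.tbl.xU F 9 b * (G2.tbl.xU F 10 c * G2.tbl.xU F 11 d)) ∈ M →
      G2.tbl.xU F 8 a * G2.tbl.xU F 9 b ∈ M := by
    intro a b c d hc hd h
    have h10 : G2.tbl.xU F 10 c ∈ M := show c ∈ rootSet M 10 by rw [e10]; exact hc
    have h11 : G2.tbl.xU F 11 d ∈ M := hd
    have := mul_mem h (inv_mem (mul_mem h10 h11))
    rwa [← mul_assoc, mul_inv_cancel_right] at this
  have w76 : ∀ v ∈ A, G2.tbl.xU F 8 (-v) * G2.tbl.xU F 9 v ∈ M := by
    intro v hv
    have h := commWord_mem hT hC (r := 7) (s := 6) (by omega) (by omega) (by omega)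
      (by decide +kernel) (M := M) (t := (-1 : F)) (u := v)
      (by rw [e7]; exact rootSet_neg hT (by omega) h1') (by rw [e6]; exact hv)
    rw [show G2.tbl.commT 7 6 = [(8, -1, 1, 1), (9, 1, 2, 1), (10, 1, 3, 1), (11, 1, 3, 2)]
      by decide +kernel] at h
    refine strip (-v) v v (v * v) hv (hmul v hv v hv) ?_
    simpa [sq] using h
  have hAA' : A ⊆ A' := by
    by_cases hsmall : ∀ a ∈ A, a = 0 ∨ a = 1
    · intro a ha
      rcases hsmall a ha with rfl | rfl
      · exact rootSet_zero hT (by omega)
      · exact h1'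
    push Not at hsmall
    obtain ⟨a, ha, ha0, ha1⟩ := hsmall
    have hv : -((G2.tbl.eta 1 8 : F) * a) ∈ A :=
      rootSet_neg hT (by omega) ((rootSet_sign' hT (by omega) (by decide) (by omega)).mpr ha)
    have hq := refl_mem_two hT hB (i := 1) (by decide) (show 8 < G2.tbl.n by omega)
      (show 9 < G2.tbl.n by omega) (w76 _ hv)
    have ee : (G2.tbl.eta 1 8 : F) * -(-((G2.tbl.eta 1 8 : F) * a)) = a := by
      rw [neg_neg, ← mul_assoc]
      rcases eta_sq hT (show 1 < G2.tbl.rank by decide) (show 8 < G2.tbl.n by omega) with he | he <;>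
        simp [he]
    rw [show G2.tbl.refl 1 8 = 7 by decide +kernel, show G2.tbl.refl 1 9 = 9 by decide +kernel, ee]
      at hq
    have hkey : ∀ w ∈ A, w * (a * a - a) ∈ A' := by
      intro w hw
      have h := commWord_mem' hT hC (r := 6) (s := 7) (c := 9) (by omega) (by omega) (by omega)
        (by decide +kernel) (M := M) (t := w)
        (commute_of_commT hT hC (by omega) (by omega) (by omega) (by decide +kernel)
          (fun x hx => by rw [show G2.tbl.commT 6 9 = [] by decide +kernel] at hx; simp at hx) _ _)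
        (by rw [e6]; exact hw) hq
      rw [show G2.tbl.commT 6 7 = [(8, 1, 1, 1), (9, 1, 1, 2), (10, -1, 1, 3), (11, -2, 2, 3)]
        by decide +kernel] at h
      have hwa : w * a ∈ A := hmul w hw a ha
      have h' : G2.tbl.xU F 8 (-(w * a)) * G2.tbl.xU F 9 (w * (a * a)) ∈ M := by
        refine strip _ _ (w * a * (a * a)) (((2 : ℕ) : F) * (w * (w * (a * (a * a)))))
          (hmul _ hwa _ (hmul a ha a ha))
          (rootSet_nat hT (by omega) 2 (hmul w hw _ (hmul w hw _ (hmul a ha _ (hmul a ha a ha))))) ?_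
        simp only [List.map_cons, List.map_nil, List.prod_cons, List.prod_nil, mul_one] at h
        convert h using 2 <;> push_cast <;> ring_nf
      have := mul_mem (inv_mem (w76 _ hwa)) h'
      rw [show (G2.tbl.xU F 8 (-(w * a)) * G2.tbl.xU F 9 (w * a))⁻¹ *
          (G2.tbl.xU F 8 (-(w * a)) * G2.tbl.xU F 9 (w * (a * a))) =
          (G2.tbl.xU F 9 (w * a))⁻¹ * G2.tbl.xU F 9 (w * (a * a)) by group,
        xU_inv hT (by omega), xU_add hT (by omega)] at this
      show G2.tbl.xU F 9 (w * (a * a - a)) ∈ M
      rwa [mul_sub, sub_eq_neg_add]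
    have hc : a * a - a ∈ A := by
      rw [sub_eq_add_neg]
      exact rootSet_add hT (by omega) (hmul a ha a ha) (rootSet_neg hT (by omega) ha)
    have hc0 : a * a - a ≠ 0 := by
      intro e
      rcases mul_eq_zero.mp (show a * (a - 1) = 0 by rw [← e]; ring) with h | h
      · exact ha0 h
      · exact ha1 (sub_eq_zero.mp h)
    intro t ht
    have hmap : Set.MapsTo (fun x => x * (a * a - a)) A A := fun x hx => hmul x hx _ hc
    obtain ⟨w, hw, hwt⟩ := (((rootSet_finite hT hB (by omega)).injOn_iff_bijOn_of_mapsTo hmap).mp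
      (fun x _ y _ e => mul_right_cancel₀ hc0 e)).surjOn ht
    exact hwt ▸ hkey w hw
  have heq : A = A' := by
    by_cases h3 : p = 3
    · subst h3
      refine eq_of_pow_subset (rootSet_finite hT hB (by omega)) hAA' (k := 3)
        (fun a b e => frobenius_inj F 3 (by simpa [frobenius_def] using e)) fun t ht => ?_
      have h3' : (3 : F) = 0 := by exact_mod_cast CharP.cast_eq_zero F 3
      have hsq : t * t ∈ A' := by
        have h := commWord_mem hT hC (r := 7) (s := 8) (by omega) (by omega) (by omega)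
          (by decide +kernel) (M := M) (t := t) (u := t) (by rw [e7]; exact ht) (by rw [e8]; exact ht)
        rw [show G2.tbl.commT 7 8 = [(9, -2, 1, 1), (10, -3, 2, 1), (11, 3, 1, 2)] by decide +kernel] at h
        simp [h3', xU_zero hT (show 10 < G2.tbl.n by omega), xU_zero hT (show 11 < G2.tbl.n by omega)] at h
        have h' : -(t * t) ∈ A' := by
          show G2.tbl.xU F 9 _ ∈ M
          rw [show -(t * t) = 2 * t * t by linear_combination (-(t * t)) * h3']
          exact h
        simpa using rootSet_neg hT (show 9 < G2.tbl.n by omega) h'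
      have h := commWord_mem hT hC (r := 7) (s := 6) (by omega) (by omega) (by omega)
        (by decide +kernel) (M := M) (t := -t) (u := 1)
        (by rw [e7]; exact rootSet_neg hT (by omega) ht) (by rw [e6]; exact hB.one 11 (by omega))
      rw [show G2.tbl.commT 7 6 = [(8, -1, 1, 1), (9, 1, 2, 1), (10, 1, 3, 1), (11, 1, 3, 2)]
        by decide +kernel] at h
      simp only [List.map_cons, List.map_nil, List.prod_cons, List.prod_nil, mul_one, one_pow] at h
      have h89 : G2.tbl.xU F 8 (-t) * G2.tbl.xU F 9 (t * t) ∈ M :=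
        mul_mem (show -t ∈ rootSet M 8 by rw [e8]; exact rootSet_neg hT (by omega) ht) hsq
      have h1011 : G2.tbl.xU F 10 (t ^ 3) * G2.tbl.xU F 11 (t ^ 3) ∈ M := by
        have := mul_mem (inv_mem h89) h
        convert this using 1
        simp only [sq, pow_one, neg_neg, Int.cast_neg, Int.cast_one, neg_mul, one_mul, mul_assoc,
          mul_inv_rev, inv_mul_cancel_left]
      have h' := commWord_mem' hT hC (r := 6) (s := 10) (c := 11) (by omega) (by omega) (by omega)
        (by decide +kernel) (M := M) (t := (1 : F))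
        (commute_of_commT hT hC (by omega) (by omega) (by omega) (by decide +kernel)
          (fun x hx => by rw [show G2.tbl.commT 6 11 = [] by decide +kernel] at hx; simp at hx) _ _)
        (by rw [e6]; exact hB.one 11 (by omega)) h1011
      rw [show G2.tbl.commT 6 10 = [(11, 1, 1, 1)] by decide +kernel] at h'
      have h'' : -(t ^ 3) ∈ A := by simpa [rootSet, hA] using h'
      simpa using rootSet_neg hT (show 11 < G2.tbl.n by omega) h''
    · refine Set.Subset.antisymm hAA' fun t ht => ?_
      have h := commWord_mem hT hC (r := 8) (s := 9) (by omega) (by omega) (by omega)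
        (by decide +kernel) (M := M) (t := t) (u := 1) (by rw [e8]; exact ht) h1'
      rw [show G2.tbl.commT 8 9 = [(11, 3, 1, 1)] by decide +kernel] at h
      have h' : ((3 : ℕ) : F) * t ∈ A := by
        have h11 : ((3 : ℤ) : F) * -t ∈ A := by simpa [rootSet, hA] using h
        simpa using rootSet_neg hT (show 11 < G2.tbl.n by omega) h11
      exact rootSet_div hT p (show 11 < G2.tbl.n by omega)
        (fun hd => h3 ((Nat.prime_dvd_prime_iff_eq hp.out Nat.prime_three).mp hd)) h'
  have hall := rootSet_class hT hB [9, 11] (by decide +kernel)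
    (fun e he => by
      simp only [List.mem_cons, List.not_mem_nil, or_false] at he
      rcases he with rfl | rfl
      · exact heq.symm
      · rfl)
  refine ⟨hall, hmul, ?_⟩
  by_cases h3 : p = 3
  · subst h3
    refine ⟨_, exc_of_chk (T := G2.tbl) (es := [9, 11])
      (okN := fun N => Nat.beq N.natAbs 1 || Nat.beq N.natAbs 2)
      (zeroN := fun N => decide (N % 3 = 0)) (by decide +kernel) (fun N hN => ?_) (fun N hN => ?_),
      fun σ hσ z hz hz' => base_two hT hC σ (by omega) (by decide) (by omega) hσ (fun t v htv => ?_)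
        heq.symm (by decide +kernel) hz hz'⟩
    · simp only [Bool.or_eq_true, Nat.beq_eq] at hN
      exact intCast_ne_zero_of_natAbs 3 (prime_not_dvd hp.out
        (hN.imp id fun h => Or.inl ⟨h, by decide⟩))
    · exact intCast_eq_zero_of_emod 3 (by simpa using hN)
    · have h := refl_mem_two hT hB (i := 0) (by decide) (show 9 < G2.tbl.n by omega)
        (show G2.tbl.n - 1 < G2.tbl.n by omega) htv
      rw [show G2.tbl.refl 0 9 = 8 by decide +kernel,
        show G2.tbl.refl 0 (G2.tbl.n - 1) = 11 by decide +kernel] at h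
      have h' := commWord_mem' hT hC (r := 7) (s := 8) (c := 11) (by omega) (by omega) (by omega)
        (by decide +kernel) (M := M) (t := (1 : F))
        (commute_of_commT hT hC (by omega) (by omega) (by omega) (by decide +kernel)
          (fun x hx => by rw [show G2.tbl.commT 7 11 = [] by decide +kernel] at hx; simp at hx) _ _)
        (by rw [e7]; exact h1') h
      rw [show G2.tbl.commT 7 8 = [(9, -2, 1, 1), (10, -3, 2, 1), (11, 3, 1, 2)] by decide +kernel] at h'
      have h3' : (3 : F) = 0 := by exact_mod_cast CharP.cast_eq_zero F 3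
      simp [h3', xU_zero hT (show 10 < G2.tbl.n by omega), xU_zero hT (show 11 < G2.tbl.n by omega)] at h'
      have h'' : -((G2.tbl.eta 0 9 : F) * t) ∈ A' := by
        show G2.tbl.xU F 9 _ ∈ M
        rw [show -((G2.tbl.eta 0 9 : F) * t) = 2 * ((G2.tbl.eta 0 9 : F) * t) by
          linear_combination (-((G2.tbl.eta 0 9 : F) * t)) * h3']
        exact h'
      show t ∈ A
      rw [heq]
      exact (rootSet_sign' hT (show 9 < G2.tbl.n by omega) (show 0 < G2.tbl.rank by decide)
        (show 9 < G2.tbl.n by omega)).mp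
        (by simpa using rootSet_neg hT (show 9 < G2.tbl.n by omega) h'')
  · by_cases h2 : p = 2
    · subst h2
      refine ⟨_, exc_of_chk (T := G2.tbl) (es := [G2.tbl.n - 1])
        (okN := fun N => Nat.beq N.natAbs 1 || Nat.beq N.natAbs 3)
        (zeroN := fun N => decide (N = 0)) (by decide +kernel) (fun N hN => ?_) (fun N hN => ?_),
        fun σ hσ z hz hz' => base_top hT σ (by omega) hσ hz hz'⟩
      · simp only [Bool.or_eq_true, Nat.beq_eq] at hN
        exact intCast_ne_zero_of_natAbs 2 (prime_not_dvd hp.out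
          (hN.imp id fun h => Or.inr ⟨h, by decide⟩))
      · simp [show N = 0 by simpa using hN]
    · refine ⟨_, exc_of_chk (T := G2.tbl) (es := [G2.tbl.n - 1])
        (okN := fun N => Nat.beq N.natAbs 1 || (Nat.beq N.natAbs 2 || Nat.beq N.natAbs 3))
        (zeroN := fun N => decide (N = 0)) (by decide +kernel) (fun N hN => ?_) (fun N hN => ?_),
        fun σ hσ z hz hz' => base_top hT σ (by omega) hσ hz hz'⟩
      · simp only [Bool.or_eq_true, Nat.beq_eq] at hN
        exact intCast_ne_zero_of_natAbs p (prime_not_dvd hp.out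
          (hN.imp id fun h => h.imp (fun h => ⟨h, h2⟩) fun h => ⟨h, h3⟩))
      · simp [show N = 0 by simpa using hN]

open Data in
/-- Type B₂. -/
theorem rootField_B2 {M : Subgroup (GL B2.tbl.I F)} (hB : Base B2.tbl F M) (p : ℕ) [hp : Fact p.Prime]
    [CharP F p] : RootField B2.tbl F M := by
  have hT := B2.valid
  have hC := B2.chkComm
  have up : ∀ r e, r < B2.tbl.n → upRep B2.tbl B2.tbl.half r = e → rootSet M r = rootSet M e :=
    fun r e hr h => rootSet_eq_of_upRep hT hB hr h
  have hn : B2.tbl.n = 8 := rfl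
  have e4 := up 4 7 (by omega) (by decide +kernel)
  have e5 := up 5 6 (by omega) (by decide +kernel)
  set A := rootSet M 7 with hA
  set A' := rootSet M 6 with hA'
  have h1 : (1 : F) ∈ A := hB.one 7 (by omega)
  have h1' : (1 : F) ∈ A' := hB.one 6 (by omega)
  have hall : A = A' → ∀ r < B2.tbl.n, rootSet M r = rootSet M (B2.tbl.n - 1) := fun heq =>
    rootSet_class hT hB [6, 7] (by decide +kernel)
      (fun e he => by
        simp only [List.mem_cons, List.not_mem_nil, or_false] at he
        rcases he with rfl | rfl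
        · exact heq.symm
        · rfl)
  by_cases h2 : p = 2
  · subst h2
    have : CharP F 2 := inferInstance
    -- pairs at the two central roots
    set V : F → F → Prop := fun v w => B2.tbl.xU F 6 v * B2.tbl.xU F 7 w ∈ M with hV
    have sgn : ∀ i s, i < B2.tbl.rank → s < B2.tbl.n → (B2.tbl.eta i s : F) = 1 := fun i s hi hs => by
      rcases eta_sq hT hi hs with he | he <;> simp [he, CharTwo.neg_eq]
    have hcen : ∀ e ∈ [6, 7], ∀ r, r < B2.tbl.n → B2.tbl.half ≤ r → ∀ a b : F,
        Commute (B2.tbl.xU F e a) (B2.tbl.xU F r b) := by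
      intro e he r hr hrp a b
      refine central_commute hT hC ?_ ?_ ?_ a (xU_mem_rootGen (P := fun r => B2.tbl.half ≤ r) hr hrp b)
      · simp at he; omega
      · simp at he
        have : B2.tbl.half = 4 := rfl
        omega
      intro s hs hsp c hc
      have hk : [6, 7].all (fun e => allLt (fun s => !(Nat.ble B2.tbl.half s) ||
          (B2.tbl.commT e s).all (fun c => decide (c.2.1 % 2 = 0))) B2.tbl.n) = true := by decide +kernel
      have h' := allLt_iff.mp (List.all_eq_true.mp hk e he) s hs
      simp only [Bool.or_eq_true, Bool.not_eq_true', List.all_eq_true, decide_eq_true_eq] at h'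
      exact intCast_eq_zero_of_emod 2 ((h'.resolve_left (by simp [hsp])) c hc)
    have hprod : ∀ v w v' w', V v w → V v' w' → V (v * w') (v * v * w') := by
      intro v w v' w' hvw hvw'
      have hQ := refl_mem_two hT hB (i := 1) (by decide) (show 6 < B2.tbl.n by omega)
        (show 7 < B2.tbl.n by omega) hvw
      rw [show B2.tbl.refl 1 6 = 5 by decide +kernel, show B2.tbl.refl 1 7 = 7 by decide +kernel,
        sgn 1 6 (by decide) (by omega), sgn 1 7 (by decide) (by omega), one_mul, one_mul] at hQ
      have hR := refl_mem_two hT hB (i := 0) (by decide) (show 6 < B2.tbl.n by omega)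
        (show 7 < B2.tbl.n by omega) hvw'
      rw [show B2.tbl.refl 0 6 = 6 by decide +kernel, show B2.tbl.refl 0 7 = 4 by decide +kernel,
        sgn 0 6 (by decide) (by omega), sgn 0 7 (by decide) (by omega), one_mul, one_mul] at hR
      have e := comm_xU (F := F) hT hC (r := 4) (s := 5) (by omega) (by omega) (by omega)
        (by decide +kernel) w' v
      rw [show B2.tbl.commT 4 5 = [(6, 1, 1, 1), (7, -1, 1, 2)] by decide +kernel] at e
      simp only [List.map_cons, List.map_nil, List.prod_cons, List.prod_nil, mul_one, pow_one,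
        Int.cast_one, Int.cast_neg, one_mul, CharTwo.neg_eq] at e
      have hh : B2.tbl.half = 4 := rfl
      set a := B2.tbl.xU F 5 v
      set b := B2.tbl.xU F 4 w'
      set z := B2.tbl.xU F 7 w
      set z' := B2.tbl.xU F 6 v'
      set W := B2.tbl.xU F 6 (w' * v) * B2.tbl.xU F 7 (w' * v ^ 2) with hW
      have c1 : ∀ r t, r = 4 ∨ r = 5 ∨ r = 6 → Commute z (B2.tbl.xU F r t) := fun r t h =>
        hcen 7 (by simp) r (by omega) (by omega) _ _
      have c2 : ∀ r t, r = 4 ∨ r = 5 → Commute z' (B2.tbl.xU F r t) := fun r t h =>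
        hcen 6 (by simp) r (by omega) (by omega) _ _
      have c3 : ∀ r t, r = 4 ∨ r = 5 → Commute W (B2.tbl.xU F r t) := fun r t h =>
        (hcen 6 (by simp) r (by omega) (by omega) _ _).mul_left
          (hcen 7 (by simp) r (by omega) (by omega) _ _)
      have eab : a * b * a⁻¹ * b⁻¹ = W := by
        rw [e]
        rw [mul_assoc (b * a), ((c3 5 v (Or.inr rfl)).inv_right).eq, ← mul_assoc, mul_inv_cancel_right,
          mul_assoc, ((c3 4 w' (Or.inl rfl)).inv_right).eq, ← mul_assoc, mul_inv_cancel, one_mul]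
      have eqr : (a * z) * (z' * b) * (a * z)⁻¹ * (z' * b)⁻¹ = a * b * a⁻¹ * b⁻¹ := by
        have hz1 : z * (z' * b) * z⁻¹ = z' * b := by
          rw [((c1 6 v' (Or.inr (Or.inr rfl))).mul_right (c1 4 w' (Or.inl rfl))).eq, mul_inv_cancel_right]
        calc (a * z) * (z' * b) * (a * z)⁻¹ * (z' * b)⁻¹
            = a * (z * (z' * b) * z⁻¹) * a⁻¹ * (z' * b)⁻¹ := by group
          _ = a * z' * (b * a⁻¹ * b⁻¹) * z'⁻¹ := by rw [hz1]; group
          _ = z' * (a * b * a⁻¹ * b⁻¹) * z'⁻¹ := by rw [show a * z' = z' * a from (c2 5 v (Or.inr rfl)).eq.symm]; group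
          _ = a * b * a⁻¹ * b⁻¹ := by
            rw [((((c2 5 v (Or.inr rfl)).mul_right (c2 4 w' (Or.inl rfl))).mul_right
              (c2 5 v (Or.inr rfl)).inv_right).mul_right (c2 4 w' (Or.inl rfl)).inv_right).eq,
              mul_inv_cancel_right]
      have hmem : W ∈ M := by
        rw [← eab, ← eqr]
        exact mul_mem (mul_mem (mul_mem hQ hR) (inv_mem hQ)) (inv_mem hR)
      show B2.tbl.xU F 6 (v * w') * B2.tbl.xU F 7 (v * v * w') ∈ M
      rw [show v * w' = w' * v by ring, show v * v * w' = w' * v ^ 2 by ring]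
      exact hmem
    set P1 : Set F := {v | ∃ w, V v w}
    set P2 : Set F := {w | ∃ v, V v w}
    have h10 : V 1 0 := by
      show B2.tbl.xU F 6 1 * B2.tbl.xU F 7 0 ∈ M
      rw [xU_zero hT (by omega), mul_one]; exact h1'
    have h01 : V 0 1 := by
      show B2.tbl.xU F 6 0 * B2.tbl.xU F 7 1 ∈ M
      rw [xU_zero hT (by omega), one_mul]; exact h1
    have h21 : P2 ⊆ P1 := fun w ⟨v, h⟩ => ⟨_, by simpa using hprod 1 0 v w h10 h⟩
    have hsq : ∀ v ∈ P1, v ^ 2 ∈ P2 := fun v ⟨w, h⟩ => ⟨v * 1, by simpa [sq] using hprod v w 0 1 h h01⟩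
    have hfin : P1.Finite := by
      have := hB.fin
      have hM : ((M : Set (GL B2.tbl.I F)) ×ˢ (Set.univ : Set Unit)).Finite := Set.toFinite _
      have hsub : ∀ v ∈ P1, ∃ g ∈ M, ∃ w, g = B2.tbl.xU F 6 v * B2.tbl.xU F 7 w :=
        fun v ⟨w, h⟩ => ⟨_, h, w, rfl⟩
      choose! g hg w hw using hsub
      refine Set.Finite.of_injOn (f := g) (t := (M : Set (GL B2.tbl.I F))) hg ?_ (Set.toFinite _)
      intro a ha b hb e
      rw [hw a ha, hw b hb] at e
      exact (xU_mul_inj hT hC (show B2.tbl.half ≤ 6 by decide) (show 6 < B2.tbl.n by omega)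
        (xU_mem_rootGen (P := fun s => 6 + 1 ≤ s) (show 7 < B2.tbl.n by omega) le_rfl _)
        (xU_mem_rootGen (P := fun s => 6 + 1 ≤ s) (show 7 < B2.tbl.n by omega) le_rfl _) e).1
    have h12 : P2 = P1 := eq_of_pow_subset hfin h21 (k := 2)
      (fun a b e => frobenius_inj F 2 (by simpa [frobenius_def] using e)) hsq
    have hmul : ∀ v ∈ P1, ∀ w ∈ P1, v * w ∈ P1 := fun v ⟨_, hv⟩ w hw => by
      obtain ⟨u, hu⟩ := h12.symm ▸ hw
      exact ⟨_, hprod v _ u w hv hu⟩
    have hA1 : A ⊆ P1 := fun t ht => h21 ⟨0, by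
      show B2.tbl.xU F 6 0 * B2.tbl.xU F 7 t ∈ M
      rw [xU_zero hT (by omega), one_mul]; exact ht⟩
    have hdiff : ∀ v w : F, V v w → V v v → w + v ∈ A := fun v w h h' => by
      have hm := mul_mem (inv_mem h') h
      rw [show (B2.tbl.xU F 6 v * B2.tbl.xU F 7 v)⁻¹ * (B2.tbl.xU F 6 v * B2.tbl.xU F 7 w) =
        (B2.tbl.xU F 7 v)⁻¹ * B2.tbl.xU F 7 w by group, xU_inv hT (by omega), xU_add hT (by omega),
        CharTwo.neg_eq, add_comm] at hm
      exact hm
    have hgen : ∀ v ∈ P1, ∀ w ∈ P1, v * v * w + v * w ∈ A := fun v ⟨a, hv⟩ w hw => by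
      obtain ⟨u, hu⟩ := h12.symm ▸ hw
      have h' := hprod v a u w hv hu
      obtain ⟨u', hu'⟩ := h12.symm ▸ hmul v ⟨a, hv⟩ w hw
      have h'' : V (v * w) (v * w) := by simpa using hprod 1 0 u' (v * w) h10 hu'
      exact hdiff _ _ h' h''
    have hPA : P1 ⊆ A := by
      by_cases hsmall : ∀ a ∈ P1, a = 0 ∨ a = 1
      · intro a ha
        rcases hsmall a ha with rfl | rfl
        · exact rootSet_zero hT (by omega)
        · exact h1
      push Not at hsmall
      obtain ⟨v, hv, hv0, hv1⟩ := hsmall
      have hc0 : v * v + v ≠ 0 := by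
        intro e
        rcases mul_eq_zero.mp (show v * (v + 1) = 0 by rw [← e]; ring) with h | h
        · exact hv0 h
        · exact hv1 (CharTwo.add_eq_zero.mp h)
      have hadd : ∀ a ∈ P1, ∀ b ∈ P1, a + b ∈ P1 := fun a ⟨c, ha⟩ b ⟨d, hb⟩ => ⟨c + d, by
        have := mul_mem ha hb
        rw [mul_assoc, ← mul_assoc (B2.tbl.xU F 7 c), (hcen 7 (by simp) 6 (by omega) (by decide) c b).eq,
          mul_assoc, ← mul_assoc, xU_add hT (by omega), xU_add hT (by omega)] at this
        exact this⟩
      have hmap : Set.MapsTo (fun x => (v * v + v) * x) P1 P1 := fun x hx =>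
        hmul _ (hadd _ (hmul v hv v hv) v hv) x hx
      intro e he
      obtain ⟨w, hw, hwe⟩ := ((hfin.injOn_iff_bijOn_of_mapsTo hmap).mp
        (fun a _ b _ h => mul_left_cancel₀ hc0 h)).surjOn he
      rw [← hwe]
      show (v * v + v) * w ∈ A
      rw [add_mul]
      exact hgen v hv w hw
    have hAP : A = P1 := Set.Subset.antisymm hA1 hPA
    have heq : A = A' := by
      refine Set.Subset.antisymm (fun t ht => ?_) fun t ht => hPA ⟨0, by
        show B2.tbl.xU F 6 t * B2.tbl.xU F 7 0 ∈ M
        rw [xU_zero hT (by omega), mul_one]; exact ht⟩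
      have hp2 : t ∈ P2 := h12.symm ▸ hA1 ht
      obtain ⟨u, hu⟩ := hp2
      have h' : V t t := by simpa using hprod 1 0 u t h10 hu
      have := mul_mem h' (inv_mem (show B2.tbl.xU F 7 t ∈ M from ht))
      rwa [mul_inv_cancel_right] at this
    refine ⟨hall heq, fun a ha b hb => hPA (hmul a (hA1 ha) b (hA1 hb)), _,
      exc_of_chk (T := B2.tbl) (es := [6, 7]) (okN := fun N => Nat.beq N.natAbs 1)
      (zeroN := fun N => decide (N % 2 = 0)) (by decide +kernel) (fun N hN => ?_) (fun N hN => ?_),
      fun σ hσ z hz hz' => base_two hT hC σ (by omega) (by decide) (by omega) hσ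
        (fun t v htv => hPA ⟨v, htv⟩) heq.symm (by decide +kernel) hz hz'⟩
    · exact intCast_ne_zero_of_natAbs 2 (prime_not_dvd hp.out (Or.inl (Nat.eq_of_beq_eq_true hN)))
    · exact intCast_eq_zero_of_emod 2 (by simpa using hN)
  · have hd : ¬ p ∣ 2 := fun hd => h2 ((Nat.prime_dvd_prime_iff_eq hp.out Nat.prime_two).mp hd)
    have hpair : ∀ t ∈ A', ∀ u ∈ A', t * u ∈ A := by
      intro t ht u hu
      have h := commWord_mem hT hC (r := 5) (s := 6) (by omega) (by omega) (by omega)
        (by decide +kernel) (M := M) (t := t) (u := u) (by rw [e5]; exact ht) hu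
      rw [show B2.tbl.commT 5 6 = [(7, 2, 1, 1)] by decide +kernel] at h
      simp only [List.map_cons, List.map_nil, List.prod_cons, List.prod_nil, mul_one, pow_one] at h
      have h' : -(((2 : ℕ) : F) * (t * u)) ∈ A := by
        show B2.tbl.xU F 7 _ ∈ M
        convert h using 2
        push_cast; ring
      exact rootSet_div hT p (show 7 < B2.tbl.n by omega) hd
        (by simpa using rootSet_neg hT (show 7 < B2.tbl.n by omega) h')
    have hA'A : A' ⊆ A := fun t ht => by simpa using hpair t ht 1 h1'
    have hAA' : A ⊆ A' := by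
      intro v hv
      have h := commWord_mem hT hC (r := 5) (s := 4) (by omega) (by omega) (by omega)
        (by decide +kernel) (M := M) (t := (-1 : F)) (u := v)
        (by rw [e5]; exact rootSet_neg hT (by omega) h1') (by rw [e4]; exact hv)
      rw [show B2.tbl.commT 5 4 = [(6, -1, 1, 1), (7, -1, 2, 1)] by decide +kernel] at h
      have h' : B2.tbl.xU F 6 (-v) * B2.tbl.xU F 7 (-v) ∈ M := by simpa using h
      have h6 := mul_mem h' (inv_mem (show B2.tbl.xU F 7 (-v) ∈ M from rootSet_neg hT (by omega) hv))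
      rw [mul_inv_cancel_right] at h6
      simpa using rootSet_neg hT (show 6 < B2.tbl.n by omega) h6
    have heq : A = A' := Set.Subset.antisymm hAA' hA'A
    refine ⟨hall heq, fun a ha b hb => hpair a (hAA' ha) b (hAA' hb), _,
      exc_of_chk (T := B2.tbl) (es := [B2.tbl.n - 1])
      (okN := fun N => Nat.beq N.natAbs 1 || Nat.beq N.natAbs 2)
      (zeroN := fun N => decide (N = 0)) (by decide +kernel) (fun N hN => ?_) (fun N hN => ?_),
      fun σ hσ z hz hz' => base_top hT σ (by omega) hσ hz hz'⟩
    · simp only [Bool.or_eq_true, Nat.beq_eq] at hN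
      exact intCast_ne_zero_of_natAbs p (prime_not_dvd hp.out (hN.imp id fun h => Or.inl ⟨h, h2⟩))
    · simp [show N = 0 by simpa using hN]

end CfsgLib.Chevalley.Overgroup
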