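import Cfsg.Agent.Lib.Chevalley.Overgroup.Control

/-!
The conjugates of the highest root element: the certificates of the long roots, and the case of
characteristic two.
-/

set_option autoImplicit false

namespace CfsgLib.Chevalley.Overgroup

open CfsgLib.Chevalley CfsgLib.Chevalley.Tbl
open CfsgLib.KnownB.FieldAut (mapGL map_xU)

/-- `L` holds at the highest root and is closed under the reflections. -/
def chkOrbit (T : Tbl) (L : ℕ → Bool) : Bool :=
  L (T.n - 1) && allLt (fun r => !(L r) || allLt (fun i => L (T.refl i r)) T.rank) T.n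

/-- The highest root commutes with every positive one. -/
def chkTop (T : Tbl) : Bool :=
  Nat.blt 0 T.half && allLt (fun s => !(Nat.ble T.half s) || (T.commT (T.n - 1) s).isEmpty) T.n

variable {T : Tbl} {F : Type*} [Field F]

theorem chkTop_lt (h : chkTop T = true) : T.n - 1 < T.n ∧ T.half ≤ T.n - 1 := by
  simp only [chkTop, Bool.and_eq_true] at h
  have : 0 < T.half := Nat.le_of_ble_eq_true h.1
  unfold Tbl.n
  omega

variable (hT : T.Valid) (hC : T.chkComm = true)
include hT

omit hT in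
theorem orbit_pw (hT : T.Valid) {L : ℕ → Bool} (hL : chkOrbit T L = true) (hn : T.n - 1 < T.n)
    {w : Equiv.Perm (Fin T.n)} (hw : w ∈ T.WP hT) : L (w ⟨T.n - 1, hn⟩).val = true := by
  obtain ⟨l, rfl⟩ := exists_pw hT hw
  simp only [chkOrbit, Bool.and_eq_true] at hL
  induction l with
  | nil => simpa [pw] using hL.1
  | cons i l ih =>
    have h := allLt_iff.mp hL.2 _ (T.pw hT l ⟨T.n - 1, hn⟩).2
    have hi := ih (pw_mem hT l)
    simp only [hi, Bool.not_true, Bool.false_or] at h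
    have h' := allLt_iff.mp h i.val i.2
    exact h'

include hC

theorem top_commute (h : chkTop T = true) (t : F) {g : GL T.I F}
    (hg : g ∈ T.rootGen F (fun r => T.half ≤ r)) : Commute (T.xU F (T.n - 1) t) g := by
  obtain ⟨hn, hp⟩ := chkTop_lt h
  simp only [chkTop, Bool.and_eq_true] at h
  refine central_commute hT hC hn hp (fun s hs hsp c hc => ?_) t hg
  have h' := allLt_iff.mp h.2 s hs
  simp only [Bool.or_eq_true, Bool.not_eq_true', List.isEmpty_iff] at h'
  rw [h'.resolve_left (by simp [hsp])] at hc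
  simp at hc

/-- A conjugate of the highest root element is one of a long root element. -/
theorem exists_conj_form {L : ℕ → Bool} (hL : chkOrbit T L = true) (hTop : chkTop T = true)
    {g : GL T.I F} (hg : g ∈ T.datum.group F) :
    ∃ δ, δ < T.n ∧ L δ = true ∧ ∃ q ∈ T.rootGen F (fun r => T.half ≤ r), ∃ c : Fˣ,
      g * T.xU F (T.n - 1) 1 * g⁻¹ = q * T.xU F δ c * q⁻¹ := by
  obtain ⟨hn, hp⟩ := chkTop_lt hTop
  obtain ⟨b, hb, n, hn', w, hw, hm, u, hu, e⟩ := exists_canonical hT hC hg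
  obtain ⟨q, hq, d, hd, rfl⟩ := (mem_borel_iff hT).mp hb
  rw [posUnipotent_rootGen hT] at hq
  obtain ⟨χ, hχ, rfl⟩ := diag_exists_char hT hd
  obtain ⟨a, ha⟩ := hm.conj ⟨T.n - 1, hn⟩
  set δ := (w ⟨T.n - 1, hn⟩).val with hδ
  have hδn : δ < T.n := (w ⟨T.n - 1, hn⟩).2
  refine ⟨δ, hδn, orbit_pw hT hL hn hw, q, hq, χ δ * a, ?_⟩
  have h1 : n * T.xU F (T.n - 1) 1 = T.xU F δ a * n := by simpa using (ha 1).1
  have h2 : T.dU χ * T.xU F δ a = T.xU F δ ((χ δ * a : Fˣ) : F) * T.dU χ := by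
    rw [dU_conj_X hT hχ hδn, Units.val_mul]
  have h3 : u * T.xU F (T.n - 1) 1 * u⁻¹ = T.xU F (T.n - 1) 1 := by
    rw [← (top_commute hT hC hTop 1 (rootGen_mono (fun r _ h => h.2.1) hu)).eq, mul_inv_cancel_right]
  rw [e]
  calc q * T.dU χ * n * u * T.xU F (T.n - 1) 1 * (q * T.dU χ * n * u)⁻¹
      = q * T.dU χ * n * (u * T.xU F (T.n - 1) 1 * u⁻¹) * (q * T.dU χ * n)⁻¹ := by group
    _ = q * T.dU χ * (n * T.xU F (T.n - 1) 1) * (q * T.dU χ * n)⁻¹ := by rw [h3]; group
    _ = q * (T.dU χ * T.xU F δ a) * (q * T.dU χ)⁻¹ := by rw [h1]; group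
    _ = _ := by rw [h2]; group

/-- A conjugate of the highest root element in `U` lies among the roots from its leading one on. -/
theorem conj_form_pos {q : GL T.I F} (hq : q ∈ T.rootGen F (fun r => T.half ≤ r)) {δ : ℕ}
    (hδ : δ < T.n) (hp : T.half ≤ δ) (c : F) :
    ∃ g ∈ geSub T F (δ + 1), q * T.xU F δ c * q⁻¹ = T.xU F δ c * g := by
  obtain ⟨g, hg, e⟩ := CfsgLib.KnownB.ParabolicFStar.conj_lead hT hC (χ := 1)
    { neg := fun r _ => by simp, add := fun r _ s _ v N _ => by simp } hq hδ hp c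
  refine ⟨g, hg, ?_⟩
  rw [dU_one, mul_one, Pi.one_apply, Units.val_one, one_mul] at e
  exact e

omit hC in
theorem delta_pos {q : GL T.I F} (hq : q ∈ T.rootGen F (fun r => T.half ≤ r)) {δ : ℕ}
    (hδ : δ < T.n) {c : Fˣ} (h : q * T.xU F δ c * q⁻¹ ∈ T.rootGen F (fun r => T.half ≤ r)) :
    T.half ≤ δ := by
  by_contra hp
  have h1 : T.xU F δ c ∈ T.rootGen F (fun r => T.half ≤ r) := by
    have := mul_mem (mul_mem (inv_mem hq) h) hq
    simpa [mul_assoc] using this
  have h2 := eq_one_of_pos_neg hT h1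
    (xU_mem_rootGen (P := fun r => r < T.half) hδ (not_le.mp hp) _)
  rw [← xU_zero hT hδ] at h2
  exact c.ne_zero (xU_inj hT hδ h2)

/-- A conjugate of the highest root element in `U` leads with a root in `L`. -/
theorem conj_top_lead {L : ℕ → Bool} (hL : chkOrbit T L = true) (hTop : chkTop T = true)
    {g : GL T.I F} (hg : g ∈ T.datum.group F) {s : ℕ} (hs : s < T.n) (hsp : T.half ≤ s) {g' : GL T.I F}
    (hg' : g' ∈ geSub T F (s + 1))
    (h : g * T.xU F (T.n - 1) 1 * g⁻¹ = T.xU F s 1 * g') :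
    L s = true ∧ ∃ q ∈ T.rootGen F (fun r => T.half ≤ r), ∃ c : Fˣ,
      T.xU F s 1 * g' = q * T.xU F s c * q⁻¹ := by
  obtain ⟨δ, hδ, hLδ, q, hq, c, e⟩ := exists_conj_form hT hC hL hTop hg
  rw [h] at e
  have hx : T.xU F s 1 ∈ geSub T F s := xU_mem_rootGen (P := fun r => s ≤ r) hs le_rfl _
  have hmem : T.xU F s 1 * g' ∈ geSub T F s :=
    mul_mem hx (rootGen_mono (fun r _ (h : s + 1 ≤ r) => Nat.le_of_succ_le h) hg')
  have hp : T.half ≤ δ := delta_pos hT hq hδ (c := c)
    (e ▸ rootGen_mono (fun r _ (h : s ≤ r) => hsp.trans h) hmem)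
  obtain ⟨g1, hg1, e1⟩ := conj_form_pos hT hC hq hδ hp (c : F)
  have e2 : T.xU F s 1 * g' = T.xU F δ c * g1 := e.trans e1
  rcases lt_trichotomy δ s with hlt | rfl | hgt
  · exfalso
    obtain ⟨h0, -⟩ := xU_mul_inj hT hC hp hδ hg1
      (rootGen_mono (fun r _ (h : s ≤ r) => (by omega : δ + 1 ≤ r)) hmem) (t' := 0)
      (by rw [← e2, xU_zero hT hδ, one_mul])
    exact c.ne_zero h0
  · exact ⟨hLδ, q, hq, c, e⟩
  · exfalso
    obtain ⟨h0, -⟩ := xU_mul_inj hT hC hsp hs hg'
      (mul_mem (xU_mem_rootGen (P := fun r => s + 1 ≤ r) hδ (by omega) _)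
        (rootGen_mono (fun r _ (h : δ + 1 ≤ r) => (by omega : s + 1 ≤ r)) hg1)) (t' := 0)
      (show T.xU F s 1 * g' = T.xU F s 0 * (T.xU F δ c * g1) by rw [e2, xU_zero hT hs, one_mul])
    exact one_ne_zero h0

/-- A short root element is no conjugate of the highest one. -/
theorem short_not_conj {L : ℕ → Bool} (hL : chkOrbit T L = true) (hTop : chkTop T = true) {s : ℕ}
    (hs : s < T.n) (hsp : T.half ≤ s) (hLs : L s = false) :
    ∀ g ∈ T.datum.group F, g * T.xU F (T.n - 1) 1 * g⁻¹ ≠ T.xU F s 1 := by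
  intro g hg h
  have h1 := (conj_top_lead hT hC hL hTop hg hs hsp (one_mem _) (by rw [mul_one]; exact h)).1
  rw [hLs] at h1
  exact Bool.false_ne_true h1

/-- The product of two fundamental root elements is no conjugate of the highest one. -/
theorem pair_not_conj (hSupp : T.chkSupp = true) (hTop : chkTop T = true) {i j : ℕ}
    (hi : i < T.rank) (hj : j < T.rank) (hij : T.simple i < T.simple j) :
    ∀ g ∈ T.datum.group F,
      g * T.xU F (T.n - 1) 1 * g⁻¹ ≠ T.xU F (T.simple i) 1 * T.xU F (T.simple j) 1 := by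
  intro g hg h
  have hsi := simple_lt hT hi
  have hsj := simple_lt hT hj
  have hpi : T.half ≤ T.simple i := isPos_iff.mp (simple_pos hT hi)
  have hL : chkOrbit T (fun _ => true) = true := by simp [chkOrbit, allLt_iff]
  obtain ⟨-, q, hq, c, e⟩ := conj_top_lead hT hC hL hTop hg hsi hpi
    (xU_mem_rootGen (P := fun r => T.simple i + 1 ≤ r) hsj hij _) h
  set J : Set ℕ := {k | k ≠ i}
  set Out : ℕ → Prop := fun r => T.datum.IsPosRoot r ∧ ¬ T.datum.InRootSub J r with hOut
  have hiOut : Out (T.simple i) := ⟨(posRoot_iff hT).mpr ⟨hsi, hpi⟩, fun hh => by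
    have := (supp_inSub hT hSupp hsi).mp hh i hi (fun h => h rfl)
    rw [co_simple hT hi hi, if_pos rfl] at this
    exact one_ne_zero this⟩
  have hjOut : ¬ Out (T.simple j) := fun hh => hh.2 ((supp_inSub hT hSupp hsj).mpr fun k hk hkJ => by
    have hki : k = i := by by_contra hne; exact hkJ hne
    subst hki
    rw [co_simple hT hj hi, if_neg (fun (e : k = j) => by subst e; omega)])
  have hmem : T.xU F (T.simple i) 1 * T.xU F (T.simple j) 1 ∈ T.rootGen F Out := by
    have hN := parabolic_le_normalizer hT hC hSupp J (show q ∈ T.datum.parabolicSubgroup F J from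
      Subgroup.mem_sup_left (Subgroup.mem_sup_left (by rw [posUnipotent_rootGen hT]; exact hq)))
    rw [unipotentRadical_eq hT] at hN
    rw [e]
    exact (Subgroup.mem_normalizer_iff.mp hN _).mp (xU_mem_rootGen (P := Out) hsi hiOut _)
  have hj' : T.xU F (T.simple j) 1 ∈ T.rootGen F Out := by
    have := mul_mem (inv_mem (xU_mem_rootGen (P := Out) hsi hiOut (1 : F))) hmem
    rwa [inv_mul_cancel_left] at this
  have hcl : T.Closed (fun r => r = T.simple j) := fun a _ b _ ha hb hab _ _ _ =>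
    absurd (hb.trans ha.symm) hab
  have h2 := closed_inter_mem hT hC (closed_out hT hSupp J) hcl
    (fun r hr => ((posRoot_iff hT).mp hr.1).2)
    (fun r hr => hr ▸ isPos_iff.mp (simple_pos hT hj)) hj'
    (xU_mem_rootGen (P := fun r => r = T.simple j) hsj rfl 1)
  rw [rootGen_congr (Q := fun _ => False) (fun r _ => by
    simp only [iff_false, not_and]; rintro hr rfl; exact hjOut hr)] at h2
  have h3 : T.rootGen F (fun _ => False) = (⊥ : Subgroup (GL T.I F)) :=
    le_antisymm (rootGen_le fun r _ h _ => h.elim) bot_le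
  rw [h3, Subgroup.mem_bot, ← xU_zero hT hsj] at h2
  exact one_ne_zero (xU_inj hT hsj h2)

variable {M : Subgroup (GL T.I F)} {σ : F →+* F} (hSupp : T.chkSupp = true)
include hSupp

/-- In characteristic two an involution fixed and not conjugate to the highest root element forces
every conjugate of that element to be fixed. -/
theorem Ctrl.conj_top_fixed_two (h : Ctrl T F M σ)
    (hX : CfsgLib.KnownB.ParabolicFStar.chkSpread T = true) (hr : 0 < T.rank) [CharP F 2]
    {e : ℕ} (he : e < T.n) {t : GL T.I F} (htM : t ∈ M) (htσ : mapGL T σ t = t) (ht1 : t ≠ 1)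
    (ht2 : t * t = 1) (hnc : ∀ g ∈ T.datum.group F, g * T.xU F e 1 * g⁻¹ ≠ t)
    {m : GL T.I F} (hm : m ∈ M) :
    mapGL T σ (m * T.xU F e 1 * m⁻¹) = m * T.xU F e 1 * m⁻¹ := by
  have : Fact (Nat.Prime 2) := ⟨Nat.prime_two⟩
  set y := m * T.xU F e 1 * m⁻¹ with hy
  have hyM : y ∈ M := mul_mem (mul_mem hm (h.frame.root_one he)) (inv_mem hm)
  have hy2 : y * y = 1 := by
    rw [hy, show m * T.xU F e 1 * m⁻¹ * (m * T.xU F e 1 * m⁻¹) =
      m * (T.xU F e 1 * T.xU F e 1) * m⁻¹ by group, xU_add hT he, CharTwo.add_self_eq_zero,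
      xU_zero hT he]
    group
  set a := t * y with ha
  have haM : a ∈ M := mul_mem htM hyM
  have hfin : IsOfFinOrder a := by
    have := h.frame.fin
    exact isOfFinOrder_iff_pow_eq_one.mpr ⟨Nat.card ↥M, Nat.card_pos,
      congrArg Subtype.val (pow_card_eq_one' (x := (⟨a, haM⟩ : ↥M)))⟩
  have htinv : t⁻¹ = t := inv_eq_of_mul_eq_one_right ht2
  have hyinv : y⁻¹ = y := inv_eq_of_mul_eq_one_right hy2
  have hta : ∀ i : ℕ, t * a ^ i * t⁻¹ = (a ^ i)⁻¹ := fun i => by
    rw [← _root_.conj_pow, ← inv_pow]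
    congr 1
    rw [ha, mul_inv_rev, htinv, hyinv, ← mul_assoc t t, ht2, one_mul]
  rcases Nat.even_or_odd' (orderOf a) with ⟨k, hk | hk⟩
  · have hkpos : 0 < k := by have := hfin.orderOf_pos; omega
    set z := a ^ k with hz
    have hz2 : z * z = 1 := by rw [hz, ← pow_add, ← two_mul, ← hk, pow_orderOf_eq_one]
    have hz1 : z ≠ 1 := fun e => by
      have := orderOf_dvd_of_pow_eq_one e
      have := Nat.le_of_dvd hkpos this
      omega
    have hzinv : z⁻¹ = z := inv_eq_of_mul_eq_one_right hz2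
    have hzM : z ∈ M := pow_mem haM k
    have hzt : Commute z t := by
      have := hta k
      rw [← hz, hzinv, mul_inv_eq_iff_eq_mul] at this
      exact this.symm
    have hzy : Commute z y := by
      have e : y = t * a := by rw [ha, ← mul_assoc, ht2, one_mul]
      rw [e]
      exact hzt.mul_right ((Commute.refl a).pow_left k)
    have hzσ := h.centralizer_fixed hT hC hSupp hX hr 2 htM htσ ht1 (by rw [pow_two, ht2]) hzM hzt
    exact h.centralizer_fixed hT hC hSupp hX hr 2 hzM hzσ hz1 (by rw [pow_two, hz2]) hyM hzy.symm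
  · exfalso
    have hyt : y = a ^ k * t * (a ^ k)⁻¹ := by
      have h2 : t * a = a⁻¹ * t := by
        have := hta 1
        rwa [pow_one, mul_inv_eq_iff_eq_mul] at this
      have h3 : a⁻¹ = a ^ k * a ^ k := by
        refine inv_eq_of_mul_eq_one_right ?_
        rw [← pow_add, ← pow_succ', ← two_mul, ← hk, pow_orderOf_eq_one]
      have h4 : t * (a ^ k)⁻¹ = a ^ k * t := by
        rw [← hta k, htinv, ← mul_assoc, ← mul_assoc, ht2, one_mul]
      have e : y = t * a := by rw [ha, ← mul_assoc, ht2, one_mul]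
      rw [e, h2, h3]
      calc a ^ k * a ^ k * t = a ^ k * (t * (a ^ k)⁻¹) := by rw [h4, mul_assoc]
        _ = _ := by rw [← mul_assoc]
    refine hnc ((a ^ k)⁻¹ * m) (h.frame.le_group (mul_mem (inv_mem (pow_mem haM k)) hm)) ?_
    calc (a ^ k)⁻¹ * m * T.xU F e 1 * ((a ^ k)⁻¹ * m)⁻¹ = (a ^ k)⁻¹ * y * a ^ k := by rw [hy]; group
      _ = t := by rw [hyt]; group

end CfsgLib.Chevalley.Overgroup
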