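import Cfsg.Agent.Lib.Chevalley.Overgroup.Parabolic
import Cfsg.Agent.Lib.Chevalley.BorelTits.Optimal

/-!
In a finite overgroup the normalizer of a fixed non-trivial `p`-subgroup is fixed, and so is every
element moving the highest root element to a fixed element.
-/

set_option autoImplicit false

namespace CfsgLib.Chevalley.Overgroup

open CfsgLib.Chevalley CfsgLib.Chevalley.Tbl CfsgLib.Chevalley.BorelTits
open CfsgLib.KnownB.FieldAut (mapGL map_xU map_nw map_rootGen map_group)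

variable {T : Tbl} {F : Type*} [Field F] {M : Subgroup (GL T.I F)} {σ : F →+* F}

theorem mapGL_apply (g : GL T.I F) (i j : T.I) :
    (mapGL T σ g : Matrix T.I T.I F) i j = σ ((g : Matrix T.I T.I F) i j) := rfl

theorem map_filt {v : Fin T.rank → ℝ} {g : GL T.I F} (hg : g ∈ filt T F v) :
    mapGL T σ g ∈ filt T F v := by
  refine ⟨fun row col h => hg.1 row col fun h0 => h ?_, fun row col h => hg.2 row col fun h0 => h ?_⟩
  · rw [mapGL_apply, h0, map_zero]
  · rw [← map_inv, mapGL_apply, h0, map_zero]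

theorem map_raises {U : Subgroup (GL T.I F)} (hU : ∀ u ∈ U, mapGL T σ u = u) {g : GL T.I F}
    {v : Fin T.rank → ℝ} {m : ℝ} (h : Raises U g v m) : Raises U (mapGL T σ g) v m := by
  intro u hu row col hne
  refine h u hu row col fun h0 => hne ?_
  rw [← hU u hu, ← map_inv, ← map_mul, ← map_mul, Matrix.sub_apply, mapGL_apply]
  rw [Matrix.sub_apply, sub_eq_zero] at h0
  rw [h0, sub_eq_zero]
  by_cases e : row = col
  · subst e; simp
  · simp [Matrix.one_apply_ne e]

/-- An element respecting a form and lowering it is trivial. -/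
theorem eq_one_of_filt_neg {v : Fin T.rank → ℝ} {g : GL T.I F} (h : g ∈ filt T F v)
    (h' : g ∈ strictSub T F (-v)) : g = 1 := by
  apply Units.ext
  ext row col
  by_contra hne
  have e : ∀ x : T.I, ldeg T (-v) x = -ldeg T v x := fun x => by
    rw [show -v = (-1 : ℝ) • v by simp, ldeg_smul]; ring
  have h1 : ¬ ldeg T (-v) row ≤ ldeg T (-v) col := fun hle => hne (by
    rw [h'.1 row col hle, Units.val_one])
  have hrc : row ≠ col := by rintro rfl; exact h1 le_rfl
  have h2 := h.1 row col (by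
    intro h0; apply hne; rw [h0, Units.val_one, Matrix.one_apply_ne hrc])
  rw [e, e] at h1
  exact h1 (by linarith)

variable (hT : T.Valid) (hC : T.chkComm = true) (hSupp : T.chkSupp = true)
include hT hC hSupp

/-- The normalizer in the overgroup of a fixed `p`-subgroup is fixed. -/
theorem Ctrl.normalizer_fixed (h : Ctrl T F M σ)
    (hX : CfsgLib.KnownB.ParabolicFStar.chkSpread T = true) (hr : 0 < T.rank) (p : ℕ)
    [Fact p.Prime] [CharP F p] {Q : Subgroup (GL T.I F)} (hQM : Q ≤ M) (hQ : IsPGroup p ↥Q)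
    (hne : Q ≠ ⊥) (hQfix : ∀ x ∈ Q, mapGL T σ x = x) {k : GL T.I F} (hk : k ∈ M)
    (hkn : ∀ x ∈ Q, k⁻¹ * x * k ∈ Q) : mapGL T σ k = k := by
  classical
  have := h.frame.fin
  have : Finite ↥Q := Finite.of_injective (Subgroup.inclusion hQM) (Subgroup.inclusion_injective hQM)
  obtain ⟨m0, hm0M, hpos⟩ := h.exists_conj_pos hT hC p hQM hQ
  obtain ⟨v0, hv0, hs0, r0, hr0, h0⟩ := exists_start hT hne hr (g0 := m0)
    (fun u hu => by rw [posUnipotent_rootGen hT]; exact hpos u hu)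
  obtain ⟨R, hR, g, hg, v, ⟨hv, hs⟩, hRg, hmax⟩ :=
    exists_optimal hT hne (h.frame.le_group hm0M) hv0 hs0 hr0 h0
  have hσg : g⁻¹ * mapGL T σ g ∈ filt T F v :=
    (optimal_unique hT hC hne hR hmax hg (map_group σ hT ⟨g, hg, rfl⟩) hv hs hv hs hRg
      (map_raises hQfix hRg)).2
  -- a fixed representative
  obtain ⟨b, hb, n, hn, w, hw, hm, u, hu, e⟩ := exists_canonical hT hC hg
  obtain ⟨l, rfl⟩ := exists_pw hT hw
  have huF : u ∈ filt T F v := borel_le_filt hT hv
    ((rootGen_le fun r hr ⟨_, hp, _⟩ t => pos_le_borel hT hr hp t :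
      T.rootGen F (T.negSet _) ≤ T.datum.borelSubgroup F) hu)
  obtain ⟨u', hu', d, hd, hbe⟩ := (mem_borel_iff hT).mp hb
  rw [posUnipotent_rootGen hT] at hu'
  have hdn : n * (T.nw F l)⁻¹ ∈ T.datum.diagonalSubgroup F := by
    refine mem_diag_of_mono_one hT (mul_mem hn (inv_mem (nw_mem hT l))) ?_
    have := hm.mul (mono_nw (F := F) hT l).inv
    rwa [mul_inv_cancel] at this
  have hmw := mono_nw (F := F) hT l
  set N := T.nw F l with hN
  obtain ⟨a, ha, c, hc, hu'e⟩ := exists_factor hT hC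
    (fun s => T.half ≤ s ∧ ∀ hs : s < T.n, rdeg T v ((T.pw hT l)⁻¹ ⟨s, hs⟩).val < 0)
    (fun s => T.half ≤ s ∧ ∀ hs : s < T.n, 0 ≤ rdeg T v ((T.pw hT l)⁻¹ ⟨s, hs⟩).val)
    (fun s hs hp => by
      rcases lt_or_ge (rdeg T v ((T.pw hT l)⁻¹ ⟨s, hs⟩).val) 0 with h | h
      · exact Or.inl ⟨hp, fun _ => h⟩
      · exact Or.inr ⟨hp, fun _ => h⟩)
    T.half T.half (Nat.two_mul _).symm le_rfl _ hu'
  have hcF : N⁻¹ * c * N ∈ filt T F v := by
    have h1 := conj_mem_rootGen hT hmw.inv (Q := fun s => ∀ hs : s < T.n, 0 ≤ rdeg T v s)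
      (fun s hs _ => hs.2 s.2) hc
    rw [inv_inv] at h1
    exact rootGen_le (fun r hr hr0 t => xU_filt hT hr (hr0 hr) t) h1
  have hdF : N⁻¹ * (d * (n * N⁻¹)) * N ∈ filt T F v := by
    have h1 := conj_diag hT (inv_mem (nw_mem (F := F) hT l)) (mul_mem hd hdn)
    rw [inv_inv] at h1
    exact flat_le_filt v (diag_le_flat hT v h1)
  set f := N⁻¹ * c * N * (N⁻¹ * (d * (n * N⁻¹)) * N) * u with hf
  have hfF : f ∈ filt T F v := mul_mem (mul_mem hcF hdF) huF
  have hge : g = a * N * f := by rw [hf, e, hbe, hu'e]; group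
  have haU : a ∈ T.rootGen F (fun s => T.half ≤ s) := rootGen_mono (fun s _ hs => hs.1) ha
  have haσ : mapGL T σ a = a := by
    have h1 : N⁻¹ * (a⁻¹ * mapGL T σ a) * N ∈ filt T F v := by
      have h2 := mul_mem (mul_mem hfF hσg) (inv_mem (map_filt (σ := σ) hfF))
      rw [hge, map_mul, map_mul, hN, map_nw σ hT l, ← hN] at h2
      convert h2 using 1
      group
    have h3 := conj_mem_rootGen hT hmw.inv (Q := fun s => ∀ hs : s < T.n, rdeg T v s < 0)
      (fun s hs _ => hs.2 s.2) (mul_mem (inv_mem ha) (map_rootGen σ hT _ ⟨a, ha, rfl⟩))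
    rw [inv_inv] at h3
    have h4 : N⁻¹ * (a⁻¹ * mapGL T σ a) * N ∈ strictSub T F (-v) :=
      rootGen_le (fun r hr hr0 t => xU_strict hT hr (by
        rw [show -v = (-1 : ℝ) • v by simp, rdeg_smul]
        have := hr0 hr
        linarith) t) h3
    have h5 := eq_one_of_filt_neg h1 h4
    have h6 : a⁻¹ * mapGL T σ a = 1 := by
      have : a⁻¹ * mapGL T σ a = N * (N⁻¹ * (a⁻¹ * mapGL T σ a) * N) * N⁻¹ := by group
      rw [this, h5]; group
    exact (inv_mul_eq_one.mp h6).symm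
  set g' := a * N with hg'
  have hg'σ : mapGL T σ g' = g' := by rw [hg', map_mul, haσ, hN, map_nw σ hT l]
  have hg'M : g' ∈ M := mul_mem (h.frame.fixed_mem hT hC haU haσ) (h.frame.nw_mem hT l)
  -- the normalizer moves into a parabolic subgroup
  have hkR : Raises Q (k * g) v R := by
    intro x hx
    have := hRg _ (hkn x hx)
    rwa [show g⁻¹ * (k⁻¹ * x * k) * g = (k * g)⁻¹ * x * (k * g) by group] at this
  have hkF := (optimal_unique hT hC hne hR hmax hg (mul_mem (h.frame.le_group hk) hg) hv hs hv hs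
    hRg hkR).2
  have hk'F : g'⁻¹ * k * g' ∈ filt T F v := by
    have h1 := mul_mem (mul_mem hfF hkF) (inv_mem hfF)
    rw [hge] at h1
    convert h1 using 1
    group
  have hk'M : g'⁻¹ * k * g' ∈ M := mul_mem (mul_mem (inv_mem hg'M) hk) hg'M
  let J : Set ℕ := {i | ∀ hi : i < T.rank, v ⟨i, hi⟩ = 0}
  have hJ : ∃ i, i < T.rank ∧ i ∉ J := by
    by_contra hno
    push Not at hno
    have h0 : ∀ i, v i = 0 := fun i => hno i.val i.2 i.2
    have : sqSum T v = 0 := Finset.sum_eq_zero fun r _ => by simp [rdeg, h0]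
    rw [this] at hs
    exact zero_ne_one hs
  have hfix := h.parabolic_fixed hT hC hSupp hX hJ hk'M
    (filt_inf_group_le hT hC hv (J := J) (fun i hi (_ : i.val < T.rank) => hi) ⟨hk'F, h.frame.le_group hk'M⟩)
  rw [map_mul, map_mul, map_inv, hg'σ] at hfix
  exact mul_left_cancel (mul_right_cancel hfix)

/-- The centralizer in the overgroup of a fixed element of prime order `p` is fixed. -/
theorem Ctrl.centralizer_fixed (h : Ctrl T F M σ)
    (hX : CfsgLib.KnownB.ParabolicFStar.chkSpread T = true) (hr : 0 < T.rank) (p : ℕ)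
    [Fact p.Prime] [CharP F p] {y : GL T.I F} (hyM : y ∈ M) (hy : mapGL T σ y = y) (hy1 : y ≠ 1)
    (hyp : y ^ p = 1) {k : GL T.I F} (hk : k ∈ M) (hc : Commute k y) : mapGL T σ k = k := by
  refine h.normalizer_fixed hT hC hSupp hX hr p (Q := Subgroup.zpowers y)
    (Subgroup.zpowers_le.mpr hyM) ?_ (by simpa using hy1) ?_ hk ?_
  · intro g
    obtain ⟨i, hi⟩ := Subgroup.mem_zpowers_iff.mp g.2
    refine ⟨1, Subtype.ext ?_⟩
    rw [SubmonoidClass.coe_pow, ← hi, pow_one, ← zpow_natCast, ← zpow_mul, mul_comm, zpow_mul,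
      zpow_natCast, hyp, one_zpow]
    rfl
  · rintro x hx
    obtain ⟨i, rfl⟩ := Subgroup.mem_zpowers_iff.mp hx
    rw [map_zpow, hy]
  · rintro x hx
    obtain ⟨i, rfl⟩ := Subgroup.mem_zpowers_iff.mp hx
    rw [show k⁻¹ * y ^ i * k = y ^ i by
      rw [mul_assoc, ← (hc.zpow_right i).eq, inv_mul_cancel_left]]
    exact Subgroup.zpow_mem _ (Subgroup.mem_zpowers y) i

/-- An element moving the highest root element to a fixed element is fixed. -/
theorem Ctrl.fixed_of_conj_top (h : Ctrl T F M σ)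
    (hX : CfsgLib.KnownB.ParabolicFStar.chkSpread T = true) (hr : 0 < T.rank) (p : ℕ)
    [Fact p.Prime] [CharP F p] {e : ℕ} (he : e < T.n)
    (hcen : ∀ g ∈ T.rootGen F (fun r => T.half ≤ r), Commute (T.xU F e 1) g) {m : GL T.I F}
    (hm : m ∈ M) (hy : mapGL T σ (m * T.xU F e 1 * m⁻¹) = m * T.xU F e 1 * m⁻¹) :
    mapGL T σ m = m := by
  set y := m * T.xU F e 1 * m⁻¹ with hyd
  have hyM : y ∈ M := mul_mem (mul_mem hm (h.frame.root_one he)) (inv_mem hm)
  have hy1 : y ≠ 1 := by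
    rw [hyd, ne_eq, conj_eq_one_iff, ← xU_zero (F := F) hT he]
    exact fun h => one_ne_zero (xU_inj hT he h)
  have hyp : y ^ p = 1 := by
    rw [hyd, _root_.conj_pow, conj_eq_one_iff]
    have : ∀ k : ℕ, T.xU F e 1 ^ k = T.xU F e (k : F) := fun k => by
      induction k with
      | zero => simp [xU_zero hT he]
      | succ k ih => rw [pow_succ, ih, xU_add hT he]; simp
    rw [this, CharP.cast_eq_zero, xU_zero hT he]
  set V := M ⊓ T.rootGen F (fun r => T.half ≤ r) with hV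
  set Q2 := V.map (MulAut.conj m).toMonoidHom with hQ2
  have hQ2fix : ∀ x ∈ Q2, mapGL T σ x = x := by
    rintro _ ⟨v, ⟨hvM, hvU⟩, rfl⟩
    show mapGL T σ (m * v * m⁻¹) = m * v * m⁻¹
    refine h.centralizer_fixed hT hC hSupp hX hr p hyM hy hy1 hyp
      (mul_mem (mul_mem hm hvM) (inv_mem hm)) ?_
    show _ = _
    rw [hyd]
    calc m * v * m⁻¹ * (m * T.xU F e 1 * m⁻¹) = m * (v * T.xU F e 1) * m⁻¹ := by group
      _ = m * (T.xU F e 1 * v) * m⁻¹ := by rw [(hcen v hvU).eq]
      _ = _ := by group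
  set H := M ⊓ MonoidHom.eqLocus (mapGL T σ) (MonoidHom.id _) with hH
  have := h.frame.fin
  have hfr : Frame T F H σ :=
    { fin := Finite.of_injective (Subgroup.inclusion (inf_le_left : H ≤ M))
        (Subgroup.inclusion_injective _)
      le_group := inf_le_left.trans h.frame.le_group
      root_iff := fun r hr t => ⟨fun hh => (h.frame.root_iff r hr t).mp hh.1,
        fun ht => ⟨(h.frame.root_iff r hr t).mpr ht, by
          show mapGL T σ _ = _
          rw [map_xU σ hT hr, ht]; rfl⟩⟩ }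
  have hctrl : Ctrl T F H σ := ⟨hfr, fun g hg _ => hg.2, fun g hg _ => hg.2⟩
  have hQ2H : Q2 ≤ H := fun x hx => ⟨by
    obtain ⟨v, hv, rfl⟩ := hx
    show m * v * m⁻¹ ∈ M
    exact mul_mem (mul_mem hm hv.1) (inv_mem hm), hQ2fix x hx⟩
  have hQ2p : IsPGroup p ↥Q2 := by
    rintro ⟨_, v, hv, rfl⟩
    obtain ⟨j, hj⟩ := pos_pow_eq_one hT p hv.2
    exact ⟨j, Subtype.ext (by
      show (MulAut.conj m).toMonoidHom v ^ p ^ j = 1
      rw [← map_pow, hj, map_one])⟩
  obtain ⟨k, hk, hkQ⟩ := hctrl.exists_conj_pos hT hC p hQ2H hQ2p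
  have hkmM : k⁻¹ * m ∈ M := mul_mem (inv_mem hk.1) hm
  have hB : k⁻¹ * m ∈ T.datum.borelSubgroup F := by
    refine mem_borel_of_conj hT hC (h.frame.le_group hkmM) fun i hi => Subgroup.mem_sup_left ?_
    rw [posUnipotent_rootGen hT, show k⁻¹ * m * T.xU F (T.simple i) 1 * (k⁻¹ * m)⁻¹ =
      k⁻¹ * (m * T.xU F (T.simple i) 1 * m⁻¹) * k by group]
    exact hkQ _ ⟨_, ⟨h.frame.root_one (simple_lt hT hi),
      xU_mem_rootGen (P := fun r => T.half ≤ r) (simple_lt hT hi)
        (isPos_iff.mp (simple_pos hT hi)) 1⟩, rfl⟩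
  have := h.borel_fixed _ hkmM hB
  rw [map_mul, map_inv, show mapGL T σ k = k from hk.2] at this
  exact mul_left_cancel this

end CfsgLib.Chevalley.Overgroup
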