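import Mathlib.FieldTheory.Finite.GaloisField
import Mathlib.FieldTheory.IsAlgClosed.Basic

/-!
Containments of the fields fixed by powers of the Frobenius.
-/

set_option autoImplicit false

namespace CfsgLib.Chevalley.Overgroup

open Polynomial

variable {F : Type*} [Field F] (p : ℕ) [Fact p.Prime] [CharP F p]

/-- If the fixed field of `p ^ a` is split and lies in that of `p ^ m` then `a` divides `m`. -/
theorem dvd_of_fixed {a m : ℕ} (ha : 1 ≤ a) (hs : (X ^ p ^ a - X : F[X]).Splits)
    (h : ∀ t : F, t ^ p ^ a = t → t ^ p ^ m = t) : a ∣ m := by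
  classical
  have hp := (Fact.out : p.Prime)
  have hb : ∀ t : F, t ^ p ^ a = t → t ^ p ^ (m % a) = t := by
    intro t ht
    have hit : ∀ j : ℕ, t ^ p ^ (a * j) = t := fun j => by
      induction j with
      | zero => simp
      | succ j ih => rw [Nat.mul_succ, pow_add, pow_mul, ih, ht]
    have := h t ht
    rwa [show m = a * (m / a) + m % a from (Nat.div_add_mod m a).symm, pow_add, pow_mul, hit] at this
  by_contra hne
  set b := m % a with hbd
  have hb0 : b ≠ 0 := fun e => hne (Nat.dvd_of_mod_eq_zero e)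
  have hlt : p ^ b < p ^ a := Nat.pow_lt_pow_right hp.one_lt (Nat.mod_lt _ (by omega))
  have h1a : 1 < p ^ a := Nat.one_lt_pow (by omega) hp.one_lt
  have h1b : 1 < p ^ b := Nat.one_lt_pow hb0 hp.one_lt
  have hsep : (X ^ p ^ a - X : F[X]).Separable :=
    galois_poly_separable p (p ^ a) (dvd_pow_self p (by omega))
  have hcard : (X ^ p ^ a - X : F[X]).roots.toFinset.card = p ^ a := by
    rw [Multiset.toFinset_card_of_nodup (nodup_roots hsep), ← hs.natDegree_eq_card_roots,
      FiniteField.X_pow_card_sub_X_natDegree_eq F h1a]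
  have hsub : (X ^ p ^ a - X : F[X]).roots.toFinset ⊆ (X ^ p ^ b - X : F[X]).roots.toFinset := by
    intro t ht
    rw [Multiset.mem_toFinset, mem_roots (FiniteField.X_pow_card_sub_X_ne_zero F h1a)] at ht
    rw [Multiset.mem_toFinset, mem_roots (FiniteField.X_pow_card_sub_X_ne_zero F h1b)]
    simp only [IsRoot, eval_sub, eval_pow, eval_X, sub_eq_zero] at ht ⊢
    exact hb t ht
  have hle := (Finset.card_le_card hsub).trans
    ((Multiset.toFinset_card_le _).trans (card_roots' _))
  rw [hcard, FiniteField.X_pow_card_sub_X_natDegree_eq F h1b] at hle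
  omega

/-- Over an algebraically closed field. -/
theorem exists_mul_of_fixed [IsAlgClosed F] {a m : ℕ} (ha : 1 ≤ a) (hm : 0 < m)
    (h : ∀ t : F, t ^ p ^ a = t → t ^ p ^ m = t) : ∃ r, 1 ≤ r ∧ m = a * r := by
  obtain ⟨r, rfl⟩ := dvd_of_fixed p ha (IsAlgClosed.splits _) h
  exact ⟨r, Nat.pos_of_mul_pos_left hm, rfl⟩

/-- Between a finite field and its subfield of prime degree there is no third field. -/
theorem eq_or_all_fixed [Fintype F] {a r m : ℕ} (ha : 1 ≤ a) (hr : r.Prime)
    (hK : Fintype.card F = (p ^ a) ^ r) (h : ∀ t : F, t ^ p ^ a = t → t ^ p ^ m = t) :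
    (∀ t : F, t ^ p ^ m = t → t ^ p ^ a = t) ∨ (∀ t : F, t ^ p ^ m = t) := by
  classical
  have hp := (Fact.out : p.Prime)
  have hq : 1 < Fintype.card F := Fintype.one_lt_card
  have hsplit : (X ^ p ^ a - X : F[X]).Splits := by
    have hall : (X ^ Fintype.card F - X : F[X]).Splits := by
      rw [Polynomial.splits_iff_card_roots, FiniteField.roots_X_pow_card_sub_X,
        FiniteField.X_pow_card_sub_X_natDegree_eq F hq]
      exact Finset.card_univ
    refine hall.of_dvd (FiniteField.X_pow_card_sub_X_ne_zero F hq) ?_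
    rw [hK, ← pow_mul]
    exact dvd_pow_pow_sub_self_of_dvd (dvd_mul_right a r)
  set d := Nat.gcd m (a * r) with hd
  have had : a ∣ d := Nat.dvd_gcd (dvd_of_fixed p ha hsplit h) (dvd_mul_right a r)
  obtain ⟨s, hs⟩ := had
  have hsr : s ∣ r := Nat.dvd_of_mul_dvd_mul_left (by omega : 0 < a) (hs ▸ Nat.gcd_dvd_right m (a * r))
  have hall : ∀ t : F, Function.IsPeriodicPt (fun x : F => x ^ p) (a * r) t := fun t => by
    show (fun x : F => x ^ p)^[a * r] t = t
    rw [pow_iterate, pow_mul, ← hK]
    exact FiniteField.pow_card t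
  rcases (Nat.dvd_prime hr).mp hsr with rfl | rfl
  · refine Or.inl fun t ht => ?_
    have hm' : Function.IsPeriodicPt (fun x : F => x ^ p) m t := by
      show (fun x : F => x ^ p)^[m] t = t
      rwa [pow_iterate]
    have := hm'.gcd (hall t)
    rw [← hd, hs, mul_one] at this
    have e : (fun x : F => x ^ p)^[a] t = t := this
    rwa [pow_iterate] at e
  · refine Or.inr fun t => ?_
    obtain ⟨c, hc⟩ : a * s ∣ m := hs ▸ Nat.gcd_dvd_left m (a * s)
    have e : (fun x : F => x ^ p)^[m] t = t := by
      rw [hc]; exact (hall t).mul_const c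
    rwa [pow_iterate] at e

end CfsgLib.Chevalley.Overgroup
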