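import Cfsg.Agent.Lib.Chevalley.Overgroup.Order
import Cfsg.Agent.Lib.Chevalley.Subfield
import Cfsg.Agent.Lib.KnownB.ParabolicFStar

/-!
A finite overgroup of the group over a subfield: its intersections with `U` and `B` are fixed by
the field map that describes its root elements.
-/

set_option autoImplicit false

namespace CfsgLib.Chevalley.Overgroup

open CfsgLib.Chevalley CfsgLib.Chevalley.Tbl
open CfsgLib.KnownB.FieldAut (mapGL map_xU map_nU map_nw map_rootGen map_group)
open scoped commutatorElement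

/-- A finite group of the Chevalley group whose root elements are those fixed by `σ`. -/
structure Frame (T : Tbl) (F : Type*) [Field F] (M : Subgroup (GL T.I F)) (σ : F →+* F) : Prop where
  fin : Finite ↥M
  le_group : M ≤ T.datum.group F
  root_iff : ∀ r < T.n, ∀ t, T.xU F r t ∈ M ↔ σ t = t

/-- The exceptional positive roots: central in `U` over the field, each moved out by a reflection. -/
structure Exc (T : Tbl) (F : Type*) [Field F] (E : ℕ → Prop) : Prop where
  pos : ∀ e, E e → T.half ≤ e ∧ e < T.n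
  central : ∀ e, E e → ∀ s < T.n, T.half ≤ s → ∀ c ∈ T.commT e s, (c.2.1 : F) = 0
  next : ∀ r < T.n, T.half ≤ r → ¬ E r → ∃ s < T.n, T.half ≤ s ∧
    ∃ u N, T.sum? r s = some (u, N) ∧ (N : F) ≠ 0
  abelian : ∀ a b, E a → E b → T.commT a b = []
  move : ∀ e, E e → ∃ i < T.rank, ¬ E (T.refl i e) ∧ (∀ a, E a → T.half ≤ T.refl i a) ∧
    ∀ a b, E a → E b → T.commT (T.refl i a) (T.refl i b) = []

variable {T : Tbl} {F : Type*} [Field F] {M : Subgroup (GL T.I F)} {σ : F →+* F}

theorem Frame.root_one (h : Frame T F M σ) {r : ℕ} (hr : r < T.n) : T.xU F r 1 ∈ M :=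
  (h.root_iff r hr 1).mpr (map_one σ)

variable (hT : T.Valid)
include hT

theorem Frame.nU_mem (h : Frame T F M σ) {r : ℕ} (hr : r < T.n) : T.nU F r 1 ∈ M := by
  refine mul_mem (mul_mem (h.root_one hr) ((h.root_iff _ (neg_lt' hr) _).mpr ?_)) (h.root_one hr)
  simp

theorem Frame.nw_mem (h : Frame T F M σ) (l : List (Fin T.rank)) : T.nw F l ∈ M := by
  induction l with
  | nil => exact one_mem _
  | cons i l ih => exact mul_mem (h.nU_mem hT (simple_lt hT i.2)) ih

variable (hC : T.chkComm = true)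
include hC

theorem fixed_coords {f : ℕ → F} (h : mapGL T σ (T.uProd f T.half T.half) = T.uProd f T.half T.half)
    {r : ℕ} (hr : T.half ≤ r) (hrn : r < T.n) : σ (f r) = f r := by
  rw [map_uProd hT σ f (Nat.two_mul _).ge] at h
  exact uProd_inj hT hC T.half T.half (Nat.two_mul _).symm le_rfl _ _ h r hr hrn

/-- A fixed element of `U` lies in the overgroup. -/
theorem Frame.fixed_mem (h : Frame T F M σ) {g : GL T.I F}
    (hg : g ∈ T.rootGen F (fun r => T.half ≤ r)) (e : mapGL T σ g = g) : g ∈ M := by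
  obtain ⟨f, rfl⟩ := exists_uProd hT hC T.half T.half (Nat.two_mul _).symm le_rfl g hg
  refine list_prod_mem fun y hy => ?_
  obtain ⟨r, hr, rfl⟩ := List.mem_map.mp hy
  simp only [List.mem_range'_1] at hr
  have hrn : r < T.n := by have : T.n = 2 * T.half := rfl; omega
  exact (h.root_iff r hrn _).mpr (fixed_coords hT hC e hr.1 hrn)

omit hC in
/-- Zero coordinates before `k` may be left out. -/
theorem uProd_drop (f : ℕ → F) : ∀ m k j, j + k + m = T.n → T.half ≤ j →
    (∀ r, j ≤ r → r < j + k → f r = 0) → T.uProd f j (k + m) = T.uProd f (j + k) m := by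
  intro m k
  induction k with
  | zero => intro j _ _ _; simp
  | succ k ih =>
    intro j hn hj hf
    rw [show k + 1 + m = k + m + 1 by omega, uProd_succ, hf j le_rfl (by omega),
      xU_zero hT (by omega), one_mul, ih (j + 1) (by omega) (by omega)
        fun r h1 h2 => hf r (by omega) (by omega),
      show j + 1 + k = j + (k + 1) by omega]

omit hC in
theorem uProd_drop' {f : ℕ → F} {k : ℕ} (hk : T.half ≤ k) (hkn : k ≤ T.n)
    (hf : ∀ r, T.half ≤ r → r < k → f r = 0) :
    T.uProd f T.half T.half = T.uProd f k (T.n - k) := by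
  have h2 : T.n = 2 * T.half := rfl
  have := uProd_drop hT f (T.n - k) (k - T.half) T.half (by omega) le_rfl
    fun r h1 h2 => hf r h1 (by omega)
  rwa [show k - T.half + (T.n - k) = T.half by omega, show T.half + (k - T.half) = k by omega] at this

/-- An element of `U` is a central part times the rest. -/
theorem split_exc {E : ℕ → Prop} [DecidablePred E] (hE : Exc T F E) (f : ℕ → F) :
    T.uProd f T.half T.half =
      T.uProd (fun r => if E r then 0 else f r) T.half T.half *
        T.uProd (fun r => if E r then f r else 0) T.half T.half := by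
  rw [uProd_add_central hT hC (E := E) (fun e _ _ he => hE.central e he) (fun r hr => by
    by_contra hne; simp [hne] at hr) T.half T.half (Nat.two_mul _).symm le_rfl]
  congr 1
  funext r
  simp only [Pi.add_apply]
  split_ifs <;> simp

theorem exc_commute {E : ℕ → Prop} (hE : Exc T F E) {g : ℕ → F} (hg : ∀ r, g r ≠ 0 → E r) {x : GL T.I F}
    (hx : x ∈ T.rootGen F (fun r => T.half ≤ r)) :
    Commute (T.uProd g T.half T.half) x := by
  refine Commute.list_prod_left _ _ fun y hy => ?_
  obtain ⟨r, hr, rfl⟩ := List.mem_map.mp hy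
  simp only [List.mem_range'_1] at hr
  have hrn : r < T.n := by have : T.n = 2 * T.half := rfl; omega
  by_cases h0 : g r = 0
  · rw [h0, xU_zero hT hrn]; exact Commute.one_left x
  · exact central_commute hT hC hrn hr.1 (hE.central r (hg r h0)) _ hx

variable (hS : T.chkSorted = true)
include hS

theorem comm_lead_uProd {E : ℕ → Prop} [DecidablePred E] (hE : Exc T F E) {f : ℕ → F} {k : ℕ}
    (hk : T.half ≤ k) (hkn : k < T.n) (hkE : ¬ E k) (hf : ∀ r, T.half ≤ r → r < k → ¬ E r → f r = 0)
    {s u : ℕ} {N : ℤ} (hs : s < T.n) (hsp : T.half ≤ s) (h : T.sum? k s = some (u, N)) :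
    ∃ g' ∈ geSub T F (u + 1), ⁅T.uProd f T.half T.half, T.xU F s 1⁆ = T.xU F u ((N : F) * f k) * g' := by
  have hx : T.xU F s 1 ∈ T.rootGen F (fun r => T.half ≤ r) :=
    xU_mem_rootGen (P := fun r => T.half ≤ r) hs hsp 1
  have hA : ∀ g : ℕ → F, T.uProd g T.half T.half ∈ T.rootGen F (fun r => T.half ≤ r) := fun g =>
    uProd_mem hT g T.half T.half (Nat.two_mul _).symm
  rw [split_exc hT hC hE f]
  set A := T.uProd (fun r => if E r then 0 else f r) T.half T.half with hAdef
  set B := T.uProd (fun r => if E r then f r else 0) T.half T.half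
  have hB : ∀ x ∈ T.rootGen F (fun r => T.half ≤ r), Commute B x := fun x hx =>
    exc_commute hT hC hE (fun r hr => by by_contra hne; simp [hne] at hr) hx
  have e : ⁅A * B, T.xU F s 1⁆ = ⁅A, T.xU F s 1⁆ := by
    simp only [commutatorElement_def, mul_inv_rev]
    rw [mul_assoc A B, (hB _ hx).eq]
    group
  rw [e, hAdef, uProd_drop' hT hk hkn.le (fun r h1 h2 => by
    split_ifs with hr
    · rfl
    · exact hf r h1 h2 hr)]
  obtain ⟨m, hm⟩ : ∃ m, T.n - k = m + 1 := ⟨T.n - k - 1, by omega⟩
  rw [hm, uProd_succ, if_neg hkE]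
  exact comm_lead hT hC hS hkn hk hs hsp h (f k) (uProd_mem hT _ m (k + 1) (by omega))

/-- The overgroup meets `U` in fixed elements. -/
theorem Frame.pos_fixed (h : Frame T F M σ) {E : ℕ → Prop} (hE : Exc T F E)
    (hbase : ∀ z ∈ M, z ∈ T.rootGen F E → mapGL T σ z = z) {g : GL T.I F} (hgM : g ∈ M)
    (hg : g ∈ T.rootGen F (fun r => T.half ≤ r)) : mapGL T σ g = g := by
  classical
  have h2 : T.half + T.half = T.n := (Nat.two_mul _).symm
  have key : ∀ m k, k + m = T.n → T.half ≤ k → ∀ f : ℕ → F,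
      (∀ r, T.half ≤ r → r < k → ¬ E r → f r = 0) → T.uProd f T.half T.half ∈ M →
      mapGL T σ (T.uProd f T.half T.half) = T.uProd f T.half T.half := by
    intro m
    induction m with
    | zero =>
      intro k hkm _ f hf hfM
      exact hbase _ hfM (uProd_mem_of_support hT _ _ h2 f fun r h1 h2 h3 => hf r h1 (by omega) h3)
    | succ m ih =>
      intro k hkm hk f hf hfM
      by_cases hkE : E k
      · refine ih (k + 1) (by omega) (by omega) f (fun r h1 h2 h3 => ?_) hfM
        rcases Nat.lt_or_ge r k with hlt | hge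
        · exact hf r h1 hlt h3
        · exact absurd ((show r = k by omega) ▸ hkE) h3
      obtain ⟨s, hs, hsp, u, N, hsum, hN⟩ := hE.next k (by omega) hk hkE
      obtain ⟨g', hg', e⟩ := comm_lead_uProd hT hC hS hE hk (by omega) hkE hf hs hsp hsum
      have hu := sum?_lt hT (show k < T.n by omega) hs hsum
      have hku : k < u := sum?_pos_left hT hs (show k < T.n by omega)
        (sum?_symm hT (show k < T.n by omega) hs hsum) (isPos_iff.mpr hsp)
      have hcM : ⁅T.uProd f T.half T.half, T.xU F s 1⁆ ∈ M :=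
        mul_mem (mul_mem (mul_mem hfM (h.root_one hs)) (inv_mem hfM)) (inv_mem (h.root_one hs))
      rw [e] at hcM
      have hmem : T.xU F u ((N : F) * f k) * g' ∈ geSub T F u :=
        mul_mem (xU_mem_rootGen (P := fun r => u ≤ r) hu le_rfl _)
          (rootGen_mono (fun r _ (hr : u + 1 ≤ r) => Nat.le_of_succ_le hr) hg')
      obtain ⟨f1, hf1⟩ := exists_uProd hT hC (T.n - u) u (by omega) (by omega) _ hmem
      let f1' : ℕ → F := fun r => if u ≤ r then f1 r else 0
      have hf1' : T.uProd f1' T.half T.half = T.xU F u ((N : F) * f k) * g' := by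
        rw [uProd_drop' hT (show T.half ≤ u by omega) hu.le (fun r _ hr => if_neg (by omega)), hf1]
        refine congrArg List.prod (List.map_congr_left fun r hr => ?_)
        simp only [List.mem_range'_1] at hr
        simp only [f1', if_pos hr.1]
      have hfix := ih (k + 1) (by omega) (by omega) f1' (fun r _ hr _ => if_neg (by omega))
        (hf1' ▸ hcM)
      rw [hf1', map_mul, map_xU σ hT hu] at hfix
      obtain ⟨e1, -⟩ := xU_mul_inj hT hC (show T.half ≤ u by omega) hu
        (map_rootGen σ hT _ ⟨g', hg', rfl⟩) hg' hfix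
      have hfk : σ (f k) = f k := by
        rw [map_mul, map_intCast] at e1
        exact mul_left_cancel₀ hN e1
      have hxk : T.xU F k (f k) ∈ M := (h.root_iff k (by omega) _).mpr hfk
      let fA : ℕ → F := fun r => if E r then 0 else f r
      let fB : ℕ → F := fun r => if E r then f r else 0
      let fA' : ℕ → F := fun r => if r = k then 0 else fA r
      have hsum1 : fA + fB = f := funext fun r => by
        simp only [fA, fB, Pi.add_apply]; split_ifs <;> simp
      have hAzero : ∀ r, T.half ≤ r → r < k → fA r = 0 := fun r h1 h2 => by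
        simp only [fA]; split_ifs with hr
        · rfl
        · exact hf r h1 h2 hr
      have hA : T.uProd fA T.half T.half = T.xU F k (f k) * T.uProd fA' T.half T.half := by
        rw [uProd_drop' hT hk (by omega) hAzero,
          uProd_drop' hT (f := fA') (show T.half ≤ k + 1 by omega) (by omega) (fun r h1 h2 => by
            simp only [fA']; split_ifs with hr
            · rfl
            · exact hAzero r h1 (by omega)),
          show T.n - k = (T.n - (k + 1)) + 1 by omega, uProd_succ]
        have hk0 : fA k = f k := if_neg hkE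
        rw [hk0]
        congr 1
        refine congrArg List.prod (List.map_congr_left fun r hr => ?_)
        simp only [List.mem_range'_1] at hr
        simp only [fA', if_neg (show r ≠ k by omega)]
      have hBsupp : ∀ r, fB r ≠ 0 → E r := fun r hr => by
        by_contra hne; exact hr (if_neg hne)
      have hadd := fun a : ℕ → F => uProd_add_central hT hC (E := E)
        (fun e _ _ he => hE.central e he) hBsupp T.half T.half h2 le_rfl a
      have hfeq : T.uProd f T.half T.half = T.xU F k (f k) * T.uProd (fA' + fB) T.half T.half := by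
        conv_lhs => rw [← hsum1]
        rw [← hadd fA, ← hadd fA', hA, mul_assoc]
      have hrest : mapGL T σ (T.uProd (fA' + fB) T.half T.half) = T.uProd (fA' + fB) T.half T.half := by
        refine ih (k + 1) (by omega) (by omega) _ (fun r h1 h2 h3 => ?_) ?_
        · simp only [Pi.add_apply, fA', fB, if_neg h3, add_zero]
          split_ifs with hr
          · rfl
          · exact hAzero r h1 (by omega)
        · have := mul_mem (inv_mem hxk) hfM
          rwa [hfeq, inv_mul_cancel_left] at this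
      rw [hfeq, map_mul, hrest, map_xU σ hT (by omega), hfk]
  obtain ⟨f, rfl⟩ := exists_uProd hT hC T.half T.half h2 le_rfl g hg
  exact key T.half T.half h2 le_rfl f (fun r h1 h2 _ => absurd h1 (by omega)) hgM

omit hC hS in
theorem map_dU (χ : ℕ → Fˣ) :
    mapGL T σ (T.dU χ) = T.dU (fun r => Units.map (σ : F →* F) (χ r)) := by
  apply Units.ext
  show σ.mapMatrix ((T.dU χ : GL T.I F) : Matrix T.I T.I F) = _
  rw [dU_val, dU_val, RingHom.mapMatrix_apply, Matrix.diagonal_map (map_zero σ)]
  congr 1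
  funext x
  rcases x with i | s
  · simp [scale]
  · simp [scale]

/-- The overgroup meets `B` in fixed elements. -/
theorem Frame.borel_fixed (h : Frame T F M σ) {E : ℕ → Prop} (hE : Exc T F E)
    (hbase : ∀ z ∈ M, z ∈ T.rootGen F E → mapGL T σ z = z) {g : GL T.I F} (hgM : g ∈ M)
    (hg : g ∈ T.datum.borelSubgroup F) : mapGL T σ g = g := by
  classical
  have h2 : T.half + T.half = T.n := (Nat.two_mul _).symm
  obtain ⟨u, hu, d, hd, rfl⟩ := (mem_borel_iff hT).mp hg
  rw [posUnipotent_rootGen hT] at hu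
  obtain ⟨χ, hχ, rfl⟩ := diag_exists_char hT hd
  have hconjU : ∀ {s : ℕ}, s < T.n → T.half ≤ s → ∀ t : F,
      u * T.dU χ * T.xU F s t * (u * T.dU χ)⁻¹ ∈ T.rootGen F (fun r => T.half ≤ r) := by
    intro s hs hsp t
    rw [show u * T.dU χ * T.xU F s t * (u * T.dU χ)⁻¹ =
      u * (T.dU χ * T.xU F s t * (T.dU χ)⁻¹) * u⁻¹ by group, dU_conj_X hT hχ hs t, mul_inv_cancel_right]
    exact mul_mem (mul_mem hu (xU_mem_rootGen (P := fun r => T.half ≤ r) hs hsp _)) (inv_mem hu)
  have hfixconj : ∀ {s : ℕ}, s < T.n → T.half ≤ s → ∀ t : F, σ t = t →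
      mapGL T σ (u * T.dU χ * T.xU F s t * (u * T.dU χ)⁻¹) =
        u * T.dU χ * T.xU F s t * (u * T.dU χ)⁻¹ := fun {s} hs hsp t ht =>
    h.pos_fixed hT hC hS hE hbase
      (mul_mem (mul_mem hgM ((h.root_iff s hs t).mpr ht)) (inv_mem hgM)) (hconjU hs hsp t)
  have hχfix : ∀ i < T.rank, σ (χ (T.simple i)) = χ (T.simple i) := by
    intro i hi
    have hs := simple_lt hT hi
    have hsp : T.half ≤ T.simple i := isPos_iff.mp (simple_pos hT hi)
    obtain ⟨g', hg', e⟩ := CfsgLib.KnownB.ParabolicFStar.conj_lead hT hC hχ hu hs hsp 1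
    have := hfixconj hs hsp 1 (map_one σ)
    rw [e, map_mul, map_xU σ hT hs] at this
    obtain ⟨e1, -⟩ := xU_mul_inj hT hC hsp hs (map_rootGen σ hT _ ⟨g', hg', rfl⟩) hg' this
    simpa using e1
  have hd' : mapGL T σ (T.dU χ) = T.dU χ := by
    rw [map_dU hT]
    set χ' : ℕ → Fˣ := fun r => Units.map (σ : F →* F) (χ r) with hχ'
    have hc : T.IsChar (χ' * χ⁻¹) :=
      { add := fun r hr s hs v N hv => by
          simp only [hχ', Pi.mul_apply, Pi.inv_apply, hχ.add r hr s hs v N hv, map_mul, mul_inv_rev]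
          ac_rfl
        neg := fun r hr => by
          simp only [hχ', Pi.mul_apply, Pi.inv_apply, hχ.neg r hr, map_inv, inv_inv, mul_inv_rev]
          exact mul_comm _ _ }
    have h1 : (T.dU (χ' * χ⁻¹) : GL T.I F) = 1 :=
      dU_eq_one_of_simple hT hc fun i hi => by
        have : χ' (T.simple i) = χ (T.simple i) := Units.ext (by simp [hχ', hχfix i hi])
        simp [this]
    rwa [← dU_mul, ← dU_inv, mul_inv_eq_one] at h1
  have hσu : mapGL T σ u ∈ T.rootGen F (fun r => T.half ≤ r) := map_rootGen σ hT _ ⟨u, hu, rfl⟩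
  have hcomm : ∀ {s : ℕ}, s < T.n → T.half ≤ s →
      Commute (u⁻¹ * mapGL T σ u) (T.xU F s 1) := by
    intro s hs hsp
    set y := T.dU χ * T.xU F s (((χ s)⁻¹ : Fˣ) : F) * (T.dU χ)⁻¹ with hy
    have hy1 : y = T.xU F s 1 := by
      rw [hy, dU_conj_X hT hχ hs, mul_inv_cancel_right, ← Units.val_mul, mul_inv_cancel, Units.val_one]
    have hyfix : mapGL T σ y = y := by rw [hy1, map_xU σ hT hs, map_one]
    have hsχ : σ (((χ s)⁻¹ : Fˣ) : F) = ((χ s)⁻¹ : Fˣ) := by
      have := hyfix
      rw [hy, map_mul, map_mul, map_inv, hd', map_xU σ hT hs] at this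
      exact xU_inj hT hs (mul_left_cancel (mul_right_cancel this))
    have := hfixconj hs hsp _ hsχ
    rw [show u * T.dU χ * T.xU F s (((χ s)⁻¹ : Fˣ) : F) * (u * T.dU χ)⁻¹ = u * y * u⁻¹ by
      rw [hy]; group, hy1, map_mul, map_mul, map_inv, map_xU σ hT hs, map_one] at this
    show u⁻¹ * mapGL T σ u * T.xU F s 1 = T.xU F s 1 * (u⁻¹ * mapGL T σ u)
    calc u⁻¹ * mapGL T σ u * T.xU F s 1
        = u⁻¹ * (mapGL T σ u * T.xU F s 1 * (mapGL T σ u)⁻¹) * mapGL T σ u := by group
      _ = u⁻¹ * (u * T.xU F s 1 * u⁻¹) * mapGL T σ u := by rw [this]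
      _ = _ := by group
  -- the coordinates off the exceptional roots are fixed
  obtain ⟨fd, hfd⟩ := exists_uProd hT hC T.half T.half h2 le_rfl _ (mul_mem (inv_mem hu) hσu)
  have hdE : ∀ r, T.half ≤ r → r < T.n → ¬ E r → fd r = 0 := by
    intro r
    induction r using Nat.strong_induction_on with
    | _ r IH =>
    intro hr hrn hrE
    obtain ⟨s, hs, hsp, v, N, hsum, hN⟩ := hE.next r hrn hr hrE
    obtain ⟨g', hg', e⟩ := comm_lead_uProd hT hC hS hE hr hrn hrE
      (fun a h1 h2 h3 => IH a h2 h1 (by omega) h3) hs hsp hsum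
    rw [← hfd, commutatorElement_eq_one_iff_commute.mpr (hcomm hs hsp)] at e
    have hv := sum?_lt hT hrn hs hsum
    have hrv : r < v := sum?_pos_left hT hs hrn (sum?_symm hT hrn hs hsum) (isPos_iff.mpr hsp)
    obtain ⟨e1, -⟩ := xU_mul_inj hT hC (show T.half ≤ v by omega) hv (one_mem _) hg' (t := 0)
      (t' := (N : F) * fd r) (by rw [xU_zero hT hv, one_mul]; exact e)
    exact (mul_eq_zero.mp e1.symm).resolve_left hN
  obtain ⟨fu, hfu⟩ := exists_uProd hT hC T.half T.half h2 le_rfl _ hu
  let fd' : ℕ → F := fun r => if T.half ≤ r ∧ r < T.n then fd r else 0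
  have hfd' : T.uProd fd' T.half T.half = u⁻¹ * mapGL T σ u := by
    rw [hfd]
    refine congrArg List.prod (List.map_congr_left fun r hr => ?_)
    simp only [List.mem_range'_1] at hr
    simp only [fd', if_pos (show T.half ≤ r ∧ r < T.n by omega)]
  have hσu_eq : mapGL T σ u = T.uProd (fu + fd') T.half T.half := by
    rw [← uProd_add_central hT hC (E := E) (fun e _ _ he => hE.central e he) (fun r hr => by
      by_contra hne
      simp only [fd'] at hr
      split_ifs at hr with h0
      · exact hr (hdE r h0.1 h0.2 hne)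
      · exact hr rfl) T.half T.half h2 le_rfl, hfd', ← hfu, mul_inv_cancel_left]
  have hcoord : ∀ r, T.half ≤ r → r < T.n → σ (fu r) = fu r + fd r := by
    intro r h1 h2'
    rw [hfu, map_uProd hT σ fu h2.le] at hσu_eq
    have := uProd_inj hT hC T.half T.half h2 le_rfl _ _ hσu_eq r h1 h2'
    simpa [fd', if_pos (show T.half ≤ r ∧ r < T.n by omega)] using this
  let fA : ℕ → F := fun r => if E r then 0 else fu r
  let fB : ℕ → F := fun r => if E r then fu r else 0
  have hAM : T.uProd fA T.half T.half ∈ M := by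
    refine list_prod_mem fun y hy => ?_
    obtain ⟨r, hr, rfl⟩ := List.mem_map.mp hy
    simp only [List.mem_range'_1] at hr
    refine (h.root_iff r (by omega) _).mpr ?_
    simp only [fA]
    split_ifs with hrE
    · exact map_zero σ
    · rw [hcoord r hr.1 (by omega), hdE r hr.1 (by omega) hrE, add_zero]
  have huAB : u = T.uProd fA T.half T.half * T.uProd fB T.half T.half := by
    rw [hfu]; exact split_exc hT hC hE fu
  set z := T.uProd fB T.half T.half with hz
  have hzE : z ∈ T.rootGen F E :=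
    uProd_mem_of_support hT _ _ h2 fB fun r _ _ hr => if_neg hr
  have hzM : z * T.dU χ ∈ M := by
    have := mul_mem (inv_mem hAM) hgM
    rwa [huAB, mul_assoc, inv_mul_cancel_left] at this
  have hAfix := h.pos_fixed hT hC hS hE hbase hAM (uProd_mem hT fA _ _ h2)
  suffices hzfix : mapGL T σ z = z by rw [map_mul, huAB, map_mul, hAfix, hzfix, hd']
  -- every exceptional coordinate is fixed
  have hcl : ∀ P : ℕ → Prop, (∀ a b, P a → P b → T.commT a b = []) → T.Closed P :=
    fun P hP a _ b _ ha hb _ _ c hc => by rw [hP a b ha hb] at hc; simp at hc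
  obtain ⟨f0, hf0⟩ : ∃ f0 : ℕ → F, z⁻¹ * mapGL T σ z = T.uProd f0 T.half T.half :=
    exists_uProd hT hC T.half T.half h2 le_rfl _ (rootGen_mono (fun r _ hr => (hE.pos r hr).1)
      (mul_mem (inv_mem hzE) (map_rootGen σ hT _ ⟨z, hzE, rfl⟩)))
  have hf0zero : ∀ r, T.half ≤ r → r < T.n → f0 r = 0 := by
    intro e he hen
    by_cases heE : E e
    swap
    · exact closed_coord' hT hC (hcl E hE.abelian) (fun r hr => (hE.pos r hr).1)
        (hf0 ▸ mul_mem (inv_mem hzE) (map_rootGen σ hT _ ⟨z, hzE, rfl⟩)) he hen heE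
    obtain ⟨i, hi, hout, hpos, hab⟩ := hE.move e heE
    set P : ℕ → Prop := fun v => ∃ a, E a ∧ v = T.refl i a with hP
    have hm := mono_nU_simple (F := F) hT ⟨i, hi⟩
    set n := T.nU F (T.simple i) 1 with hn
    have hnM : n ∈ M := h.nU_mem hT (simple_lt hT hi)
    have hz' : n * z * n⁻¹ ∈ T.rootGen F P :=
      conj_mem_rootGen hT hm (Q := P) (fun s hs => ⟨s.val, hs, rfl⟩) hzE
    have hPpos : ∀ r, P r → T.half ≤ r := by rintro r ⟨a, ha, rfl⟩; exact hpos a ha
    have hz'U : n * z * n⁻¹ ∈ T.rootGen F (fun r => T.half ≤ r) := rootGen_mono (fun r _ hr => hPpos r hr) hz'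
    have hd2 : n * T.dU χ * n⁻¹ ∈ T.datum.diagonalSubgroup F :=
      conj_diag hT (nU_simple_mem_N hT ⟨i, hi⟩) hd
    obtain ⟨χ2, hχ2, hd2e⟩ := diag_exists_char hT hd2
    have hg2M : n * z * n⁻¹ * T.dU χ2 ∈ M := by
      rw [← hd2e, show n * z * n⁻¹ * (n * T.dU χ * n⁻¹) = n * (z * T.dU χ) * n⁻¹ by group]
      exact mul_mem (mul_mem hnM hzM) (inv_mem hnM)
    have hnfix : mapGL T σ n = n := by rw [hn, map_nU σ hT (simple_lt hT hi), map_one]
    have hd2fix : mapGL T σ (T.dU χ2) = T.dU χ2 := by
      rw [← hd2e, map_mul, map_mul, map_inv, hnfix, hd']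
    -- the difference of the conjugate lies in both sets
    set z' := n * z * n⁻¹ with hz'def
    have hdiff : z'⁻¹ * mapGL T σ z' ∈ T.rootGen F E := by
      have hc2 : ∀ {s : ℕ}, s < T.n → T.half ≤ s →
          Commute (z'⁻¹ * mapGL T σ z') (T.xU F s 1) := by
        intro s hs hsp
        set y := T.dU χ2 * T.xU F s (((χ2 s)⁻¹ : Fˣ) : F) * (T.dU χ2)⁻¹ with hy
        have hy1 : y = T.xU F s 1 := by
          rw [hy, dU_conj_X hT hχ2 hs, mul_inv_cancel_right, ← Units.val_mul, mul_inv_cancel,
            Units.val_one]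
        have hyfix : mapGL T σ y = y := by rw [hy1, map_xU σ hT hs, map_one]
        have hsχ : σ (((χ2 s)⁻¹ : Fˣ) : F) = ((χ2 s)⁻¹ : Fˣ) := by
          have := hyfix
          rw [hy, map_mul, map_mul, map_inv, hd2fix, map_xU σ hT hs] at this
          exact xU_inj hT hs (mul_left_cancel (mul_right_cancel this))
        have hcU : z' * T.xU F s 1 * z'⁻¹ ∈ T.rootGen F (fun r => T.half ≤ r) :=
          mul_mem (mul_mem hz'U (xU_mem_rootGen (P := fun r => T.half ≤ r) hs hsp 1)) (inv_mem hz'U)
        have hcM : z' * T.xU F s 1 * z'⁻¹ ∈ M := by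
          rw [← hy1, hy, show z' * (T.dU χ2 * T.xU F s (((χ2 s)⁻¹ : Fˣ) : F) * (T.dU χ2)⁻¹) * z'⁻¹ =
            z' * T.dU χ2 * T.xU F s (((χ2 s)⁻¹ : Fˣ) : F) * (z' * T.dU χ2)⁻¹ by group]
          exact mul_mem (mul_mem hg2M ((h.root_iff s hs _).mpr hsχ)) (inv_mem hg2M)
        have := h.pos_fixed hT hC hS hE hbase hcM hcU
        rw [map_mul, map_mul, map_inv, map_xU σ hT hs, map_one] at this
        show z'⁻¹ * mapGL T σ z' * T.xU F s 1 = T.xU F s 1 * (z'⁻¹ * mapGL T σ z')
        calc z'⁻¹ * mapGL T σ z' * T.xU F s 1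
            = z'⁻¹ * (mapGL T σ z' * T.xU F s 1 * (mapGL T σ z')⁻¹) * mapGL T σ z' := by group
          _ = z'⁻¹ * (z' * T.xU F s 1 * z'⁻¹) * mapGL T σ z' := by rw [this]
          _ = _ := by group
      obtain ⟨f2, hf2⟩ := exists_uProd hT hC T.half T.half h2 le_rfl _
        (mul_mem (inv_mem hz'U) (map_rootGen σ hT _ ⟨z', hz'U, rfl⟩))
      rw [hf2]
      refine uProd_mem_of_support hT _ _ h2 f2 fun r => ?_
      induction r using Nat.strong_induction_on with
      | _ r IH =>
      intro hr hrn hrE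
      obtain ⟨s, hs, hsp, v, N, hsum, hN⟩ := hE.next r hrn hr hrE
      obtain ⟨g', hg', e⟩ := comm_lead_uProd hT hC hS hE hr hrn hrE
        (fun a h1 h2 h3 => IH a h2 h1 (by omega) h3) hs hsp hsum
      rw [← hf2, commutatorElement_eq_one_iff_commute.mpr (hc2 hs hsp)] at e
      have hv := sum?_lt hT hrn hs hsum
      have hrv : r < v := sum?_pos_left hT hs hrn (sum?_symm hT hrn hs hsum) (isPos_iff.mpr hsp)
      obtain ⟨e1, -⟩ := xU_mul_inj hT hC (show T.half ≤ v by omega) hv (one_mem _) hg' (t := 0)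
        (t' := (N : F) * f2 r) (by rw [xU_zero hT hv, one_mul]; exact e)
      exact (mul_eq_zero.mp e1.symm).resolve_left hN
    have hclP : T.Closed P := hcl P (by rintro _ _ ⟨a, ha, rfl⟩ ⟨b, hb, rfl⟩; exact hab a b ha hb)
    have hboth := closed_inter_mem hT hC hclP (hcl E hE.abelian) hPpos (fun r hr => (hE.pos r hr).1)
      (mul_mem (inv_mem hz') (map_rootGen σ hT _ ⟨z', hz', rfl⟩)) hdiff
    have hback := conj_mem_rootGen hT hm.inv (Q := fun v => E v ∧ E (T.refl i v)) (fun s hs => by
      obtain ⟨⟨a, ha, hsa⟩, hsE⟩ := hs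
      have han := (hE.pos a ha).2
      have e : (((T.refP hT ⟨i, hi⟩)⁻¹ s : Fin T.n) : ℕ) = T.refl i s.val := by
        rw [refP_inv]; rfl
      rw [e, hsa, refl_refl hT hi han]
      exact ⟨ha, hsa ▸ hsE⟩) hboth
    rw [inv_inv, hz'def, map_mul, map_mul, map_inv, hnfix,
      show n⁻¹ * ((n * z * n⁻¹)⁻¹ * (n * mapGL T σ z * n⁻¹)) * n = z⁻¹ * mapGL T σ z by group, hf0]
      at hback
    exact closed_coord' hT hC (hcl _ fun a b ha hb => hE.abelian a b ha.1 hb.1)
      (fun r hr => (hE.pos r hr.1).1) hback he hen fun hh => hout hh.2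
  have h1 : z⁻¹ * mapGL T σ z = 1 := by
    rw [hf0]
    refine List.prod_eq_one fun y hy => ?_
    obtain ⟨r, hr, rfl⟩ := List.mem_map.mp hy
    simp only [List.mem_range'_1] at hr
    rw [hf0zero r hr.1 (by omega), xU_zero hT (by omega)]
  exact (inv_mul_eq_one.mp h1).symm

end CfsgLib.Chevalley.Overgroup
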