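import Cfsg.Agent.Lib.Chevalley.Overgroup.Odd
import Cfsg.Agent.Lib.Chevalley.Overgroup.CasesSpecial

/-!
A finite subgroup of a Chevalley group containing every root element with parameter one lies between
the group over a finite field and the points of that field.
-/

set_option autoImplicit false
set_option maxRecDepth 20000

namespace CfsgLib.Chevalley.Overgroup

universe u

open CfsgLib.Chevalley CfsgLib.Chevalley.Tbl
open CfsgLib.KnownB.FieldAut (mapGL map_xU)

/-- The roots in the class of the highest one. -/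
def topClass (T : Tbl) (r : ℕ) : Bool :=
  Nat.beq (upRep T T.half (if Nat.ble T.half r then r else T.neg r)) (T.n - 1)

/-- The certificates of a table. -/
structure Cert (T : Tbl) : Prop where
  valid : T.Valid
  comm : T.chkComm = true
  supp : T.chkSupp = true
  sorted : T.chkSorted = true
  spread : CfsgLib.KnownB.ParabolicFStar.chkSpread T = true
  rank : 0 < T.rank
  top : chkTop T = true
  orbit : chkOrbit T (topClass T) = true
  delta : chkDelta T (topClass T) = true
  heis : chkHeis T = true
  gamma : ∃ γ δ, chkGamma T γ δ = true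
  two : (∃ s, s < T.n ∧ T.half ≤ s ∧ topClass T s = false) ∨
    ∃ i j, i < T.rank ∧ j < T.rank ∧ T.simple i < T.simple j ∧ T.commT (T.simple i) (T.simple j) = []
  field : ∀ (F : Type u) [Field F] (M : Subgroup (GL T.I F)), Base T F M →
    ∀ (p : ℕ) [Fact p.Prime] [CharP F p], RootField T F M

variable {T : Tbl} {F : Type u} [Field F]

/-- An involution of `U` over the prime field that is no conjugate of the highest root element. -/
theorem exists_witness (hc : Cert.{u} T) [CharP F 2] :
    ∃ t : GL T.I F, (∀ {σ : F →+* F}, mapGL T σ t = t) ∧ t * t = 1 ∧ t ≠ 1 ∧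
      (∀ M : Subgroup (GL T.I F), (∀ r < T.n, T.xU F r 1 ∈ M) → t ∈ M) ∧
      ∀ g ∈ T.datum.group F, g * T.xU F (T.n - 1) 1 * g⁻¹ ≠ t := by
  have hT := hc.valid
  have hsq : ∀ {r : ℕ}, r < T.n → T.xU F r 1 * T.xU F r 1 = 1 := fun hr => by
    rw [xU_add hT hr, CharTwo.add_self_eq_zero, xU_zero hT hr]
  rcases hc.two with ⟨s, hs, hsp, hLs⟩ | ⟨i, j, hi, hj, hij, hab⟩
  · exact ⟨T.xU F s 1, fun {σ} => by rw [map_xU σ hT hs, map_one], hsq hs, fun e => by
      rw [← xU_zero hT hs] at e; exact one_ne_zero (xU_inj hT hs e), fun M hM => hM s hs,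
      short_not_conj hT hc.comm hc.orbit hc.top hs hsp hLs⟩
  · have hsi := simple_lt hT hi
    have hsj := simple_lt hT hj
    have hpi : T.half ≤ T.simple i := isPos_iff.mp (simple_pos hT hi)
    have hpj : T.half ≤ T.simple j := isPos_iff.mp (simple_pos hT hj)
    have hcomm : Commute (T.xU F (T.simple j) 1) (T.xU F (T.simple i) 1) := by
      have e := comm_xU (F := F) hT hc.comm hsi hsj (by omega)
        (by unfold Tbl.neg Tbl.n at *; omega) 1 1
      rwa [hab, List.map_nil, List.prod_nil, mul_one] at e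
    refine ⟨T.xU F (T.simple i) 1 * T.xU F (T.simple j) 1, fun {σ} => by
      rw [map_mul, map_xU σ hT hsi, map_xU σ hT hsj, map_one], ?_, ?_,
      fun M hM => mul_mem (hM _ hsi) (hM _ hsj), pair_not_conj hT hc.comm hc.supp hc.top hi hj hij⟩
    · calc _ = T.xU F (T.simple i) 1 * (T.xU F (T.simple j) 1 * T.xU F (T.simple i) 1) *
            T.xU F (T.simple j) 1 := by group
        _ = (T.xU F (T.simple i) 1 * T.xU F (T.simple i) 1) *
            (T.xU F (T.simple j) 1 * T.xU F (T.simple j) 1) := by rw [hcomm.eq]; group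
        _ = 1 := by rw [hsq hsi, hsq hsj, one_mul]
    · intro e
      have := (xU_mul_inj hT hc.comm hpi hsi
        (xU_mem_rootGen (P := fun r => T.simple i + 1 ≤ r) hsj hij (1 : F)) (one_mem _) (t' := 0)
        (by rw [e, xU_zero hT hsi, one_mul])).1
      exact one_ne_zero this

/-- A finite overgroup of the elementary group over the prime field lies between the group over a
finite field and the points of that field. -/
theorem exists_field (hc : Cert.{u} T) (p : ℕ) [Fact p.Prime] [CharP F p] {M : Subgroup (GL T.I F)}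
    (hB : Base T F M) :
    ∃ m : ℕ, 0 < m ∧ (∀ r < T.n, ∀ t, T.xU F r t ∈ M ↔ t ^ p ^ m = t) ∧
      ∀ g ∈ M, ∀ i j : T.I, ((g : Matrix T.I T.I F) i j) ^ p ^ m = (g : Matrix T.I T.I F) i j := by
  have hT := hc.valid
  obtain ⟨hn, hp⟩ := chkTop_lt hc.top
  obtain ⟨hall, hmul, E, hE, hbase⟩ := hc.field F M hB p
  obtain ⟨m, hm, -, hfix⟩ := exists_frob (p := p) hT (rootSet_finite hT hB hn) (hB.one _ hn)
    (fun s hs t ht => rootSet_add hT hn hs ht) hmul
  set σ := iterateFrobenius F p m with hσ
  have hfr : Frame T F M σ := ⟨hB.fin, hB.le_group, fun r hr t => by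
    rw [hfix t, ← hall r hr]; rfl⟩
  have hb := hbase σ fun t ht => (hfix t).mpr ht
  have h : Ctrl T F M σ := ⟨hfr,
    fun g hg hgU => hfr.pos_fixed hT hc.comm hc.sorted hE hb hg hgU,
    fun g hg hgB => hfr.borel_fixed hT hc.comm hc.sorted hE hb hg hgB⟩
  have hconj : ∀ g ∈ M, mapGL T σ (g * T.xU F (T.n - 1) 1 * g⁻¹) =
      g * T.xU F (T.n - 1) 1 * g⁻¹ := by
    intro g hg
    by_cases h2 : p = 2
    · subst h2
      obtain ⟨t, htσ, ht2, ht1, htM, hnc⟩ := exists_witness (F := F) hc
      exact h.conj_top_fixed_two hT hc.comm hc.supp hc.spread hc.rank hn (htM M hB.one) htσ ht1 ht2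
        hnc hg
    · obtain ⟨γ, δ, hG⟩ := hc.gamma
      refine h.conj_top_fixed_odd hT hc.comm hc.supp hc.spread hc.rank p ?_ hc.orbit hc.top hc.delta
        hc.heis hG hg
      intro e
      have := (CharP.cast_eq_zero_iff F p 2).mp (by exact_mod_cast e)
      exact h2 ((Nat.prime_dvd_prime_iff_eq Fact.out Nat.prime_two).mp this)
  have hall' : ∀ g ∈ M, mapGL T σ g = g := fun g hg =>
    h.fixed_of_conj_top hT hc.comm hc.supp hc.spread hc.rank p hn
      (fun x hx => top_commute hT hc.comm hc.top 1 hx) hg (hconj g hg)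
  refine ⟨m, hm, fun r hr t => ?_, fun g hg i j => ?_⟩
  · rw [hfr.root_iff r hr t, hσ, iterateFrobenius_def]
  · have := congrArg (fun x : GL T.I F => (x : Matrix T.I T.I F) i j) (hall' g hg)
    simpa [mapGL_apply, hσ, iterateFrobenius_def] using this

end CfsgLib.Chevalley.Overgroup
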