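import Mathlib.LinearAlgebra.Matrix.SpecialLinearGroup
import Mathlib.GroupTheory.Sylow
import Mathlib.GroupTheory.Perm.Cycle.Type
import Mathlib.GroupTheory.Coset.Card
import Mathlib.Tactic.Linarith
import Mathlib.Tactic.LinearCombination
import Mathlib.Algebra.CharP.Lemmas
import Mathlib.Tactic.FinCases

/-!
A finite subgroup of `SL₂` in odd characteristic containing two root elements of opposite roots
contains `-1`: otherwise it has odd order, abelian centralizers, and too many elements.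
-/

set_option autoImplicit false

namespace CfsgLib.Chevalley.Overgroup.SL2Odd

open Matrix

variable {F : Type*} [Field F]

local notation "SL" => Matrix.SpecialLinearGroup (Fin 2) F

theorem ext4 {a b : SL} (h00 : a.1 0 0 = b.1 0 0) (h01 : a.1 0 1 = b.1 0 1)
    (h10 : a.1 1 0 = b.1 1 0) (h11 : a.1 1 1 = b.1 1 1) : a = b := by
  refine Subtype.ext (Matrix.ext fun i j => ?_)
  fin_cases i <;> fin_cases j <;> assumption

theorem det_eq (a : SL) : a.1 0 0 * a.1 1 1 - a.1 0 1 * a.1 1 0 = 1 := by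
  have := a.2
  rwa [Matrix.det_fin_two] at this

theorem mul_entry (a b : SL) (i j : Fin 2) :
    (a * b).1 i j = a.1 i 0 * b.1 0 j + a.1 i 1 * b.1 1 j := by
  show (a.1 * b.1) i j = _
  rw [Matrix.mul_apply, Fin.sum_univ_two]

theorem mul_comm_of_entries {a g : SL} (h : a * g = g * a) (i j : Fin 2) :
    a.1 i 0 * g.1 0 j + a.1 i 1 * g.1 1 j = g.1 i 0 * a.1 0 j + g.1 i 1 * a.1 1 j := by
  rw [← mul_entry, ← mul_entry, h]

/-- An element commuting with a non-scalar `g` is a scalar plus a multiple of `g`. -/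
theorem exists_coeff_of_commute {g a : SL} (hg : g.1 0 1 ≠ 0 ∨ g.1 1 0 ≠ 0 ∨ g.1 0 0 ≠ g.1 1 1)
    (ha : a * g = g * a) : ∃ l : F, a.1 0 1 = l * g.1 0 1 ∧ a.1 1 0 = l * g.1 1 0 ∧
      a.1 0 0 - a.1 1 1 = l * (g.1 0 0 - g.1 1 1) := by
  have a00 := mul_comm_of_entries ha 0 0
  have a01 := mul_comm_of_entries ha 0 1
  have a10 := mul_comm_of_entries ha 1 0
  rcases hg with h | h | h
  · refine ⟨a.1 0 1 / g.1 0 1, (div_mul_cancel₀ _ h).symm, ?_, ?_⟩ <;>
      refine mul_left_cancel₀ h ?_ <;> rw [← mul_assoc, mul_div_cancel₀ _ h]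
    · linear_combination (-1 : F) * a00
    · linear_combination a01
  · refine ⟨a.1 1 0 / g.1 1 0, ?_, (div_mul_cancel₀ _ h).symm, ?_⟩ <;>
      refine mul_left_cancel₀ h ?_ <;> rw [← mul_assoc, mul_div_cancel₀ _ h]
    · linear_combination a00
    · linear_combination (-1 : F) * a10
  · have h' := sub_ne_zero.mpr h
    refine ⟨(a.1 0 0 - a.1 1 1) / (g.1 0 0 - g.1 1 1), ?_, ?_, (div_mul_cancel₀ _ h').symm⟩ <;>
      refine mul_left_cancel₀ h' ?_ <;> rw [← mul_assoc, mul_div_cancel₀ _ h']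
    · linear_combination (-1 : F) * a01
    · linear_combination a10

/-- Elements commuting with a non-scalar element commute. -/
theorem commute_of_commute {g a b : SL} (hg : g.1 0 1 ≠ 0 ∨ g.1 1 0 ≠ 0 ∨ g.1 0 0 ≠ g.1 1 1)
    (ha : a * g = g * a) (hb : b * g = g * b) : a * b = b * a := by
  obtain ⟨l, l1, l2, l3⟩ := exists_coeff_of_commute hg ha
  obtain ⟨m, m1, m2, m3⟩ := exists_coeff_of_commute hg hb
  have hb00 : b.1 0 0 = b.1 1 1 + m * (g.1 0 0 - g.1 1 1) := by linear_combination m3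
  have ha00 : a.1 0 0 = a.1 1 1 + l * (g.1 0 0 - g.1 1 1) := by linear_combination l3
  refine ext4 ?_ ?_ ?_ ?_ <;> simp only [mul_entry, l1, l2, m1, m2, ha00, hb00] <;> ring

theorem eq_of_sq (h2 : (2 : F) ≠ 0) {g : SL} (h : g * g = 1) : g = 1 ∨ g = -1 := by
  have e : g⁻¹ = g := inv_eq_of_mul_eq_one_right h
  have e' : g.1.adjugate = g.1 := by
    have := congrArg Subtype.val e
    rwa [Matrix.SpecialLinearGroup.coe_inv] at this
  rw [Matrix.adjugate_fin_two] at e'
  have e01 := congrFun (congrFun e' 0) 1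
  have e10 := congrFun (congrFun e' 1) 0
  have e00 := congrFun (congrFun e' 0) 0
  simp at e01 e10 e00
  have h01 : g.1 0 1 = 0 := (mul_eq_zero.mp (show (2 : F) * g.1 0 1 = 0 by linear_combination (-1 : F) * e01)).resolve_left h2
  have h10 : g.1 1 0 = 0 := (mul_eq_zero.mp (show (2 : F) * g.1 1 0 = 0 by linear_combination (-1 : F) * e10)).resolve_left h2
  have hd := det_eq g
  rw [e00, h01, h10, mul_zero, sub_zero] at hd
  rcases mul_self_eq_one_iff.mp hd with h00 | h00
  · exact Or.inl (ext4 (by simpa using h00) (by simpa using h01) (by simpa using h10)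
      (by rw [e00]; simpa using h00))
  · exact Or.inr (ext4 (by simpa using h00) (by simpa using h01) (by simpa using h10)
      (by rw [e00]; simpa using h00))

/-- Upper triangular. -/
def IsUpper (g : SL) : Prop := g.1 1 0 = 0

theorem isUpper_mul {a b : SL} (ha : IsUpper a) (hb : IsUpper b) : IsUpper (a * b) := by
  show (a * b).1 1 0 = 0
  rw [mul_entry, show a.1 1 0 = 0 from ha, show b.1 1 0 = 0 from hb, zero_mul, mul_zero, add_zero]

theorem isUpper_inv {a : SL} (ha : IsUpper a) : IsUpper a⁻¹ := by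
  show a⁻¹.1 1 0 = 0
  rw [Matrix.SpecialLinearGroup.coe_inv, Matrix.adjugate_fin_two]
  simp [show a.1 1 0 = 0 from ha]

theorem trace_conj (a g : SL) : (a * g * a⁻¹).1 0 0 + (a * g * a⁻¹).1 1 1 = g.1 0 0 + g.1 1 1 := by
  simp only [mul_entry, Matrix.SpecialLinearGroup.coe_inv, Matrix.adjugate_fin_two]
  simp
  linear_combination (g.1 0 0 + g.1 1 1) * det_eq a

/-- A conjugate commuting with a regular semisimple element is it or its inverse. -/
theorem conj_cases (h2 : (2 : F) ≠ 0) {g h : SL} (hss : (g.1 0 0 + g.1 1 1) ^ 2 ≠ 4)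
    (hc : (h * g * h⁻¹) * g = g * (h * g * h⁻¹)) : h * g * h⁻¹ = g ∨ h * g * h⁻¹ = g⁻¹ := by
  set a := h * g * h⁻¹ with ha
  have htr : a.1 0 0 + a.1 1 1 = g.1 0 0 + g.1 1 1 := trace_conj h g
  have hda := det_eq a
  have hdg := det_eq g
  have c00 := mul_comm_of_entries hc 0 0
  have c01 := mul_comm_of_entries hc 0 1
  have c10 := mul_comm_of_entries hc 1 0
  have hcases : (a.1 0 1 = g.1 0 1 ∧ a.1 1 0 = g.1 1 0 ∧ a.1 0 0 = g.1 0 0) ∨
      (a.1 0 1 = -g.1 0 1 ∧ a.1 1 0 = -g.1 1 0 ∧ a.1 0 0 = g.1 1 1) := by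
    set D := g.1 0 0 - g.1 1 1 with hD
    set E := a.1 0 0 - a.1 1 1 with hE
    have hΔ : D * D + 4 * (g.1 0 1 * g.1 1 0) ≠ 0 := by
      intro h0
      exact hss (by rw [hD] at h0; linear_combination h0 + 4 * hdg)
    have key : E * E + 4 * (a.1 0 1 * a.1 1 0) = D * D + 4 * (g.1 0 1 * g.1 1 0) := by
      rw [hD, hE]
      linear_combination (a.1 0 0 + a.1 1 1 + g.1 0 0 + g.1 1 1) * htr - 4 * hda + 4 * hdg
    have r1 : a.1 0 1 * D = E * g.1 0 1 := by rw [hD, hE]; linear_combination (-1 : F) * c01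
    have r2 : a.1 1 0 * D = E * g.1 1 0 := by rw [hD, hE]; linear_combination c10
    have r3 : a.1 0 1 * g.1 1 0 = g.1 0 1 * a.1 1 0 := by linear_combination c00
    have fin : ∀ ε : F, ε = 1 ∨ ε = -1 → a.1 0 1 = ε * g.1 0 1 → a.1 1 0 = ε * g.1 1 0 →
        E = ε * D → (a.1 0 1 = g.1 0 1 ∧ a.1 1 0 = g.1 1 0 ∧ a.1 0 0 = g.1 0 0) ∨
          (a.1 0 1 = -g.1 0 1 ∧ a.1 1 0 = -g.1 1 0 ∧ a.1 0 0 = g.1 1 1) := by
      intro ε hε e1 e2 e3
      have : (2 : F) ≠ 0 := h2
      rcases hε with rfl | rfl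
      · refine Or.inl ⟨by simpa using e1, by simpa using e2, mul_left_cancel₀ h2 ?_⟩
        rw [hD, hE] at e3; linear_combination e3 + htr
      · refine Or.inr ⟨by simpa using e1, by simpa using e2, mul_left_cancel₀ h2 ?_⟩
        rw [hD, hE] at e3; linear_combination e3 + htr
    by_cases hD0 : D = 0
    · have hg01 : g.1 0 1 ≠ 0 := fun h0 => hΔ (by rw [hD0, h0]; ring)
      have hg10 : g.1 1 0 ≠ 0 := fun h0 => hΔ (by rw [hD0, h0]; ring)
      have hE0 : E = 0 := by
        rw [hD0, mul_zero] at r1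
        exact (mul_eq_zero.mp r1.symm).resolve_right hg01
      set ε := a.1 0 1 / g.1 0 1 with hεd
      have e1 : a.1 0 1 = ε * g.1 0 1 := by rw [hεd, div_mul_cancel₀ _ hg01]
      have e2 : a.1 1 0 = ε * g.1 1 0 := mul_left_cancel₀ hg01 (by
        rw [e1] at r3; linear_combination (-1 : F) * r3)
      have hε : ε * ε = 1 := by
        rw [hE0, hD0, e1, e2] at key
        have h4 : (4 : F) * (g.1 0 1 * g.1 1 0) ≠ 0 := by simpa [hD0] using hΔ
        exact mul_right_cancel₀ h4 (by linear_combination key)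
      exact fin ε (mul_self_eq_one_iff.mp hε) e1 e2 (by rw [hE0, hD0, mul_zero])
    · set ε := E / D with hεd
      have e3 : E = ε * D := by rw [hεd, div_mul_cancel₀ _ hD0]
      have e1 : a.1 0 1 = ε * g.1 0 1 := mul_right_cancel₀ hD0 (by rw [r1, e3]; ring)
      have e2 : a.1 1 0 = ε * g.1 1 0 := mul_right_cancel₀ hD0 (by rw [r2, e3]; ring)
      have hε : ε * ε = 1 := by
        rw [e3, e1, e2] at key
        exact mul_right_cancel₀ hΔ (by linear_combination key)
      exact fin ε (mul_self_eq_one_iff.mp hε) e1 e2 e3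
  rcases hcases with ⟨h1, h2', h3⟩ | ⟨h1, h2', h3⟩
  · exact Or.inl (ext4 h3 h1 h2' (by linear_combination htr - h3))
  · refine Or.inr (ext4 ?_ ?_ ?_ ?_) <;>
      rw [Matrix.SpecialLinearGroup.coe_inv, Matrix.adjugate_fin_two] <;> simp
    · exact h3
    · exact h1
    · exact h2'
    · linear_combination htr - h3

section Count

variable {G : Type*} [Group G] [Finite G]

/-- Conjugating by representatives of cosets. -/
noncomputable def spread (A : Subgroup G) (B : Set G) (x : (G ⧸ A) × B) : G :=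
  x.1.out * x.2.1 * x.1.out⁻¹

theorem exists_spread (A : Subgroup G) (B : Set G) (hB : ∀ n ∈ A, ∀ y ∈ B, n * y * n⁻¹ ∈ B)
    (h : G) {y : G} (hy : y ∈ B) : ∃ x, spread A B x = h * y * h⁻¹ := by
  set q : G ⧸ A := (h : G ⧸ A) with hq
  have hn : q.out⁻¹ * h ∈ A := by
    rw [← QuotientGroup.eq, QuotientGroup.out_eq']
  refine ⟨(q, ⟨_, hB _ hn y hy⟩), ?_⟩
  show q.out * ((q.out⁻¹ * h) * y * (q.out⁻¹ * h)⁻¹) * q.out⁻¹ = _
  group

theorem card_spread (A H : Subgroup G) :
    Nat.card ((G ⧸ A) × {y : G | y ∈ H ∧ y ≠ 1}) = A.index * (Nat.card H - 1) := by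
  rw [Nat.card_prod, Subgroup.index]
  congr 1
  show Set.ncard ((H : Set G) \ {1}) = _
  rw [Set.ncard_diff_singleton_of_mem H.one_mem]
  rfl

/-- Commuting is transitive away from the identity. -/
def CommTrans (G : Type*) [Group G] : Prop :=
  ∀ g a b : G, g ≠ 1 → Commute a g → Commute b g → Commute a b

theorem commute_conj {a g : G} (h : G) (c : Commute a g) :
    Commute (h * a * h⁻¹) (h * g * h⁻¹) := by
  show _ = _
  rw [show h * a * h⁻¹ * (h * g * h⁻¹) = h * (a * g) * h⁻¹ by group, c.eq]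
  group

/-- A centralizer that is not normalised by anything outside. -/
def SN (g : G) : Prop := ∀ h, Commute (h * g * h⁻¹) g → Commute h g

theorem conj_in_centralizer (ht : CommTrans G) {g g' a a' : G} (h : G) (ha : Commute a g)
    (ha1 : a ≠ 1) (ha' : Commute a' g') (e : h * a * h⁻¹ = a') : Commute (h * g * h⁻¹) g' :=
  ht a' _ _ (by rw [← e]; simpa using ha1) (e ▸ (commute_conj h ha).symm) ha'.symm

theorem exists_conj_commute (ht : CommTrans G) {g g' : G} (hg : g ≠ 1) (hg' : g' ≠ 1)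
    (sg : SN g) (sg' : SN g') : ∃ h, Commute (h * g * h⁻¹) g' := by
  by_contra hne
  push_neg at hne
  set A := Subgroup.centralizer ({g} : Set G)
  set A' := Subgroup.centralizer ({g'} : Set G)
  have inj : ∀ g : G, SN g →
      Function.Injective (spread (Subgroup.centralizer ({g} : Set G))
        {y | y ∈ Subgroup.centralizer ({g} : Set G) ∧ y ≠ 1}) := by
    rintro g sg ⟨q, a, hac, ha1⟩ ⟨q', a', hac', ha1'⟩ e
    change q.out * a * q.out⁻¹ = q'.out * a' * q'.out⁻¹ at e
    have e' : (q'.out⁻¹ * q.out) * a * (q'.out⁻¹ * q.out)⁻¹ = a' :=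
      calc _ = q'.out⁻¹ * (q.out * a * q.out⁻¹) * q'.out := by group
        _ = _ := by rw [e]; group
    have := sg _ (conj_in_centralizer ht _ (Subgroup.mem_centralizer_singleton_iff.mp hac) ha1
      (Subgroup.mem_centralizer_singleton_iff.mp hac') e')
    have hq : q' = q := by
      rw [← q.out_eq', ← q'.out_eq', QuotientGroup.eq]
      exact Subgroup.mem_centralizer_singleton_iff.mpr this
    subst hq
    rw [inv_mul_cancel, one_mul, inv_one, mul_one] at e'
    subst e'
    rfl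
  let F : ((G ⧸ A) × {y : G | y ∈ A ∧ y ≠ 1}) ⊕ ((G ⧸ A') × {y : G | y ∈ A' ∧ y ≠ 1}) →
      {y : G | y ∈ (⊤ : Subgroup G) ∧ y ≠ 1} :=
    Sum.elim (fun x => ⟨spread _ _ x, trivial, fun h => x.2.2.2 (conj_eq_one_iff.mp h)⟩)
      (fun x => ⟨spread _ _ x, trivial, fun h => x.2.2.2 (conj_eq_one_iff.mp h)⟩)
  have hF : Function.Injective F := by
    rintro (x | x) (y | y) e <;> have e := congrArg Subtype.val e
    · exact congrArg Sum.inl (inj g sg e)
    · obtain ⟨q, a, hac, ha1⟩ := x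
      obtain ⟨q', a', hac', ha1'⟩ := y
      change q.out * a * q.out⁻¹ = q'.out * a' * q'.out⁻¹ at e
      exact absurd (conj_in_centralizer ht (q'.out⁻¹ * q.out)
        (Subgroup.mem_centralizer_singleton_iff.mp hac) ha1
        (Subgroup.mem_centralizer_singleton_iff.mp hac')
        (calc _ = q'.out⁻¹ * (q.out * a * q.out⁻¹) * q'.out := by group
          _ = _ := by rw [e]; group)) (hne _)
    · obtain ⟨q, a, hac, ha1⟩ := y
      obtain ⟨q', a', hac', ha1'⟩ := x
      change q'.out * a' * q'.out⁻¹ = q.out * a * q.out⁻¹ at e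
      exact absurd (conj_in_centralizer ht (q'.out⁻¹ * q.out)
        (Subgroup.mem_centralizer_singleton_iff.mp hac) ha1
        (Subgroup.mem_centralizer_singleton_iff.mp hac')
        (calc _ = q'.out⁻¹ * (q.out * a * q.out⁻¹) * q'.out := by group
          _ = _ := by rw [← e]; group)) (hne _)
    · exact congrArg Sum.inr (inj g' sg' e)
  have hcard := Nat.card_le_card_of_injective F hF
  have htop : Nat.card {y : G | y ∈ (⊤ : Subgroup G) ∧ y ≠ 1} = Nat.card G - 1 := by
    show Set.ncard (((⊤ : Subgroup G) : Set G) \ {1}) = _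
    rw [Subgroup.coe_top, Set.ncard_diff_singleton_of_mem (Set.mem_univ _), Set.ncard_univ]
  rw [Nat.card_sum, card_spread, card_spread, htop] at hcard
  have e1 := A.index_mul_card
  have e2 := A'.index_mul_card
  have two : ∀ g : G, g ≠ 1 → 2 ≤ Nat.card (Subgroup.centralizer ({g} : Set G)) := fun g hg =>
    Finite.one_lt_card_iff_nontrivial.mpr ⟨⟨⟨g, Subgroup.mem_centralizer_singleton_iff.mpr rfl⟩,
      1, fun h => hg (congrArg Subtype.val h)⟩⟩
  have h1 : 2 ≤ Nat.card A := two g hg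
  have h2 : 2 ≤ Nat.card A' := two g' hg'
  have hG : 1 ≤ Nat.card G := Nat.card_pos
  have f1 : Nat.card G ≤ 2 * (A.index * (Nat.card A - 1)) := by
    rw [← e1, mul_left_comm 2]; exact Nat.mul_le_mul_left _ (by omega)
  have f2 : Nat.card G ≤ 2 * (A'.index * (Nat.card A' - 1)) := by
    rw [← e2, mul_left_comm 2]; exact Nat.mul_le_mul_left _ (by omega)
  omega

theorem card_le_of_cover (A N P : Subgroup G) (hA : ∀ n ∈ A, ∀ y ∈ A, n * y * n⁻¹ ∈ A)
    (hN : ∀ n ∈ N, ∀ y ∈ P, n * y * n⁻¹ ∈ P)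
    (cover : ∀ x : G, x ≠ 1 → ∃ h y, (y ∈ A ∨ y ∈ P) ∧ x = h * y * h⁻¹) :
    Nat.card G ≤ 1 + A.index * (Nat.card A - 1) + N.index * (Nat.card P - 1) := by
  let F : (Unit ⊕ ((G ⧸ A) × {y : G | y ∈ A ∧ y ≠ 1})) ⊕
      ((G ⧸ N) × {y : G | y ∈ P ∧ y ≠ 1}) → G :=
    Sum.elim (Sum.elim (fun _ => 1) (spread _ _)) (spread _ _)
  have hF : Function.Surjective F := fun x => by
    rcases eq_or_ne x 1 with rfl | hx
    · exact ⟨.inl (.inl ()), rfl⟩
    obtain ⟨h, y, hy, rfl⟩ := cover x hx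
    have hy1 : y ≠ 1 := fun e => hx (by subst e; group)
    rcases hy with hy | hy
    · obtain ⟨z, hz⟩ := exists_spread A {y | y ∈ A ∧ y ≠ 1}
        (fun n hn y hy => ⟨hA n hn y hy.1, fun e => hy.2 (conj_eq_one_iff.mp e)⟩) h ⟨hy, hy1⟩
      exact ⟨.inl (.inr z), hz⟩
    · obtain ⟨z, hz⟩ := exists_spread N {y | y ∈ P ∧ y ≠ 1}
        (fun n hn y hy => ⟨hN n hn y hy.1, fun e => hy.2 (conj_eq_one_iff.mp e)⟩) h ⟨hy, hy1⟩
      exact ⟨.inr z, hz⟩
  have hcard := Nat.card_le_card_of_surjective F hF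
  rwa [Nat.card_sum, Nat.card_sum, card_spread, card_spread, Nat.card_unique (α := Unit)] at hcard

end Count

/-- An upper unitriangular element. -/
def ux (t : F) : SL := ⟨!![1, t; 0, 1], by simp [Matrix.det_fin_two]⟩

/-- A lower unitriangular element. -/
def lx (t : F) : SL := ⟨!![1, 0; t, 1], by simp [Matrix.det_fin_two]⟩

theorem ux_pow (t : F) (n : ℕ) : ux t ^ n = ux (n * t) := by
  induction n with
  | zero => rw [pow_zero]; exact ext4 (by simp [ux]) (by simp [ux]) (by simp [ux]) (by simp [ux])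
  | succ n ih =>
    rw [pow_succ, ih]
    refine ext4 ?_ ?_ ?_ ?_ <;> rw [mul_entry] <;> simp [ux]
    ring

theorem eq_ux {g : SL} (h10 : g.1 1 0 = 0) (h00 : g.1 0 0 = 1) : g = ux (g.1 0 1) := by
  have hd := det_eq g
  rw [h10, h00, one_mul, mul_zero, sub_zero] at hd
  exact ext4 (by simp [ux, h00]) (by simp [ux]) (by simp [ux, h10]) (by simp [ux, hd])

/-- Powers of an element of trace `2 * e`, `e * e = 1`. -/
theorem pow_of_trace {g : SL} {e : F} (he : e * e = 1) (ht : g.1 0 0 + g.1 1 1 = 2 * e) (n : ℕ) :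
    (g ^ n).1 0 0 = e ^ n * (1 + n * (e * g.1 0 0 - 1)) ∧
    (g ^ n).1 0 1 = e ^ n * (n * (e * g.1 0 1)) ∧
    (g ^ n).1 1 0 = e ^ n * (n * (e * g.1 1 0)) ∧
    (g ^ n).1 1 1 = e ^ n * (1 + n * (e * g.1 1 1 - 1)) := by
  induction n with
  | zero => simp
  | succ n ih =>
    obtain ⟨i00, i01, i10, i11⟩ := ih
    have hd := det_eq g
    have h3 : g.1 1 1 = 2 * e - g.1 0 0 := by linear_combination ht
    rw [h3] at hd i11 ⊢
    rw [pow_succ]
    refine ⟨?_, ?_, ?_, ?_⟩ <;> rw [mul_entry] <;> simp only [i00, i01, i10, i11, h3] <;>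
      push_cast <;> rw [pow_succ]
    · linear_combination (-(e ^ n * (n : F) * e)) * hd + e ^ n * (g.1 0 0) * (n - 1) * he
    · linear_combination (e ^ n * g.1 0 1) * (n - 1 : F) * he
    · linear_combination (e ^ n * g.1 1 0) * (n - 1 : F) * he
    · linear_combination (-(e ^ n * (n : F) * e)) * hd + e ^ n * (2 * e - g.1 0 0) * (n - 1) * he

/-- A finite subgroup containing root elements of opposite roots contains `-1`. -/
theorem neg_one_mem (p : ℕ) [hp : Fact p.Prime] [CharP F p] (h2 : (2 : F) ≠ 0) (K : Subgroup SL)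
    [Finite K] {c : F} (hc : c ≠ 0) (hu : ux 1 ∈ K) (hl : lx c ∈ K) : (-1 : SL) ∈ K := by
  by_contra hneg
  have hm1 : ∀ g : K, g * g = 1 → g = 1 := fun g h => by
    rcases eq_of_sq h2 (congrArg Subtype.val h) with e | e
    · exact Subtype.ext e
    · exact absurd (e ▸ g.2) hneg
  have hodd : Odd (Nat.card K) := by
    rw [← Nat.not_even_iff_odd, even_iff_two_dvd]
    intro h
    obtain ⟨g, hg⟩ := exists_prime_orderOf_dvd_card' 2 h
    have := hm1 g (by have e := pow_orderOf_eq_one g; rwa [hg, pow_two] at e)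
    rw [this, orderOf_one] at hg
    exact absurd hg (by decide)
  have trm : ∀ g : K, g.1.1 0 0 + g.1.1 1 1 ≠ -2 := by
    intro g h
    obtain ⟨h00, h01, h10, h11⟩ := pow_of_trace (g := g.1) (e := -1) (by ring)
      (by rw [h]; ring) (Nat.card K)
    have e1 : g.1 ^ Nat.card K = 1 := congrArg Subtype.val (pow_card_eq_one' (x := g))
    rw [e1] at h00 h11
    rw [hodd.neg_one_pow] at h00 h11
    simp at h00 h11
    exact h2 (mul_left_cancel₀ h2 (by
      linear_combination h00 + h11 + (Nat.card K : F) * h))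
  have nons : ∀ g : K, g ≠ 1 → g.1.1 0 1 ≠ 0 ∨ g.1.1 1 0 ≠ 0 ∨ g.1.1 0 0 ≠ g.1.1 1 1 := by
    intro g hg
    by_contra h
    push_neg at h
    obtain ⟨h01, h10, he⟩ := h
    have hd := det_eq g.1
    rw [h01, h10, ← he] at hd
    refine hg (hm1 g (Subtype.ext (ext4 ?_ ?_ ?_ ?_))) <;> rw [Subgroup.coe_mul, mul_entry] <;>
      simp [h01, h10, ← he] <;> linear_combination hd
  have ht : CommTrans K := fun g a b hg ha hb =>
    Subtype.ext (commute_of_commute (nons g hg) (congrArg Subtype.val ha.eq)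
      (congrArg Subtype.val hb.eq))
  have ss_SN : ∀ g : K, (g.1.1 0 0 + g.1.1 1 1) ^ 2 ≠ 4 → SN g := by
    intro g hg h hh
    rcases conj_cases h2 hg (congrArg Subtype.val hh.eq) with e | e
    · exact (mul_inv_eq_iff_eq_mul.mp (Subtype.ext e) : h * g = g * h)
    · have e' : h * g * h⁻¹ = g⁻¹ := Subtype.ext e
      obtain ⟨k, hk⟩ := hodd
      have c2 : Commute (h ^ 2) g := by
        show _ = _
        rw [← mul_inv_eq_iff_eq_mul, pow_two,
          show h * h * g * (h * h)⁻¹ = h * (h * g * h⁻¹) * h⁻¹ by group, e',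
          show h * g⁻¹ * h⁻¹ = (h * g * h⁻¹)⁻¹ by group, e', inv_inv]
      have : h = (h ^ 2) ^ (k + 1) := by
        rw [← pow_mul, show 2 * (k + 1) = Nat.card K + 1 by omega, pow_succ, pow_card_eq_one',
          one_mul]
      rw [this]; exact c2.pow_left _
  let u : K := ⟨ux 1, hu⟩
  have hu1 : u ≠ 1 := fun h => by
    simpa [u, ux] using congrArg (fun g : K => g.1.1 0 1) h
  let N : Subgroup K :=
    { carrier := {g | IsUpper g.1}
      one_mem' := by simp [IsUpper]
      mul_mem' := fun ha hb => isUpper_mul ha hb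
      inv_mem' := fun ha => isUpper_inv ha }
  set P : Subgroup K := Subgroup.centralizer ({u} : Set K)
  have hPmem : ∀ g : K, g ∈ P ↔ g.1.1 1 0 = 0 ∧ g.1.1 0 0 = 1 := by
    intro g
    rw [Subgroup.mem_centralizer_singleton_iff]
    constructor
    · intro h
      have h' : g.1 * ux 1 = ux 1 * g.1 := congrArg Subtype.val h
      have e00 := mul_comm_of_entries h' 0 0
      have e01 := mul_comm_of_entries h' 0 1
      simp [ux] at e00 e01
      refine ⟨e00, ?_⟩
      have hd := det_eq g.1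
      rw [e00, mul_zero, sub_zero] at hd
      have e11 : g.1.1 1 1 = g.1.1 0 0 := by linear_combination (-1 : F) * e01
      rcases mul_self_eq_one_iff.mp (by rwa [e11] at hd) with h | h
      · exact h
      · exact absurd (by rw [e11, h]; ring) (trm g)
    · rintro ⟨h10, h00⟩
      apply Subtype.ext
      show g.1 * ux 1 = ux 1 * g.1
      rw [eq_ux h10 h00]
      refine ext4 ?_ ?_ ?_ ?_ <;> rw [mul_entry, mul_entry] <;> simp [ux, add_comm]
  have hNP : ∀ n ∈ N, ∀ y ∈ P, n * y * n⁻¹ ∈ P := by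
    intro n hn y hy
    rw [hPmem] at hy ⊢
    have h10 : IsUpper (n.1 * y.1 * n.1⁻¹) := isUpper_mul (isUpper_mul hn hy.1) (isUpper_inv hn)
    refine ⟨h10, ?_⟩
    have hn' : n.1.1 1 0 = 0 := hn
    have hd := det_eq n.1
    rw [hn', mul_zero, sub_zero] at hd
    show (n.1 * y.1 * n.1⁻¹).1 0 0 = 1
    rw [mul_entry, mul_entry, mul_entry, Matrix.SpecialLinearGroup.coe_inv, Matrix.adjugate_fin_two]
    simp [hn', hy.2, hy.1]
    linear_combination hd
  have hPN : P ≤ N := fun g hg => ((hPmem g).mp hg).1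
  have hl' : (⟨lx c, hl⟩ : K) ∉ N := fun h => hc (by simpa [N, IsUpper, lx] using h)
  have hidx : N.index ≠ 1 := fun h => hl' (Subgroup.index_eq_one.mp h ▸ Subgroup.mem_top _)
  have hPp : IsPGroup p P := fun g => ⟨1, by
    obtain ⟨h10, h00⟩ := (hPmem g.1).mp g.2
    apply Subtype.ext; apply Subtype.ext
    show g.1.1 ^ p ^ 1 = (1 : SL)
    rw [pow_one, eq_ux h10 h00, ux_pow, CharP.cast_eq_zero, zero_mul]
    exact ext4 (by simp [ux]) (by simp [ux]) (by simp [ux]) (by simp [ux])⟩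
  obtain ⟨S, hS⟩ := hPp.exists_le_sylow
  have hSP : (S : Subgroup K) ≤ P := by
    haveI : Nontrivial S := ⟨⟨⟨u, hS (Subgroup.mem_centralizer_singleton_iff.mpr rfl)⟩, 1,
      fun h => hu1 (congrArg Subtype.val h)⟩⟩
    haveI := S.2.center_nontrivial
    obtain ⟨⟨z, hz⟩, hz1⟩ := exists_ne (1 : Subgroup.center (S : Subgroup K))
    have hz1' : z.1 ≠ 1 := fun h => hz1 (Subtype.ext (Subtype.ext h))
    intro s hs
    rw [Subgroup.mem_centralizer_singleton_iff]
    exact (ht z.1 s u hz1' (congrArg Subtype.val (Subgroup.mem_center_iff.mp hz ⟨s, hs⟩))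
      (congrArg Subtype.val (Subgroup.mem_center_iff.mp hz
        ⟨u, hS (Subgroup.mem_centralizer_singleton_iff.mpr rfl)⟩))).eq
  have unip : ∀ x : K, (x.1.1 0 0 + x.1.1 1 1) ^ 2 = 4 → ∃ h, ∃ y ∈ P, x = h * y * h⁻¹ := by
    intro x hx
    have ht2 : x.1.1 0 0 + x.1.1 1 1 = 2 * 1 := by
      rcases mul_eq_zero.mp (show (x.1.1 0 0 + x.1.1 1 1 - 2) * (x.1.1 0 0 + x.1.1 1 1 + 2) = 0
        by linear_combination hx) with h | h
      · linear_combination h
      · exact absurd (by linear_combination h) (trm x)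
    have hxp : x ^ p = 1 := by
      obtain ⟨a, b, c', d⟩ := pow_of_trace (g := x.1) (e := 1) (one_mul 1) ht2 p
      refine Subtype.ext (ext4 ?_ ?_ ?_ ?_) <;> simp [a, b, c', d]
    have hz : IsPGroup p (Subgroup.zpowers x) := fun g => ⟨1, by
      obtain ⟨_, n, rfl⟩ := g
      apply Subtype.ext
      show (x ^ n) ^ p ^ 1 = 1
      rw [pow_one, ← zpow_natCast, ← zpow_mul, mul_comm, zpow_mul, zpow_natCast, hxp, one_zpow]⟩
    obtain ⟨S', hS'⟩ := hz.exists_le_sylow
    obtain ⟨h, hh⟩ := MulAction.exists_smul_eq K S S'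
    have hx' : x ∈ ((h • S : Sylow p K) : Subgroup K) := hh ▸ hS' (Subgroup.mem_zpowers x)
    rw [Sylow.coe_subgroup_smul] at hx'
    obtain ⟨y, hy, hxy⟩ := hx'
    exact ⟨h, y, hSP hy, hxy.symm⟩
  have hP1 : 1 ≤ Nat.card P := Nat.card_pos
  by_cases hss : ∃ g : K, (g.1.1 0 0 + g.1.1 1 1) ^ 2 ≠ 4
  · obtain ⟨g, hg⟩ := hss
    have hg1 : g ≠ 1 := fun h => hg (by subst h; norm_num)
    have ⟨n, hnN, hnP⟩ : ∃ n, n ∈ N ∧ n ∉ P := by
      by_contra h
      push_neg at h
      have suS : SN u := by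
        intro h' hh
        have hm : h' * u * h'⁻¹ ∈ P := Subgroup.mem_centralizer_singleton_iff.mpr hh.eq
        have h10 := ((hPmem _).mp hm).1
        have : (h'.1 * ux 1 * h'.1⁻¹).1 1 0 = 0 := h10
        rw [mul_entry, mul_entry, mul_entry, Matrix.SpecialLinearGroup.coe_inv,
          Matrix.adjugate_fin_two] at this
        simp [ux] at this
        refine Subgroup.mem_centralizer_singleton_iff.mp (h h' ?_)
        show h'.1.1 1 0 = 0
        exact mul_self_eq_zero.mp (by linear_combination (-1 : F) * this)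
      obtain ⟨h', hh'⟩ := exists_conj_commute ht hg1 hu1 (ss_SN g hg) suS
      obtain ⟨h10, h00⟩ := (hPmem (h' * g * h'⁻¹)).mp
        (Subgroup.mem_centralizer_singleton_iff.mpr hh'.eq)
      have htr := trace_conj h'.1 g.1
      have hd := det_eq (h' * g * h'⁻¹).1
      rw [h10, h00, mul_zero, sub_zero, one_mul] at hd
      refine hg ?_
      rw [← htr]
      show ((h' * g * h'⁻¹).1.1 0 0 + (h' * g * h'⁻¹).1.1 1 1) ^ 2 = 4
      rw [h00, hd]; ring
    have hn10 : n.1.1 1 0 = 0 := hnN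
    have hnss : (n.1.1 0 0 + n.1.1 1 1) ^ 2 ≠ 4 := by
      intro h4
      apply hnP
      rw [hPmem]
      refine ⟨hn10, ?_⟩
      have hd := det_eq n.1
      rw [hn10, mul_zero, sub_zero] at hd
      have : n.1.1 0 0 = n.1.1 1 1 := sub_eq_zero.mp (pow_eq_zero_iff two_ne_zero |>.mp
        (show (n.1.1 0 0 - n.1.1 1 1) ^ 2 = 0 by linear_combination h4 - 4 * hd))
      rw [← this] at hd
      rcases mul_self_eq_one_iff.mp hd with h | h
      · exact h
      · exact absurd (by rw [← this, h]; ring) (trm n)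
    have hn1 : n ≠ 1 := fun h => hnP (h ▸ P.one_mem)
    set A : Subgroup K := Subgroup.centralizer ({n} : Set K)
    have hAN : A ≤ N := fun a ha => by
      obtain ⟨l, -, l2, -⟩ := exists_coeff_of_commute (nons n hn1)
        (congrArg Subtype.val (Subgroup.mem_centralizer_singleton_iff.mp ha))
      show a.1.1 1 0 = 0
      rw [l2, hn10, mul_zero]
    have hAA : ∀ m ∈ A, ∀ y ∈ A, m * y * m⁻¹ ∈ A := fun m hm y hy =>
      mul_mem (mul_mem hm hy) (inv_mem hm)
    have hcover := card_le_of_cover A N P hAA hNP (fun x hx => by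
      by_cases hx4 : (x.1.1 0 0 + x.1.1 1 1) ^ 2 = 4
      · obtain ⟨h, y, hy, e⟩ := unip x hx4
        exact ⟨h, y, Or.inr hy, e⟩
      · obtain ⟨h, hh⟩ := exists_conj_commute ht hx hn1 (ss_SN x hx4) (ss_SN n hnss)
        exact ⟨h⁻¹, h * x * h⁻¹, Or.inl (Subgroup.mem_centralizer_singleton_iff.mpr hh.eq),
          by group⟩)
    have hprod : Nat.card A * Nat.card P ≤ Nat.card N := by
      rw [← Nat.card_prod]
      refine Nat.card_le_card_of_injective
        (fun x => (⟨x.1.1 * x.2.1, mul_mem (hAN x.1.2) (hPN x.2.2)⟩ : N)) fun x y e => ?_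
      have e' : x.1.1 * x.2.1 = y.1.1 * y.2.1 := congrArg Subtype.val e
      have e1 : y.1.1⁻¹ * x.1.1 = y.2.1 * x.2.1⁻¹ := by
        rw [eq_mul_inv_iff_mul_eq, mul_assoc, e', inv_mul_cancel_left]
      have e2 : y.1.1⁻¹ * x.1.1 = 1 := by
        by_contra hne
        exact hnP (Subgroup.mem_centralizer_singleton_iff.mpr (ht _ n u hne
          (Subgroup.mem_centralizer_singleton_iff.mp (mul_mem (inv_mem y.1.2) x.1.2)).symm
          (Subgroup.mem_centralizer_singleton_iff.mp
            (e1 ▸ mul_mem y.2.2 (inv_mem x.2.2) : y.1.1⁻¹ * x.1.1 ∈ P)).symm).eq)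
      have hx1 : x.1.1 = y.1.1 := (inv_mul_eq_one.mp e2).symm
      rw [hx1] at e'
      exact Prod.ext (Subtype.ext hx1) (Subtype.ext (mul_left_cancel e'))
    have eA := A.index_mul_card
    have eN := N.index_mul_card
    have ha2 : 1 ≤ Nat.card A := Nat.card_pos
    refine hidx ?_
    have h1 : A.index ≤ 1 + N.index * (Nat.card P - 1) := by
      have : A.index * (Nat.card A - 1) + A.index = A.index * Nat.card A := by
        rw [← Nat.mul_succ]; congr 1; omega
      omega
    have h2' : N.index * Nat.card P * Nat.card A ≤ A.index * Nat.card A := by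
      rw [eA, ← eN, mul_assoc, mul_comm (Nat.card P)]
      exact Nat.mul_le_mul_left _ hprod
    have h3 := Nat.le_of_mul_le_mul_right h2' ha2
    have : N.index * (Nat.card P - 1) + N.index = N.index * Nat.card P := by
      rw [← Nat.mul_succ]; congr 1; omega
    have := N.index_ne_zero_of_finite
    omega
  · push_neg at hss
    have hcover' : Nat.card K ≤ 1 + N.index * (Nat.card P - 1) := by
      have := card_le_of_cover ⊥ N P (fun m hm y hy => mul_mem (mul_mem hm hy) (inv_mem hm)) hNP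
        (fun x _ => by
          obtain ⟨h, y, hy, e⟩ := unip x (hss x)
          exact ⟨h, y, Or.inr hy, e⟩)
      rwa [Subgroup.card_bot, Nat.sub_self, mul_zero, add_zero] at this
    refine hidx ?_
    have eN := N.index_mul_card
    have hle : Nat.card P ≤ Nat.card N := Subgroup.card_le_of_le hPN
    have h4 := Nat.mul_le_mul_left N.index hle
    have : N.index * (Nat.card P - 1) + N.index = N.index * Nat.card P := by
      rw [← Nat.mul_succ]; congr 1; omega
    have := N.index_ne_zero_of_finite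
    omega

end CfsgLib.Chevalley.Overgroup.SL2Odd
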