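import Cfsg.Agent.Lib.Chevalley.Overgroup.Conj
import Cfsg.Agent.Lib.Chevalley.Overgroup.SL2Odd

/-!
In odd characteristic every conjugate in the overgroup of the highest root element is fixed.
-/

set_option autoImplicit false

namespace CfsgLib.Chevalley.Overgroup

open CfsgLib.Chevalley CfsgLib.Chevalley.Tbl
open CfsgLib.KnownB.FieldAut (mapGL map_xU map_rootGen)

/-- A unit constant. -/
def isUnitN (N : ℤ) : Bool := decide (N = 1 ∨ N = -1)

/-- The negative long roots other than the lowest: their commutator with the highest root element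
is trivial or one positive root element commuting with them. -/
def chkDelta (T : Tbl) (L : ℕ → Bool) : Bool :=
  allLt (fun d => Nat.ble T.half d || !(L d) || Nat.beq d (T.neg (T.n - 1)) ||
    match T.commT (T.n - 1) d with
    | [] => true
    | [c] => Nat.ble T.half c.1 && isUnitN c.2.1 && !(Nat.beq c.1 (T.neg d)) &&
        (T.commT d c.1).isEmpty
    | _ => false) T.n

/-- The roots meeting the highest one. -/
def Meets (T : Tbl) (r : ℕ) : Prop := T.half ≤ r ∧ T.pair (T.n - 1) r ≠ 0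

/-- The roots meeting the highest one are closed, meet it oddly, and the others commute with the
lowest root element. -/
def chkHeis (T : Tbl) : Bool :=
  allLt (fun r => !(Nat.ble T.half r) ||
    if T.pair (T.n - 1) r = 0 then (T.commT r (T.neg (T.n - 1))).isEmpty
    else (Nat.beq r (T.n - 1) || decide (T.pair (T.n - 1) r % 2 = 1)) &&
      allLt (fun s => !(Nat.ble T.half s) || decide (T.pair (T.n - 1) s = 0) ||
        (T.commT r s).all (fun c => Nat.ble T.half c.1 && !(decide (T.pair (T.n - 1) c.1 = 0)))) T.n) T.n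

/-- The two roots that show that the parameters are fixed. -/
def chkGamma (T : Tbl) (γ δ : ℕ) : Bool :=
  Nat.ble T.half γ && Nat.blt γ T.n && Nat.blt δ T.half && decide (T.pair (T.n - 1) γ % 2 = 1) &&
    !(Nat.beq δ (T.neg (T.n - 1))) && !(Nat.beq γ (T.neg (T.neg (T.n - 1)))) &&
  (match T.commT (T.neg (T.n - 1)) γ with
    | c :: rest => Nat.beq c.1 δ && isUnitN c.2.1 && Nat.beq c.2.2.1 1 && Nat.beq c.2.2.2 1 &&
        rest.all (fun d => Nat.ble T.half d.1)
    | [] => false) &&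
  match T.commT (T.n - 1) δ with
    | [c] => Nat.beq c.1 γ && isUnitN c.2.1 && Nat.beq c.2.2.1 1 && Nat.beq c.2.2.2 1
    | [c, d] => Nat.beq c.1 γ && isUnitN c.2.1 && Nat.beq c.2.2.1 1 && Nat.beq c.2.2.2 1 &&
        Nat.ble T.half d.1 && !(Nat.beq d.1 γ) && (T.commT γ d.1).isEmpty
    | _ => false

variable {T : Tbl} {F : Type*} [Field F]

theorem isUnitN_ne {N : ℤ} (h : isUnitN N = true) : (N : F) ≠ 0 := by
  rcases (decide_eq_true_eq.mp h : N = 1 ∨ N = -1) with rfl | rfl <;> simp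

theorem map_isUnit (σ : F →+* F) {N : ℤ} (h : isUnitN N = true) {a : F}
    (e : σ ((N : F) * a) = (N : F) * a) : σ a = a := by
  rw [map_mul, map_intCast] at e
  exact mul_left_cancel₀ (isUnitN_ne h) e

variable (hT : T.Valid) (hC : T.chkComm = true)
include hT hC

/-- The first coordinate of a fixed product of commuting root elements of `U` is fixed. -/
theorem fixed_head {σ : F →+* F} {u w : ℕ} (hu : u < T.n) (hup : T.half ≤ u) (hw : w < T.n)
    (hwp : T.half ≤ w) (hne : w ≠ u) (hab : T.commT u w = []) {a b : F}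
    (h : mapGL T σ (T.xU F u a * T.xU F w b) = T.xU F u a * T.xU F w b) : σ a = a := by
  rw [map_mul, map_xU σ hT hu, map_xU σ hT hw] at h
  rcases lt_or_gt_of_ne hne with hlt | hgt
  · have hc : ∀ a b : F, T.xU F u a * T.xU F w b = T.xU F w b * T.xU F u a := by
      intro a b
      rw [comm_xU hT hC hu hw hne (by unfold Tbl.neg Tbl.n at *; omega), hab]
      simp
    rw [hc, hc] at h
    obtain ⟨-, e⟩ := xU_mul_inj hT hC hwp hw (xU_mem_rootGen (P := fun r => w + 1 ≤ r) hu hlt _)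
      (xU_mem_rootGen (P := fun r => w + 1 ≤ r) hu hlt _) h
    exact xU_inj hT hu e
  · exact (xU_mul_inj hT hC hup hu (xU_mem_rootGen (P := fun r => u + 1 ≤ r) hw hgt _)
      (xU_mem_rootGen (P := fun r => u + 1 ≤ r) hw hgt _) h).1

/-- The homomorphism from `SL₂` attached to a positive root is injective. -/
theorem sl2_injective {r : ℕ} (hr : r < T.n) (hp : T.half ≤ r)
    (hodd : ∃ s < T.n, T.pair r s % 2 = 1) :
    Function.Injective (sl2Data (F := F) hT hr).hom := by
  refine (injective_iff_map_eq_one _).mpr fun g hg => ?_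
  have hg' : (sl2Data hT hr).map g = 1 := hg
  have hdet : g.1 0 0 * g.1 1 1 - g.1 0 1 * g.1 1 0 = 1 := by
    have := g.2; rwa [Matrix.det_fin_two] at this
  have hhd : ∀ c : Fˣ, (T.dU (T.hCh r c) : GL T.I F) ∈ T.datum.diagonalSubgroup F := by
    intro c
    refine (mem_diag_iff hT).mpr ⟨fun i => c ^ T.cv r i, dU_congr fun s _ => ?_⟩
    simp only [hCh]
    rw [pair_eq_sum, zpow_sum_eq]
    exact Finset.prod_congr rfl fun i _ => zpow_mul _ _ _
  by_cases hc : g.1 1 0 = 0
  · have ha : g.1 0 0 ≠ 0 := fun h => by simp [h, hc] at hdet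
    rw [(sl2Data hT hr).map_zero (g := g) hc (Units.mk0 _ ha) rfl] at hg'
    change T.dU (T.hCh r (Units.mk0 _ ha)) * T.xU F r (g.1 0 1 / g.1 0 0) = 1 at hg'
    have hx1 : T.xU F r (g.1 0 1 / g.1 0 0) = (1 : GL T.I F) := by
      rw [← Subgroup.mem_bot, ← pos_inf_diag (T := T) (F := F) hT]
      refine Subgroup.mem_inf.mpr ⟨?_, ?_⟩
      · rw [posUnipotent_rootGen hT]; exact xU_mem_rootGen (P := fun s => T.half ≤ s) hr hp _
      · rw [eq_inv_of_mul_eq_one_right hg']; exact inv_mem (hhd _)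
    rw [hx1, mul_one, ← dU_one] at hg'
    obtain ⟨s, hs, hodd⟩ := hodd
    have e2 := dU_apply_inj hg' hr
    have e1 := dU_apply_inj hg' hs
    simp only [hCh, Pi.one_apply, pair_self hT hr] at e1 e2
    obtain ⟨k, hk⟩ : ∃ k, T.pair r s = 2 * k + 1 := ⟨T.pair r s / 2, by omega⟩
    rw [hk, zpow_add_one, zpow_mul, e2, one_zpow, one_mul] at e1
    rw [← xU_zero hT hr] at hx1
    have e3 := xU_inj hT hr hx1
    rw [div_eq_zero_iff] at e3
    have h00 : g.1 0 0 = 1 := congrArg Units.val e1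
    have h01 : g.1 0 1 = 0 := e3.resolve_right ha
    have h11 : g.1 1 1 = 1 := by rw [h00, hc] at hdet; simpa using hdet
    apply Subtype.ext
    ext i j; fin_cases i <;> fin_cases j <;> simp [h00, h01, h11, hc]
  · exfalso
    rw [(sl2Data hT hr).map_ne (g := g) (Units.mk0 _ hc) rfl] at hg'
    change T.xU F r _ * T.dU (T.hCh r _) * T.nU F r 1 * T.xU F r _ = 1 at hg'
    have hB : (T.nU F r 1 : GL T.I F) ∈ T.datum.borelSubgroup F := by
      rw [mul_eq_one_iff_eq_inv, ← eq_inv_mul_iff_mul_eq] at hg'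
      rw [hg']
      exact mul_mem (inv_mem (mul_mem (pos_le_borel hT hr hp _)
        (Subgroup.mem_sup_right (hhd _)))) (inv_mem (pos_le_borel hT hr hp _))
    have h1 : T.xU F (T.neg r) (-1) ∈ (⊥ : Subgroup (GL T.I F)) := by
      rw [← borel_inf_neg (T := T) (F := F) hT]
      refine Subgroup.mem_inf.mpr ⟨?_, ?_⟩
      · have e : T.xU F (T.neg r) (-1 : F) = T.nU F r 1 * T.xU F r 1 * (T.nU F r 1)⁻¹ := by
          rw [nU_conj hT hr, mul_inv_cancel_right]
        rw [e]
        exact mul_mem (mul_mem hB (pos_le_borel hT hr hp _)) (inv_mem hB)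
      · rw [negUnipotent_rootGen hT]
        exact xU_mem_rootGen (P := fun r => r < T.half) (neg_lt' hr) (by unfold neg n at *; omega) _
    rw [Subgroup.mem_bot, ← xU_zero hT (neg_lt' hr)] at h1
    exact one_ne_zero (neg_eq_zero.mp (xU_inj hT (neg_lt' hr) h1))

omit hC in
theorem dU_conj_uProd {χ : ℕ → Fˣ} (hχ : T.IsChar χ) (f : ℕ → F) {k m : ℕ} (hkm : k + m ≤ T.n) :
    T.dU χ * T.uProd f k m * (T.dU χ)⁻¹ = T.uProd (fun r => (χ r : F) * f r) k m := by
  rw [← MulAut.conj_apply, uProd, uProd, map_list_prod, List.map_map]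
  refine congrArg List.prod (List.map_congr_left fun r hr => ?_)
  simp only [List.mem_range'_1] at hr
  show T.dU χ * T.xU F r (f r) * (T.dU χ)⁻¹ = _
  rw [dU_conj_X hT hχ (by omega), mul_inv_cancel_right]

theorem closed_meets (hH : chkHeis T = true) : T.Closed (Meets T) := by
  intro a ha b hb ⟨hap, hA⟩ ⟨hbp, hB⟩ _ _ c hc
  have h := allLt_iff.mp hH a ha
  simp only [Bool.or_eq_true, Bool.not_eq_true', if_neg hA, Bool.and_eq_true] at h
  have h' := allLt_iff.mp (h.resolve_left (by simp [hap])).2 b hb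
  simp only [Bool.or_eq_true, Bool.not_eq_true', List.all_eq_true, Bool.and_eq_true,
    decide_eq_true_eq, decide_eq_false_iff_not] at h'
  rcases h' with (h1 | h2) | h3
  · rw [Nat.ble_eq_true_of_le hbp] at h1
    cases h1
  · exact absurd h2 hB
  · exact ⟨Nat.le_of_ble_eq_true (h3 c hc).1, (h3 c hc).2⟩

variable {M : Subgroup (GL T.I F)} {σ : F →+* F} (hSupp : T.chkSupp = true)
include hSupp

omit hSupp in
/-- A conjugate of the lowest root element in the overgroup by an element commuting with the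
highest one, fixed up to the highest root: everything is fixed. -/
theorem Ctrl.fixed_of_gamma (h : Ctrl T F M σ) (hTop : chkTop T = true) {γ δ : ℕ}
    (hG : chkGamma T γ δ = true) {z : F} {c : Fˣ}
    (hy : T.xU F (T.n - 1) z * T.xU F (T.neg (T.n - 1)) c * (T.xU F (T.n - 1) z)⁻¹ ∈ M) :
    σ (c : F) = c ∧ σ z = z := by
  obtain ⟨hn, hp⟩ := chkTop_lt hTop
  set o := T.n - 1 with ho
  have hno : T.neg o < T.n := neg_lt' hn
  simp only [chkGamma, ← ho, Bool.and_eq_true, Bool.not_eq_true', Nat.ble_eq] at hG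
  obtain ⟨⟨⟨⟨⟨⟨⟨hγp, hγn'⟩, hδ'⟩, -⟩, hδne⟩, hγne⟩, h1⟩, h2⟩ := hG
  have hγn : γ < T.n := Nat.le_of_ble_eq_true hγn'
  have hδp : δ < T.half := Nat.le_of_ble_eq_true hδ'
  have hδn : δ < T.n := by unfold Tbl.n; omega
  have hδne' : δ ≠ T.neg o := Nat.ne_of_beq_eq_false hδne
  have hγne' : γ ≠ T.neg (T.neg o) := Nat.ne_of_beq_eq_false hγne
  cases hl : T.commT (T.neg o) γ with
  | nil => simp [hl] at h1
  | cons c1 R1 =>
  simp only [hl, Bool.and_eq_true, List.all_eq_true] at h1
  obtain ⟨⟨⟨⟨e1, hN1⟩, e13⟩, e14⟩, hR1⟩ := h1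
  obtain rfl := Nat.eq_of_beq_eq_true e1
  have e13 := Nat.eq_of_beq_eq_true e13
  have e14 := Nat.eq_of_beq_eq_true e14
  -- the commutator with the highest root element
  have hP : ∀ t u : F,
      ((T.commT o c1.1).map fun c =>
        T.xU F c.1 ((c.2.1 : F) * (-t) ^ c.2.2.1 * u ^ c.2.2.2)).prod ∈
          T.rootGen F (fun r => T.half ≤ r) ∧
      (mapGL T σ ((T.commT o c1.1).map fun c =>
        T.xU F c.1 ((c.2.1 : F) * (-t) ^ c.2.2.1 * u ^ c.2.2.2)).prod =
        ((T.commT o c1.1).map fun c =>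
        T.xU F c.1 ((c.2.1 : F) * (-t) ^ c.2.2.1 * u ^ c.2.2.2)).prod → σ (t * u) = t * u) := by
    intro t u
    have hxp : ∀ {r : ℕ}, r < T.n → T.half ≤ r → ∀ b : F,
        T.xU F r b ∈ T.rootGen F (fun r => T.half ≤ r) :=
      fun hr hrp b => xU_mem_rootGen (P := fun r => T.half ≤ r) hr hrp b
    have key : ∀ d : ℕ × ℤ × ℕ × ℕ, d.1 = γ → isUnitN d.2.1 = true → d.2.2.1 = 1 → d.2.2.2 = 1 →
        T.xU F d.1 ((d.2.1 : F) * (-t) ^ d.2.2.1 * u ^ d.2.2.2) =
          T.xU F γ ((d.2.1 : F) * -(t * u)) ∧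
        (σ ((d.2.1 : F) * -(t * u)) = (d.2.1 : F) * -(t * u) → σ (t * u) = t * u) := by
      intro d d1 dN d3 d4
      refine ⟨by rw [d1, d3, d4, pow_one, pow_one, mul_assoc, neg_mul], fun e => ?_⟩
      have := map_isUnit σ dN e
      rw [map_neg] at this
      exact neg_inj.mp this
    rcases hl2 : T.commT o c1.1 with _ | ⟨d, _ | ⟨d', _ | ⟨d'', rest⟩⟩⟩
    · simp [hl2] at h2
    · simp only [hl2, Bool.and_eq_true] at h2
      obtain ⟨⟨⟨d1, dN⟩, d3⟩, d4⟩ := h2
      obtain ⟨k1, k2⟩ := key d (Nat.eq_of_beq_eq_true d1) dN (Nat.eq_of_beq_eq_true d3)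
        (Nat.eq_of_beq_eq_true d4)
      simp only [List.map_cons, List.map_nil, List.prod_cons, List.prod_nil, mul_one, k1]
      refine ⟨hxp hγn hγp _, fun e => k2 ?_⟩
      rw [map_xU σ hT hγn] at e
      exact xU_inj hT hγn e
    · simp only [hl2, Bool.and_eq_true, Bool.not_eq_true', List.isEmpty_iff] at h2
      obtain ⟨⟨⟨⟨⟨⟨d1, dN⟩, d3⟩, d4⟩, hwp⟩, hwne⟩, hab⟩ := h2
      obtain ⟨k1, k2⟩ := key d (Nat.eq_of_beq_eq_true d1) dN (Nat.eq_of_beq_eq_true d3)
        (Nat.eq_of_beq_eq_true d4)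
      have hw : d'.1 < T.n := commT_lt hT hn hδn d' (by rw [hl2]; simp)
      simp only [List.map_cons, List.map_nil, List.prod_cons, List.prod_nil, mul_one, k1]
      exact ⟨mul_mem (hxp hγn hγp _) (hxp hw (Nat.le_of_ble_eq_true hwp) _), fun e =>
        k2 (fixed_head hT hC hγn hγp hw (Nat.le_of_ble_eq_true hwp)
          (Nat.ne_of_beq_eq_false hwne) hab e)⟩
    · simp [hl2] at h2
  have hPfix : ∀ t u : F, ((T.commT o c1.1).map fun c =>
        T.xU F c.1 ((c.2.1 : F) * (-t) ^ c.2.2.1 * u ^ c.2.2.2)).prod ∈ M →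
      σ (t * u) = t * u := fun t u hM => (hP t u).2 (h.pos_fixed _ hM (hP t u).1)
  have hPpos := fun t u : F => (hP t u).1
  have hcomm2 : ∀ t u : F, ((T.commT o c1.1).map fun c =>
        T.xU F c.1 ((c.2.1 : F) * (-t) ^ c.2.2.1 * u ^ c.2.2.2)).prod =
      (T.xU F c1.1 u)⁻¹ * (T.xU F o t)⁻¹ * T.xU F c1.1 u * T.xU F o t := by
    intro t u
    have e := comm_xU (F := F) hT hC hn hδn (by omega) hδne' t u
    rw [mul_assoc _ (T.xU F c1.1 u) (T.xU F o t), e]
    group
  -- the commutator of the conjugate with the second root element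
  set Z := T.xU F o z with hZ
  set C := T.xU F (T.neg o) (c : F) with hCdef
  set G := T.xU F γ 1 with hGdef
  have hZG : Commute Z G :=
    top_commute hT hC hTop z (xU_mem_rootGen (P := fun r => T.half ≤ r) hγn hγp _)
  set a := (c1.2.1 : F) * -(c : F) with ha
  set A := T.xU F c1.1 a with hA
  set R := (R1.map fun d => T.xU F d.1 ((d.2.1 : F) * (-(c : F)) ^ d.2.2.1 * (1 : F) ^ d.2.2.2)).prod
    with hR
  have hRpos : R ∈ T.rootGen F (fun r => T.half ≤ r) := by
    refine list_prod_mem fun y hy => ?_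
    obtain ⟨d, hd, rfl⟩ := List.mem_map.mp hy
    exact xU_mem_rootGen (P := fun r => T.half ≤ r)
      (commT_lt hT hno hγn d (by rw [hl]; exact List.mem_cons_of_mem _ hd))
      (Nat.le_of_ble_eq_true (hR1 d hd)) _
  have hAR : A * R = G⁻¹ * C⁻¹ * G * C := by
    have e := comm_xU (F := F) hT hC hno hγn
      (fun e => absurd hγp (not_le.mpr (lt_of_eq_of_lt e (negF_lt (s := ⟨o, hn⟩) hp)))) hγne' (c : F) 1
    rw [hl, List.map_cons, List.prod_cons, e13, e14] at e
    rw [hA, ha, hR, mul_assoc _ G C, hGdef, hCdef, e]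
    simp only [pow_one, mul_one]
    group
  have hE : Z * A * Z⁻¹ * R ∈ M := by
    have hGM : G ∈ M := h.frame.root_one hγn
    have := mul_mem (mul_mem (mul_mem (inv_mem hGM) (inv_mem hy)) hGM) hy
    have e : Z * A * Z⁻¹ * R = Z * (A * R) * Z⁻¹ := by
      have := (top_commute hT hC hTop z hRpos).eq
      change Z * R = R * Z at this
      calc Z * A * Z⁻¹ * R = Z * A * (Z⁻¹ * (R * Z) * Z⁻¹) := by group
        _ = _ := by rw [← this]; group
    rw [e, hAR]
    convert this using 1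
    calc Z * (G⁻¹ * C⁻¹ * G * C) * Z⁻¹ = (Z * G⁻¹) * C⁻¹ * G * C * Z⁻¹ := by group
      _ = G⁻¹ * Z * C⁻¹ * G * C * Z⁻¹ := by rw [hZG.inv_right.eq]
      _ = G⁻¹ * Z * C⁻¹ * (Z⁻¹ * (Z * G)) * C * Z⁻¹ := by group
      _ = G⁻¹ * Z * C⁻¹ * (Z⁻¹ * (G * Z)) * C * Z⁻¹ := by rw [hZG.eq]
      _ = _ := by group
  set E := Z * A * Z⁻¹ * R with hEdef
  set X := T.xU F o 1 with hX
  have hXM : X ∈ M := h.frame.root_one hn
  have hnA : (T.xU F c1.1 (-a))⁻¹ = A := by rw [xU_inv hT hδn, neg_neg]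
  have hfc : σ a = a := by
    have hM : ((T.commT o c1.1).map fun c =>
        T.xU F c.1 ((c.2.1 : F) * (-(1 : F)) ^ c.2.2.1 * (-a) ^ c.2.2.2)).prod ∈ M := by
      set P := ((T.commT o c1.1).map fun c =>
        T.xU F c.1 ((c.2.1 : F) * (-(1 : F)) ^ c.2.2.1 * (-a) ^ c.2.2.2)).prod with hPdef
      have hP' : P = A * X⁻¹ * A⁻¹ * X := by
        rw [hPdef, hcomm2, hnA, ← xU_inv hT hδn]
      have hZP : Commute Z P := top_commute hT hC hTop z (hPdef ▸ hPpos 1 (-a))
      have hRX : Commute R X⁻¹ := (top_commute hT hC hTop 1 hRpos).symm.inv_right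
      have hZX : Commute Z X := top_commute hT hC hTop z
        (xU_mem_rootGen (P := fun r => T.half ≤ r) hn hp _)
      have e : P = E * X⁻¹ * E⁻¹ * X :=
        calc P = Z * P * Z⁻¹ := by rw [hZP.eq, mul_inv_cancel_right]
          _ = Z * A * X⁻¹ * A⁻¹ * (X * Z⁻¹) := by rw [hP']; group
          _ = Z * A * (X⁻¹ * Z⁻¹) * Z * A⁻¹ * (Z⁻¹ * X) := by
            rw [hZX.symm.inv_right.eq]; group
          _ = Z * A * (Z⁻¹ * X⁻¹) * Z * A⁻¹ * (Z⁻¹ * X) := by rw [hZX.symm.inv_inv.eq]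
          _ = Z * A * Z⁻¹ * (R * X⁻¹ * R⁻¹) * Z * A⁻¹ * Z⁻¹ * X := by
            rw [hRX.eq, mul_inv_cancel_right]; group
          _ = _ := by rw [hEdef]; group
      rw [e]
      exact mul_mem (mul_mem (mul_mem hE (inv_mem hXM)) (inv_mem hE)) hXM
    have := hPfix 1 (-a) hM
    rw [one_mul, map_neg] at this
    exact neg_inj.mp this
  have hcfix : σ (c : F) = c := by
    have := map_isUnit σ hN1 hfc
    rw [map_neg] at this
    exact neg_inj.mp this
  refine ⟨hcfix, ?_⟩
  have hAM : A ∈ M := (h.frame.root_iff _ hδn _).mpr hfc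
  have hRM : R ∈ M := by
    refine list_prod_mem fun y hy => ?_
    obtain ⟨d, hd, rfl⟩ := List.mem_map.mp hy
    refine (h.frame.root_iff _ (commT_lt hT hno hγn d (by rw [hl]; exact List.mem_cons_of_mem _ hd))
      _).mpr ?_
    simp [hcfix]
  have hM : ((T.commT o c1.1).map fun c =>
      T.xU F c.1 ((c.2.1 : F) * (-(-z)) ^ c.2.2.1 * a ^ c.2.2.2)).prod ∈ M := by
    rw [hcomm2, ← xU_inv hT hn, inv_inv]
    have e : A⁻¹ * Z * A * Z⁻¹ = A⁻¹ * (E * R⁻¹) := by rw [hEdef]; group
    rw [show (T.xU F c1.1 a)⁻¹ * T.xU F o z * T.xU F c1.1 a * (T.xU F o z)⁻¹ =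
      A⁻¹ * Z * A * Z⁻¹ from rfl, e]
    exact mul_mem (inv_mem hAM) (mul_mem hE (inv_mem hRM))
  have := hPfix (-z) a hM
  rw [map_mul, hfc, map_neg] at this
  have ha0 : a ≠ 0 := mul_ne_zero (isUnitN_ne hN1) (neg_ne_zero.mpr c.ne_zero)
  exact neg_inj.mp (mul_right_cancel₀ ha0 this)

/-- In odd characteristic every conjugate in the overgroup of the highest root element is fixed. -/
theorem Ctrl.conj_top_fixed_odd (h : Ctrl T F M σ)
    (hX : CfsgLib.KnownB.ParabolicFStar.chkSpread T = true) (hr : 0 < T.rank) (p : ℕ)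
    [Fact p.Prime] [CharP F p] (h2 : (2 : F) ≠ 0) {L : ℕ → Bool} (hL : chkOrbit T L = true)
    (hTop : chkTop T = true) (hD : chkDelta T L = true) (hH : chkHeis T = true) {γ δ : ℕ}
    (hG : chkGamma T γ δ = true) {m : GL T.I F} (hm : m ∈ M) :
    mapGL T σ (m * T.xU F (T.n - 1) 1 * m⁻¹) = m * T.xU F (T.n - 1) 1 * m⁻¹ := by
  obtain ⟨hn, hp⟩ := chkTop_lt hTop
  set o := T.n - 1 with ho
  set x := T.xU F o 1 with hx
  have hxM : x ∈ M := h.frame.root_one hn
  have hxσ : mapGL T σ x = x := by rw [hx, map_xU σ hT hn, map_one]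
  have hx1 : x ≠ 1 := by
    rw [hx, ← xU_zero (F := F) hT hn]
    exact fun e => one_ne_zero (xU_inj hT hn e)
  have hpow : ∀ {r : ℕ}, r < T.n → ∀ t : F, T.xU F r t ^ p = 1 := fun {r} hr t => by
    have : ∀ k : ℕ, T.xU F r t ^ k = T.xU F r ((k : F) * t) := fun k => by
      induction k with
      | zero => simp [xU_zero hT hr]
      | succ k ih => rw [pow_succ, ih, xU_add hT hr]; congr 1; push_cast; ring
    rw [this, CharP.cast_eq_zero, zero_mul, xU_zero hT hr]
  obtain ⟨d, hd, hLd, q, hq, c, e⟩ := exists_conj_form hT hC hL hTop (h.frame.le_group hm)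
  rw [← ho] at e
  set y := m * x * m⁻¹ with hydef
  have hyM : y ∈ M := mul_mem (mul_mem hm hxM) (inv_mem hm)
  have hqx : Commute x q := top_commute hT hC hTop 1 hq
  by_cases hdp : T.half ≤ d
  · exact h.pos_fixed y hyM (by
      rw [e]; exact mul_mem (mul_mem hq (xU_mem_rootGen (P := fun r => T.half ≤ r) hd hdp _)) (inv_mem hq))
  by_cases hdo : d = T.neg o
  swap
  · have hD' := allLt_iff.mp hD d hd
    simp only [← ho, Bool.or_eq_true, Bool.not_eq_true'] at hD'
    have hD'' := hD'.resolve_left (by simp [hdp, hLd, Nat.beq_eq, hdo])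
    have hdo' : d ≠ o := fun e => hdp (e ▸ hp)
    rcases hl : T.commT o d with _ | ⟨w, _ | ⟨w', rest⟩⟩
    · have hcomm : Commute y x := by
        have e0 := comm_xU (F := F) hT hC hn hd hdo' hdo 1 (c : F)
        rw [hl, List.map_nil, List.prod_nil, mul_one] at e0
        have hcd : Commute (T.xU F d c) x := e0
        rw [e]
        exact ((hqx.symm.mul_left hcd).mul_left hqx.symm.inv_left)
      exact h.centralizer_fixed hT hC hSupp hX hr p hxM hxσ hx1 (hpow hn 1) hyM hcomm
    · simp only [hl, Bool.and_eq_true, Bool.not_eq_true', List.isEmpty_iff] at hD''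
      obtain ⟨⟨⟨hwp', hwN⟩, hwne⟩, hwd⟩ := hD''
      have hwp : T.half ≤ w.1 := Nat.le_of_ble_eq_true hwp'
      have hw : w.1 < T.n := commT_lt hT hn hd w (by rw [hl]; simp)
      set b := (w.2.1 : F) * (-1) ^ w.2.2.1 * (c : F) ^ w.2.2.2 with hb
      set z := q * T.xU F w.1 b * q⁻¹ with hz
      have e0 := comm_xU (F := F) hT hC hn hd hdo' hdo 1 (c : F)
      rw [hl, List.map_cons, List.map_nil, List.prod_cons, List.prod_nil, mul_one, ← hb, ← hx] at e0
      have hzM : z ∈ M := by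
        have e1 : z = y⁻¹ * x⁻¹ * y * x := by
          rw [hz, e]
          calc q * T.xU F w.1 b * q⁻¹
              = q * ((T.xU F d c)⁻¹ * x⁻¹ * (x * T.xU F d c * T.xU F w.1 b)) * q⁻¹ := by group
            _ = q * (T.xU F d c)⁻¹ * (x⁻¹ * T.xU F d c) * (x * q⁻¹) := by rw [← e0]; group
            _ = q * (T.xU F d c)⁻¹ * (q⁻¹ * (q * x⁻¹) * T.xU F d c) * (q⁻¹ * x) := by
              rw [hqx.inv_right.eq]; group
            _ = q * (T.xU F d c)⁻¹ * (q⁻¹ * (x⁻¹ * q) * T.xU F d c) * (q⁻¹ * x) := by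
              rw [hqx.symm.inv_right.eq]
            _ = _ := by group
        rw [e1]
        exact mul_mem (mul_mem (mul_mem (inv_mem hyM) (inv_mem hxM)) hyM) hxM
      have hzU : z ∈ T.rootGen F (fun r => T.half ≤ r) :=
        mul_mem (mul_mem hq (xU_mem_rootGen (P := fun r => T.half ≤ r) hw hwp _)) (inv_mem hq)
      have hz1 : z ≠ 1 := by
        rw [hz, Ne, conj_eq_one_iff, ← xU_zero (F := F) hT hw]
        intro hh
        have := xU_inj hT hw hh
        exact mul_ne_zero (mul_ne_zero (isUnitN_ne hwN) (pow_ne_zero _ (neg_ne_zero.mpr one_ne_zero)))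
          (pow_ne_zero _ c.ne_zero) this
      have hzp : z ^ p = 1 := by rw [hz, _root_.conj_pow, hpow hw, mul_one, mul_inv_cancel]
      have hcomm : Commute y z := by
        have e2 := comm_xU (F := F) hT hC hd hw (fun e => hdp (e ▸ hwp))
          (Nat.ne_of_beq_eq_false hwne) (c : F) b
        rw [hwd, List.map_nil, List.prod_nil, mul_one] at e2
        rw [e, hz]
        show _ = _
        calc q * T.xU F d c * q⁻¹ * (q * T.xU F w.1 b * q⁻¹)
            = q * (T.xU F d c * T.xU F w.1 b) * q⁻¹ := by group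
          _ = q * (T.xU F w.1 b * T.xU F d c) * q⁻¹ := by rw [e2]
          _ = _ := by group
      exact h.centralizer_fixed hT hC hSupp hX hr p hzM (h.pos_fixed z hzM hzU) hz1 hzp hyM hcomm
    · simp [hl] at hD''
  -- the lowest root
  subst hdo
  obtain ⟨q1, hq1, q0, hq0, rfl⟩ := exists_factor hT hC (Meets T)
    (fun r => T.half ≤ r ∧ T.pair o r = 0)
    (fun r _ hrp => by
      by_cases hh : T.pair o r = 0
      · exact Or.inr ⟨hrp, hh⟩
      · exact Or.inl ⟨hrp, hh⟩) T.half T.half (Nat.two_mul _).symm le_rfl _ hq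
  have hq0c : Commute q0 (T.xU F (T.neg o) c) := by
    clear e hqx hq
    induction hq0 using Subgroup.closure_induction with
    | mem g hg =>
      obtain ⟨r, hr', ⟨hrp, hr0⟩, t, rfl⟩ := hg
      have h' := allLt_iff.mp hH r hr'
      simp only [← ho, Bool.or_eq_true, Bool.not_eq_true', if_pos hr0, List.isEmpty_iff] at h'
      have h'' := h'.resolve_left (by simp [hrp])
      have hne : T.neg o ≠ T.neg r := fun e => by
        have : o = r := by rw [← neg_neg' hn, e, neg_neg' hr']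
        rw [← this, pair_self hT hn] at hr0
        exact two_ne_zero hr0
      have e2 := comm_xU (F := F) hT hC hr' (neg_lt' hn) (fun e => hdp (e ▸ hrp)) hne t (c : F)
      rw [h'', List.map_nil, List.prod_nil, mul_one] at e2
      exact e2.symm
    | one => exact Commute.one_left _
    | mul _ _ _ _ ha hb => exact ha.mul_left hb
    | inv _ _ ha => exact ha.inv_left
  have hy : y = q1 * T.xU F (T.neg o) c * q1⁻¹ := by
    rw [e]
    calc q1 * q0 * T.xU F (T.neg o) c * (q1 * q0)⁻¹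
        = q1 * (q0 * T.xU F (T.neg o) c) * q0⁻¹ * q1⁻¹ := by group
      _ = q1 * (T.xU F (T.neg o) c * q0) * q0⁻¹ * q1⁻¹ := by rw [hq0c.eq]
      _ = _ := by group
  have hq1U : q1 ∈ T.rootGen F (fun r => T.half ≤ r) := rootGen_mono (fun r _ h => h.1) hq1
  -- the involution of the group of rank one
  set φ := (MulAut.conj q1).toMonoidHom.comp (sl2Data (F := F) hT hn).hom with hφ
  have hinj : Function.Injective φ := by
    have hG' := hG
    simp only [chkGamma, Bool.and_eq_true, ← ho, decide_eq_true_eq] at hG'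
    exact (MulAut.conj q1).injective.comp (sl2_injective hT hC hn hp
      ⟨γ, Nat.le_of_ble_eq_true hG'.1.1.1.1.1.1.2, hG'.1.1.1.1.2⟩)
  set K := M.comap φ with hK
  have : Finite ↥K := by
    have := h.frame.fin
    exact Finite.of_injective (fun g : ↥K => (⟨φ g, g.2⟩ : ↥M))
      fun a b hab => Subtype.ext (hinj (congrArg Subtype.val hab))
  have hu : SL2Odd.ux (1 : F) ∈ K := by
    show q1 * (sl2Data hT hn).hom (SL2Odd.ux 1) * q1⁻¹ ∈ M
    rw [(sl2Data hT hn).hom_upper _ 1 rfl]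
    show q1 * x * q1⁻¹ ∈ M
    rw [← (top_commute hT hC hTop 1 hq1U).eq, mul_inv_cancel_right]
    exact hxM
  have hl : SL2Odd.lx (c : F) ∈ K := by
    show q1 * (sl2Data hT hn).hom (SL2Odd.lx (c : F)) * q1⁻¹ ∈ M
    rw [(sl2Data hT hn).hom_lower _ (c : F) rfl]
    show q1 * T.xU F (T.neg o) c * q1⁻¹ ∈ M
    rw [← hy]
    exact hyM
  set χ := T.hCh o (-1 : Fˣ) with hχdef
  have hχ := isChar_hCh hT o (-1 : Fˣ)
  set t := q1 * T.dU χ * q1⁻¹ with ht
  have htM : t ∈ M := by
    have hneg := SL2Odd.neg_one_mem p h2 K c.ne_zero hu hl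
    have e1 : (sl2Data (F := F) hT hn).hom (-1) = T.dU χ := by
      show (sl2Data hT hn).map _ = _
      rw [(sl2Data hT hn).map_zero (g := -1) (by simp) (-1) (by simp)]
      simp only [Matrix.SpecialLinearGroup.coe_neg, Matrix.SpecialLinearGroup.coe_one]
      simp [SL2.Data.x_zero]
      rfl
    have : q1 * (sl2Data hT hn).hom (-1) * q1⁻¹ ∈ M := hneg
    rwa [e1] at this
  have htx : Commute t x := by
    have h1 : Commute (T.dU χ) x := by
      show _ = _
      rw [hx, hχdef, dU_hCh_xU hT hn (-1) hn, pair_self hT hn]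
      simp
    have h2 := (top_commute hT hC hTop 1 hq1U).symm
    exact (h2.mul_left h1).mul_left h2.inv_left
  have htσ := h.centralizer_fixed hT hC hSupp hX hr p hxM hxσ hx1 (hpow hn 1) htM htx
  have hχσ : mapGL T σ (T.dU χ) = T.dU χ := by
    rw [map_dU hT, hχdef]
    congr 1
    funext r
    apply Units.ext
    simp [hCh]
  obtain ⟨f, hf⟩ := exists_uProd hT hC T.half T.half (Nat.two_mul _).symm le_rfl q1 hq1U
  have hσq : mapGL T σ q1 ∈ T.rootGen F (Meets T) := map_rootGen σ hT _ ⟨q1, hq1, rfl⟩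
  obtain ⟨f1, hf1⟩ := exists_uProd hT hC T.half T.half (Nat.two_mul _).symm le_rfl
    (q1⁻¹ * mapGL T σ q1) (rootGen_mono (fun r _ h => h.1) (mul_mem (inv_mem hq1) hσq))
  have hsupp : ∀ r, T.half ≤ r → r < T.n → r ≠ o → f1 r = 0 := by
    intro r hrp hrn hro
    by_cases hrM : Meets T r
    swap
    · exact closed_coord' hT hC (closed_meets hT hC hH) (fun r h => h.1)
        (hf1 ▸ mul_mem (inv_mem hq1) hσq) hrp hrn hrM
    have h' := allLt_iff.mp hH r hrn
    simp only [← ho, Bool.or_eq_true, Bool.not_eq_true', if_neg (show T.pair o r ≠ 0 from hrM.2), Bool.and_eq_true,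
      decide_eq_true_eq] at h'
    have hodd := (h'.resolve_left (by simp [hrp])).1.resolve_left (by simp [Nat.beq_eq, hro])
    have hconj : T.dU χ * (q1⁻¹ * mapGL T σ q1) * (T.dU χ)⁻¹ = q1⁻¹ * mapGL T σ q1 := by
      rw [ht, map_mul, map_mul, map_inv, hχσ] at htσ
      rw [mul_inv_eq_iff_eq_mul]
      calc T.dU χ * (q1⁻¹ * mapGL T σ q1)
          = q1⁻¹ * (q1 * T.dU χ * q1⁻¹) * mapGL T σ q1 := by group
        _ = q1⁻¹ * (mapGL T σ q1 * T.dU χ * (mapGL T σ q1)⁻¹) * mapGL T σ q1 := by rw [htσ]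
        _ = _ := by group
    rw [hf1, dU_conj_uProd hT hχ f1 (Nat.two_mul _).ge] at hconj
    have hr1 := uProd_inj hT hC T.half T.half (Nat.two_mul _).symm le_rfl _ _ hconj r hrp hrn
    have hsign : ((χ r : Fˣ) : F) = -1 := by
      obtain ⟨k, hk⟩ : ∃ k, T.pair o r = 2 * k + 1 := ⟨T.pair o r / 2, by omega⟩
      rw [hχdef]
      show (((-1 : Fˣ) ^ T.pair o r : Fˣ) : F) = -1
      rw [hk, zpow_add_one, zpow_mul]
      simp
    rw [hsign] at hr1
    exact (mul_eq_zero.mp (show (2 : F) * f1 r = 0 by linear_combination -hr1)).resolve_left h2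
  let f1' : ℕ → F := fun r => if r = o then f1 o else 0
  have hf1' : T.uProd f1' T.half T.half = q1⁻¹ * mapGL T σ q1 := by
    rw [hf1]
    refine congrArg List.prod (List.map_congr_left fun r hr' => ?_)
    simp only [List.mem_range'_1] at hr'
    simp only [f1']
    split_ifs with hro
    · rw [hro]
    · rw [hsupp r hr'.1 (by have : T.n = 2 * T.half := rfl; omega) hro]
  have hcen : ∀ e < T.n, T.half ≤ e → e = o → ∀ s < T.n, T.half ≤ s →
      ∀ c ∈ T.commT e s, (c.2.1 : F) = 0 := by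
    rintro e - - rfl s hs hsp c hc
    have hTop' := hTop
    simp only [chkTop, ← ho, Bool.and_eq_true] at hTop'
    have h' := allLt_iff.mp hTop'.2 s hs
    simp only [Bool.or_eq_true, Bool.not_eq_true', List.isEmpty_iff] at h'
    rw [h'.resolve_left (by simp [hsp])] at hc
    simp at hc
  have hfix : ∀ r, T.half ≤ r → r < T.n → r ≠ o → σ (f r) = f r := by
    intro r hrp hrn hro
    have h1 : mapGL T σ q1 = T.uProd (f + f1') T.half T.half := by
      rw [← uProd_add_central hT hC (E := fun e => e = o) hcen (fun r hr' => by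
        by_contra hne; simp [f1', hne] at hr') T.half T.half (Nat.two_mul _).symm le_rfl, hf1', ← hf,
        mul_inv_cancel_left]
    rw [hf, map_uProd hT σ f (Nat.two_mul _).ge] at h1
    have := uProd_inj hT hC T.half T.half (Nat.two_mul _).symm le_rfl _ _ h1 r hrp hrn
    simpa [f1', hro] using this
  let fA : ℕ → F := fun r => if r = o then 0 else f r
  let fB : ℕ → F := fun r => if r = o then f o else 0
  set q' := T.uProd fA T.half T.half with hq'
  have hq'σ : mapGL T σ q' = q' := by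
    rw [hq', map_uProd hT σ fA (Nat.two_mul _).ge]
    refine congrArg List.prod (List.map_congr_left fun r hr' => ?_)
    simp only [List.mem_range'_1] at hr'
    simp only [fA]
    split_ifs with hro
    · rw [map_zero]
    · rw [hfix r hr'.1 (by have : T.n = 2 * T.half := rfl; omega) hro]
  have hq'M : q' ∈ M := h.frame.fixed_mem hT hC (uProd_mem hT fA _ _ (Nat.two_mul _).symm) hq'σ
  obtain ⟨z, hz⟩ : ∃ z : F, T.uProd fB T.half T.half = T.xU F o z := by
    have h1 : T.uProd fB T.half T.half ∈ T.rootGen F (fun r => r = o) :=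
      uProd_mem_of_support hT _ _ (Nat.two_mul _).symm fB fun r _ _ hne => if_neg hne
    rw [rootGen_eq_singleton hT hn, mem_rootSubgroup_iff hT hn] at h1
    exact h1
  have hqe : q1 = q' * T.xU F o z := by
    rw [hf, ← hz, hq', uProd_add_central hT hC (E := fun e => e = o) hcen (fun r hr' => by
      by_contra hne; simp [fB, hne] at hr') T.half T.half (Nat.two_mul _).symm le_rfl]
    congr 1
    funext r
    simp only [Pi.add_apply, fA, fB]
    split_ifs with hro <;> simp [hro]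
  have hy1 : T.xU F o z * T.xU F (T.neg o) c * (T.xU F o z)⁻¹ ∈ M := by
    have e1 : T.xU F o z * T.xU F (T.neg o) c * (T.xU F o z)⁻¹ = q'⁻¹ * y * q' := by
      rw [hy, hqe]; group
    rw [e1]
    exact mul_mem (mul_mem (inv_mem hq'M) hyM) hq'M
  obtain ⟨hcσ, hzσ⟩ := h.fixed_of_gamma hT hC hTop hG hy1
  rw [hy, hqe]
  simp only [map_mul, map_inv, hq'σ, map_xU σ hT hn, map_xU σ hT (neg_lt' hn), hcσ, hzσ]

end CfsgLib.Chevalley.Overgroup
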