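import Cfsg.Agent.Lib.Chevalley.Steinberg
import Cfsg.Agent.Lib.Chevalley.PosProduct
import Cfsg.Agent.Lib.KnownB.FieldAut.Fixed
import Mathlib.Tactic.Linarith

/-!
The order of the roots is compatible with addition: leading coordinates of commutators in `U`,
coordinates of closed root sets, central root subgroups.
-/

set_option autoImplicit false

namespace CfsgLib.Chevalley.Overgroup

open CfsgLib.Chevalley CfsgLib.Chevalley.Tbl
open scoped commutatorElement

/-- The subgroup of `U` of the positive roots from `k` on. -/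
abbrev geSub (T : Tbl) (F : Type*) [Field F] (k : ℕ) : Subgroup (GL T.I F) :=
  T.rootGen F (fun r => k ≤ r)

variable {T : Tbl} {F : Type*} [Field F] (hT : T.Valid)
include hT

theorem key_lt_key (hS : T.chkSorted = true) {a b : ℕ} (hb : b < T.n) (h : a < b) :
    T.key a < T.key b := by
  have := key_mono hS (b - a - 1) a (by omega)
  rwa [show a + (b - a - 1) + 1 = b by omega] at this

theorem key_le_key (hS : T.chkSorted = true) {a b : ℕ} (hb : b < T.n) (h : a ≤ b) :
    T.key a ≤ T.key b := by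
  rcases h.lt_or_eq with h | rfl
  · exact (key_lt_key hT hS hb h).le
  · exact le_rfl

theorem lt_of_key_lt (hS : T.chkSorted = true) {a b : ℕ} (ha : a < T.n)
    (h : T.key a < T.key b) : a < b := by
  by_contra hge
  have := key_le_key hT hS ha (not_lt.mp hge)
  omega

theorem key_pos (hS : T.chkSorted = true) {s : ℕ} (hs : s < T.n) (hp : T.half ≤ s) :
    0 < T.key s := by
  have hlt : T.neg s < s := by unfold Tbl.neg Tbl.n at *; omega
  have h1 := key_lt_key hT hS hs hlt
  have hneg : T.key (T.neg s) = -T.key s := by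
    rw [key_eq hT, key_eq hT, ← Finset.sum_neg_distrib]
    exact Finset.sum_congr rfl fun k _ => by rw [co_neg hT hs k.2]; ring
  omega

theorem key_comb {a b w : ℕ} {i j : ℤ}
    (hco : ∀ k < T.rank, T.co w k = i * T.co a k + j * T.co b k) :
    T.key w = i * T.key a + j * T.key b := by
  rw [key_eq hT, key_eq hT, key_eq hT, Finset.mul_sum, Finset.mul_sum, ← Finset.sum_add_distrib]
  exact Finset.sum_congr rfl fun k _ => by rw [hco k k.2]; ring

omit hT in
/-- The commutator word begins with the sum; the other terms are longer. -/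
theorem commT_head {r s u : ℕ} {N : ℤ} (h : T.sum? r s = some (u, N)) :
    ∃ rest, T.commT r s = (u, N, 1, 1) :: rest ∧ ∀ c ∈ rest, ¬ (c.2.2.1 = 1 ∧ c.2.2.2 = 1) := by
  have h1 : T.chain r s 1 = some (u, N) := by rw [chain_one, h]
  unfold Tbl.commT
  simp only [h1, Option.map_some, Option.getD_some]
  refine ⟨_, List.filterMap_cons_some rfl, fun c hc => ?_⟩
  rintro ⟨e1, e2⟩
  obtain ⟨p, hp, he⟩ := List.mem_filterMap.mp hc
  obtain ⟨v, -, rfl⟩ := Option.map_eq_some_iff.mp he
  simp only [List.mem_cons, List.not_mem_nil, or_false] at hp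
  rcases hp with rfl | rfl | rfl | rfl | rfl | rfl <;> simp at e1 e2

/-- The terms after the sum in the order of the roots. -/
theorem commT_term_gt (hS : T.chkSorted = true) {a r s u : ℕ} {N : ℤ} (hr : r < T.n)
    (hrp : T.half ≤ r) (hs : s < T.n) (hsp : T.half ≤ s) (h : T.sum? r s = some (u, N))
    (ha : a < T.n) (hra : r ≤ a) {c : ℕ × ℤ × ℕ × ℕ} (hc : c ∈ T.commT s a)
    (hne : r < a ∨ ¬ (c.2.2.1 = 1 ∧ c.2.2.2 = 1)) : u < c.1 := by
  have hu := sum?_lt hT hr hs h
  refine lt_of_key_lt hT hS hu ?_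
  obtain ⟨hi, hj, hco⟩ := commT_co hT hs ha c hc
  rw [key_comb hT (i := (c.2.2.1 : ℤ)) (j := (c.2.2.2 : ℤ)) hco,
    key_comb hT (i := 1) (j := 1) (a := r) (b := s)
      (fun k hk => by rw [co_sum hT hr hs h hk]; ring)]
  have hs0 := key_pos hT hS hs hsp
  have ha0 := key_pos hT hS ha (le_trans hrp hra)
  have hle := key_le_key hT hS ha hra
  have h1 : (1 : ℤ) ≤ c.2.2.1 := by exact_mod_cast hi
  have h2 : (1 : ℤ) ≤ c.2.2.2 := by exact_mod_cast hj
  rcases hne with hlt | hne
  · have := key_lt_key hT hS ha hlt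
    nlinarith
  · rcases Nat.lt_or_ge 1 c.2.2.1 with h3 | h3
    · have : (2 : ℤ) ≤ c.2.2.1 := by exact_mod_cast h3
      nlinarith
    · rcases Nat.lt_or_ge 1 c.2.2.2 with h4 | h4
      · have : (2 : ℤ) ≤ c.2.2.2 := by exact_mod_cast h4
        nlinarith
      · exact absurd ⟨by omega, by omega⟩ hne

variable (hC : T.chkComm = true)
include hC

theorem ge_conj_mem {k : ℕ} (hk : T.half ≤ k) {y z : GL T.I F}
    (hy : y ∈ T.rootGen F (fun r => T.half ≤ r)) (hz : z ∈ geSub T F k) :
    y * z * y⁻¹ ∈ geSub T F k :=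
  (Subgroup.mem_normalizer_iff.mp (pos_le_normalizer_ge hT hC hk hy) z).mp hz

theorem ge_conj_mem' {k : ℕ} (hk : T.half ≤ k) {y z : GL T.I F}
    (hy : y ∈ T.rootGen F (fun r => T.half ≤ r)) (hz : z ∈ geSub T F k) :
    y⁻¹ * z * y ∈ geSub T F k := by
  simpa using ge_conj_mem hT hC hk (inv_mem hy) hz

/-- The leading coordinate of the commutator with a root element. -/
theorem comm_lead (hS : T.chkSorted = true) {r s u : ℕ} {N : ℤ} (hr : r < T.n) (hrp : T.half ≤ r)
    (hs : s < T.n) (hsp : T.half ≤ s) (h : T.sum? r s = some (u, N)) (t : F) {g : GL T.I F}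
    (hg : g ∈ geSub T F (r + 1)) :
    ∃ g' ∈ geSub T F (u + 1), ⁅T.xU F r t * g, T.xU F s 1⁆ = T.xU F u ((N : F) * t) * g' := by
  have hu := sum?_lt hT hr hs h
  have hru : r < u := sum?_pos_left hT hs hr (sum?_symm hT hr hs h) (isPos_iff.mpr hsp)
  have hup : T.half ≤ u + 1 := by omega
  have hxs : T.xU F s 1 ∈ T.rootGen F (fun r => T.half ≤ r) :=
    xU_mem_rootGen (P := fun r => T.half ≤ r) hs hsp 1
  have hxr : T.xU F r t ∈ T.rootGen F (fun r => T.half ≤ r) :=
    xU_mem_rootGen (P := fun r => T.half ≤ r) hr hrp t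
  have hrest : ∀ g ∈ geSub T F (r + 1), ⁅g, T.xU F s 1⁆ ∈ geSub T F (u + 1) := by
    intro g hg
    induction hg using Subgroup.closure_induction with
    | mem x hx =>
      obtain ⟨a, ha, hra, v, rfl⟩ := hx
      have hap : T.half ≤ a := by omega
      by_cases has : a = s
      · subst has
        rw [commutatorElement_eq_one_iff_mul_comm.mpr
          (show T.xU F a v * T.xU F a 1 = T.xU F a 1 * T.xU F a v by
            rw [xU_add hT ha, xU_add hT ha, add_comm])]
        exact one_mem _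
      have hw : ⁅T.xU F a v, T.xU F s 1⁆ = (T.xU F s 1 * T.xU F a v) *
          ((T.commT s a).map fun c =>
            T.xU F c.1 ((c.2.1 : F) * (-1) ^ c.2.2.1 * v ^ c.2.2.2)).prod *
          (T.xU F s 1 * T.xU F a v)⁻¹ := by
        rw [commutatorElement_def, comm_xU hT hC hs ha has (by unfold Tbl.neg Tbl.n at *; omega)]
        group
      rw [hw]
      refine ge_conj_mem hT hC hup (mul_mem hxs (xU_mem_rootGen (P := fun r => T.half ≤ r) ha hap v))
        (list_prod_mem fun y hy => ?_)
      obtain ⟨c, hc, rfl⟩ := List.mem_map.mp hy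
      exact xU_mem_rootGen (P := fun r => u + 1 ≤ r) (commT_lt hT hs ha c hc)
        (commT_term_gt hT hS hr hrp hs hsp h ha (by omega) hc (Or.inl (by omega))) _
    | one => simp
    | mul a b ha _ iha ihb =>
      have e : ⁅a * b, T.xU F s 1⁆ = (a * ⁅b, T.xU F s 1⁆ * a⁻¹) * ⁅a, T.xU F s 1⁆ := by
        simp only [commutatorElement_def]; group
      rw [e]
      exact mul_mem (ge_conj_mem hT hC hup (rootGen_mono (fun r _ h => by omega) ha) ihb) iha
    | inv a ha iha =>
      have e : ⁅a⁻¹, T.xU F s 1⁆ = a⁻¹ * ⁅a, T.xU F s 1⁆⁻¹ * a⁻¹⁻¹ := by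
        simp only [commutatorElement_def]; group
      rw [e]
      exact ge_conj_mem hT hC hup (inv_mem (rootGen_mono (fun r _ h => by omega) ha)) (inv_mem iha)
  have hsr : r ≠ s := fun e => by
    subst e
    rw [sum?_self hT hr] at h
    cases h
  obtain ⟨rest, hlist, hrest'⟩ := commT_head (sum?_symm hT hr hs h)
  set P := T.xU F s 1 * T.xU F r t with hP
  have hPU : P ∈ T.rootGen F (fun r => T.half ≤ r) := mul_mem hxs hxr
  set R := (rest.map fun c => T.xU F c.1 ((c.2.1 : F) * (-1) ^ c.2.2.1 * t ^ c.2.2.2)).prod with hR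
  have hRmem : R ∈ geSub T F (u + 1) := by
    refine list_prod_mem fun y hy => ?_
    obtain ⟨c, hc, rfl⟩ := List.mem_map.mp hy
    have hc' : c ∈ T.commT s r := by rw [hlist]; exact List.mem_cons_of_mem _ hc
    exact xU_mem_rootGen (P := fun r => u + 1 ≤ r) (commT_lt hT hs hr c hc')
      (commT_term_gt hT hS hr hrp hs hsp h hr le_rfl hc' (Or.inr (hrest' c hc))) _
  have hlead : ⁅T.xU F r t, T.xU F s 1⁆ = P * (T.xU F u ((N : F) * t) * R) * P⁻¹ := by
    rw [commutatorElement_def, comm_xU hT hC hs hr hsr (by unfold Tbl.neg Tbl.n at *; omega), hlist,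
      List.map_cons, List.prod_cons, hP, hR]
    rw [show ((((u, -N, 1, 1) : ℕ × ℤ × ℕ × ℕ).2.1 : ℤ) : F) * (-1) ^ 1 * t ^ 1 = (N : F) * t by
      push_cast; ring]
    group
  set x := T.xU F u ((N : F) * t) with hx
  have hxmem : x ∈ geSub T F u := xU_mem_rootGen (P := fun r => u ≤ r) hu le_rfl _
  have hxU : x ∈ T.rootGen F (fun r => T.half ≤ r) :=
    rootGen_mono (fun r _ (h : u ≤ r) => by omega) hxmem
  have hc1 : ⁅x⁻¹, P⁆ ∈ geSub T F (u + 1) := commutator_mem hT hC (by omega) (inv_mem hxmem) hPU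
  have hout := hrest g hg
  refine ⟨x⁻¹ * (T.xU F r t * ⁅g, T.xU F s 1⁆ * (T.xU F r t)⁻¹) * x * (⁅x⁻¹, P⁆ * (P * R * P⁻¹)),
    mul_mem (ge_conj_mem' hT hC hup hxU (ge_conj_mem hT hC hup hxr hout))
      (mul_mem hc1 (ge_conj_mem hT hC hup hPU hRmem)), ?_⟩
  have e : ⁅T.xU F r t * g, T.xU F s 1⁆ =
      (T.xU F r t * ⁅g, T.xU F s 1⁆ * (T.xU F r t)⁻¹) * ⁅T.xU F r t, T.xU F s 1⁆ := by
    simp only [commutatorElement_def]; group
  rw [e, hlead]
  simp only [commutatorElement_def]
  group

/-- Coordinates of an element of a closed root set vanish outside it. -/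
theorem closed_coord {P : ℕ → Prop} (hP : T.Closed P) : ∀ m k, k + m = T.n → T.half ≤ k →
    ∀ f : ℕ → F, T.uProd f k m ∈ T.rootGen F (fun r => P r ∧ k ≤ r) →
      ∀ r, k ≤ r → r < T.n → ¬ P r → f r = 0 := by
  intro m
  induction m with
  | zero => intro k hkm _ f _ r hr hrn; omega
  | succ m ih =>
    intro k hkm hk f hf r hr hrn hnP
    rw [uProd_succ] at hf
    by_cases hPk : P k
    · obtain ⟨t, g', hg', e⟩ := mem_closed_split hT hC hP hk (by omega) hPk hf
      obtain ⟨-, e'⟩ := xU_mul_inj hT hC hk (by omega) (uProd_mem hT f m (k + 1) (by omega))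
        (rootGen_mono (fun _ _ h => h.2) hg') e
      rcases Nat.lt_or_ge k r with h | h
      · exact ih (k + 1) (by omega) (by omega) f (e' ▸ hg') r h hrn hnP
      · exact absurd (show P r by rw [show r = k by omega]; exact hPk) hnP
    · have hg : T.xU F k (f k) * T.uProd f (k + 1) m ∈
          T.rootGen F (fun r => P r ∧ k + 1 ≤ r) :=
        rootGen_mono (fun v _ h => ⟨h.1, by
          rcases Nat.lt_or_ge k v with h' | h'
          · exact h'
          · exact absurd (show P k by rw [show k = v by omega]; exact h.1) hPk⟩) hf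
      obtain ⟨e1, e2⟩ := xU_mul_inj hT hC hk (by omega) (uProd_mem hT f m (k + 1) (by omega))
        (rootGen_mono (fun _ _ h => h.2) hg) (t' := 0)
        (show T.xU F k (f k) * T.uProd f (k + 1) m = _ by rw [xU_zero hT (by omega), one_mul])
      rcases Nat.lt_or_ge k r with h | h
      · exact ih (k + 1) (by omega) (by omega) f (e2 ▸ hg) r h hrn hnP
      · rw [show r = k by omega]; exact e1

omit hC in
theorem uProd_mem_of_support {P : ℕ → Prop} : ∀ m k, k + m = T.n → ∀ f : ℕ → F,
    (∀ r, k ≤ r → r < T.n → ¬ P r → f r = 0) → T.uProd f k m ∈ T.rootGen F P := by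
  intro m
  induction m with
  | zero => intro k _ f _; simp [uProd]
  | succ m ih =>
    intro k hkm f hf
    rw [uProd_succ]
    refine mul_mem ?_ (ih (k + 1) (by omega) f fun r h1 h2 h3 => hf r (by omega) h2 h3)
    by_cases hPk : P k
    · exact xU_mem_rootGen (by omega) hPk _
    · rw [hf k le_rfl (by omega) hPk, xU_zero hT (by omega)]
      exact one_mem _

theorem closed_coord' {P : ℕ → Prop} (hP : T.Closed P) (hpos : ∀ r, P r → T.half ≤ r) {f : ℕ → F}
    (h : T.uProd f T.half T.half ∈ T.rootGen F P) {r : ℕ} (hr : T.half ≤ r) (hrn : r < T.n)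
    (hnP : ¬ P r) : f r = 0 :=
  closed_coord hT hC hP T.half T.half (Nat.two_mul _).symm le_rfl f
    (rootGen_mono (fun v _ hv => ⟨hv, hpos v hv⟩) h) r hr hrn hnP

omit hC in
theorem closed_ge {k : ℕ} (hk : T.half ≤ k) : T.Closed (fun r => k ≤ r) :=
  fun a ha b hb hka hkb _ _ c hc => by
    have := (commT_gt hT ha hb (le_trans hk hka) (le_trans hk hkb) c hc).1
    omega

/-- Intersections of closed root sets. -/
theorem closed_inter_mem {P Q : ℕ → Prop} (hP : T.Closed P) (hQ : T.Closed Q)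
    (hPpos : ∀ r, P r → T.half ≤ r) (hQpos : ∀ r, Q r → T.half ≤ r) {g : GL T.I F}
    (hg : g ∈ T.rootGen F P) (hg' : g ∈ T.rootGen F Q) :
    g ∈ T.rootGen F (fun r => P r ∧ Q r) := by
  obtain ⟨f, rfl⟩ := exists_uProd hT hC T.half T.half (Nat.two_mul _).symm le_rfl g
    (rootGen_mono (fun r _ h => hPpos r h) hg)
  refine uProd_mem_of_support hT _ _ (Nat.two_mul _).symm f fun r h1 h2 h3 => ?_
  by_cases hPr : P r
  · exact closed_coord' hT hC hQ hQpos hg' h1 h2 fun hQr => h3 ⟨hPr, hQr⟩
  · exact closed_coord' hT hC hP hPpos hg h1 h2 hPr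

omit hC in
/-- The image of a product of root elements under a map of the field. -/
theorem map_uProd (σ : F →+* F) (f : ℕ → F) {k m : ℕ} (hkm : k + m ≤ T.n) :
    CfsgLib.KnownB.FieldAut.mapGL T σ (T.uProd f k m) = T.uProd (fun r => σ (f r)) k m := by
  simp only [uProd, map_list_prod, List.map_map]
  refine congrArg List.prod (List.map_congr_left fun r hr => ?_)
  simp only [List.mem_range'_1] at hr
  exact CfsgLib.KnownB.FieldAut.map_xU σ hT (by omega) _

/-- A root subgroup is central in `U` if the constants of its commutators vanish in the field. -/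
theorem central_commute {e : ℕ} (he : e < T.n) (hep : T.half ≤ e)
    (hc : ∀ s < T.n, T.half ≤ s → ∀ c ∈ T.commT e s, (c.2.1 : F) = 0) (t : F) {g : GL T.I F}
    (hg : g ∈ T.rootGen F (fun r => T.half ≤ r)) : T.xU F e t * g = g * T.xU F e t := by
  induction hg using Subgroup.closure_induction with
  | mem x hx =>
    obtain ⟨s, hs, hsp, v, rfl⟩ := hx
    by_cases hse : s = e
    · subst hse; rw [xU_add hT hs, xU_add hT hs, add_comm]
    · rw [comm_xU hT hC he hs hse (by unfold Tbl.neg Tbl.n at *; omega) t v, List.prod_eq_one, mul_one]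
      intro y hy
      obtain ⟨c, hc', rfl⟩ := List.mem_map.mp hy
      rw [hc s hs hsp c hc', zero_mul, zero_mul, xU_zero hT (commT_lt hT he hs c hc')]
  | one => simp
  | mul x y _ _ hx hy => rw [← mul_assoc, hx, mul_assoc, hy, mul_assoc]
  | inv x _ hx => rw [eq_inv_mul_iff_mul_eq, ← mul_assoc, ← hx, mul_inv_cancel_right]

/-- Multiplication by central root elements adds coordinates. -/
theorem uProd_add_central {E : ℕ → Prop}
    (hE : ∀ e < T.n, T.half ≤ e → E e → ∀ s < T.n, T.half ≤ s → ∀ c ∈ T.commT e s, (c.2.1 : F) = 0)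
    {g : ℕ → F} (hg : ∀ r, g r ≠ 0 → E r) : ∀ m k, k + m = T.n → T.half ≤ k → ∀ f : ℕ → F,
      T.uProd f k m * T.uProd g k m = T.uProd (f + g) k m := by
  intro m
  induction m with
  | zero => intro k _ _ f; simp [uProd]
  | succ m ih =>
    intro k hkm hk f
    rw [uProd_succ, uProd_succ, uProd_succ]
    have hA : T.uProd f (k + 1) m ∈ T.rootGen F (fun r => T.half ≤ r) :=
      rootGen_mono (fun r _ (h : k + 1 ≤ r) => by omega) (uProd_mem hT f m (k + 1) (by omega))
    have hcomm : T.uProd f (k + 1) m * T.xU F k (g k) = T.xU F k (g k) * T.uProd f (k + 1) m := by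
      by_cases h0 : g k = 0
      · rw [h0, xU_zero hT (by omega), mul_one, one_mul]
      · exact (central_commute hT hC (by omega) hk (hE k (by omega) hk (hg k h0)) _ hA).symm
    rw [mul_assoc, ← mul_assoc (T.uProd f (k + 1) m), hcomm, mul_assoc, ← mul_assoc,
      xU_add hT (by omega), ih (k + 1) (by omega) (by omega) f]
    rfl

end CfsgLib.Chevalley.Overgroup
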