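import Cfsg.Agent.Lib.Chevalley.Overgroup.Frame
import Cfsg.Agent.Lib.Chevalley.HeightUnipotent
import Cfsg.Agent.Lib.KnownB.Steinberg.Cells
import Mathlib.GroupTheory.Sylow

/-!
In a finite overgroup every `p`-subgroup is conjugate into `U` and the proper parabolic subgroups
meet it in fixed elements.
-/

set_option autoImplicit false

namespace CfsgLib.Chevalley.Overgroup

open CfsgLib.Chevalley CfsgLib.Chevalley.Tbl
open CfsgLib.KnownB.FieldAut (mapGL map_xU map_nU map_rootGen map_group)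
open CfsgLib.KnownB.Steinberg (WJ InS longJ longJ_mem longJ_negOn)

/-- A frame whose intersections with `U` and `B` are fixed. -/
structure Ctrl (T : Tbl) (F : Type*) [Field F] (M : Subgroup (GL T.I F)) (σ : F →+* F) : Prop where
  frame : Frame T F M σ
  pos_fixed : ∀ g ∈ M, g ∈ T.rootGen F (fun r => T.half ≤ r) → mapGL T σ g = g
  borel_fixed : ∀ g ∈ M, g ∈ T.datum.borelSubgroup F → mapGL T σ g = g

variable {T : Tbl} {F : Type*} [Field F] {M : Subgroup (GL T.I F)} {σ : F →+* F}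
variable (hT : T.Valid) (hC : T.chkComm = true)
include hT hC

/-- An element conjugating the fundamental root elements into `B` lies in `B`. -/
theorem mem_borel_of_conj {g : GL T.I F} (hg : g ∈ T.datum.group F)
    (h : ∀ i < T.rank, g * T.xU F (T.simple i) 1 * g⁻¹ ∈ T.datum.borelSubgroup F) :
    g ∈ T.datum.borelSubgroup F := by
  obtain ⟨b, hb, n, hn, w, hw, hm, u, hu, rfl⟩ := exists_canonical hT hC hg
  have hupos : u ∈ T.rootGen F (fun r => T.half ≤ r) := rootGen_mono (fun r _ h => h.2.1) hu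
  have hw1 : w = 1 := by
    refine eq_one_of_pos hT hw fun i => ?_
    by_contra hneg
    have hs := simple_lt hT i.2
    have hsp : T.half ≤ T.simple i := isPos_iff.mp (simple_pos hT i.2)
    set N := T.rootGen F (fun s => T.half ≤ s ∧ s ≠ T.simple i) with hN
    have hx : T.xU F (T.simple i) 1 ∈ T.rootGen F (fun r => T.half ≤ r) :=
      xU_mem_rootGen (P := fun r => T.half ≤ r) hs hsp 1
    set y := u * T.xU F (T.simple i) 1 * u⁻¹ with hy
    have hyU : y ∈ T.rootGen F (fun r => T.half ≤ r) := mul_mem (mul_mem hupos hx) (inv_mem hupos)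
    have hyB : n * y * n⁻¹ ∈ T.datum.borelSubgroup F := by
      have e : n * y * n⁻¹ = b⁻¹ * ((b * n * u) * T.xU F (T.simple i) 1 * (b * n * u)⁻¹) * b := by
        rw [hy]; group
      rw [e]
      exact mul_mem (mul_mem (inv_mem hb) (h i i.2)) hb
    obtain ⟨p, hp, q, hq, hpq⟩ := exists_factor hT hC (T.posSet w) (T.negSet w) (fun r hr hrp => by
      rcases Nat.lt_or_ge (w ⟨r, hr⟩).val T.half with h | h
      · exact Or.inr ⟨hr, hrp, h⟩
      · exact Or.inl ⟨hr, hrp, h⟩) T.half T.half (Nat.two_mul _).symm le_rfl _ hyU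
    have hp' := conj_mem_rootGen hT hm (Q := fun r => T.half ≤ r) (fun s ⟨_, _, h⟩ => h) hp
    have hq' := conj_mem_rootGen hT hm (Q := fun r => r < T.half) (fun s ⟨_, _, h⟩ => h) hq
    have hq1 : n * q * n⁻¹ ∈ (⊥ : Subgroup (GL T.I F)) := by
      rw [← borel_inf_neg (T := T) (F := F) hT]
      refine ⟨?_, by rw [negUnipotent_rootGen hT]; exact hq'⟩
      have hpB : n * p * n⁻¹ ∈ T.datum.borelSubgroup F :=
        Subgroup.mem_sup_left (by rw [posUnipotent_rootGen hT]; exact hp')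
      have e : n * q * n⁻¹ = (n * p * n⁻¹)⁻¹ * (n * y * n⁻¹) := by rw [hpq]; group
      show _ ∈ T.datum.borelSubgroup F
      rw [e]
      exact mul_mem (inv_mem hpB) hyB
    rw [Subgroup.mem_bot, conj_eq_one_iff] at hq1
    have hyN : y ∈ N := by
      rw [hpq, hq1, mul_one]
      refine rootGen_mono (fun r hr ⟨_, hrp, hrw⟩ => ⟨hrp, ?_⟩) hp
      rintro rfl
      exact hneg hrw
    have hnormN : T.rootGen F (fun r => T.half ≤ r) ≤ Subgroup.normalizer (N : Set (GL T.I F)) := by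
      rw [← posUnipotent_rootGen hT, ← pos_eq_sup_simple hT i.2, sup_le_iff]
      refine ⟨Subgroup.le_normalizer, ?_⟩
      rw [← rootGen_eq_singleton hT hs]
      exact rootGen_le fun r _ h t => xU_mem_normalizer_simple hT hC i.2 (Or.inl h) t
    have hxN : T.xU F (T.simple i) 1 ∈ N := by
      have h1 := (Subgroup.mem_normalizer_iff''.mp (hnormN hupos) y).mp hyN
      rw [hy] at h1
      simpa [mul_assoc] using h1
    have hm' := mono_nU_simple (F := F) hT i
    obtain ⟨c, hcc⟩ := hm'.conj (T.simpF hT i)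
    have hQ := conj_mem_rootGen hT hm' (Q := fun r => T.half ≤ r)
      (fun s ⟨h1, h2⟩ => refP_pos hT h1 (fun e => h2 (congrArg Fin.val e))) hxN
    have e2 : T.nU F (T.simple i.val) 1 * T.xU F (T.simple i) 1 * (T.nU F (T.simple i.val) 1)⁻¹ =
        T.xU F (T.negF (T.simpF hT i)).val c := by
      have h1 := (hcc 1).1
      rw [refP_simpF, mul_one] at h1
      exact mul_inv_eq_iff_eq_mul.mpr h1
    rw [e2] at hQ
    have h0 := eq_one_of_pos_neg hT hQ
      (xU_mem_rootGen (P := fun r => r < T.half) (T.negF (T.simpF hT i)).2 (negF_lt (half_le_simpF hT i)) _)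
    rw [← xU_zero hT (T.negF (T.simpF hT i)).2] at h0
    exact c.ne_zero (xU_inj hT (T.negF (T.simpF hT i)).2 h0)
  subst hw1
  exact mul_mem (mul_mem hb (Subgroup.mem_sup_right (mem_diag_of_mono_one hT hn hm)))
    (Subgroup.mem_sup_left (by rw [posUnipotent_rootGen hT]; exact hupos))

omit hC in
/-- The elements of `U` have `p`-power order. -/
theorem pos_pow_eq_one (p : ℕ) [Fact p.Prime] [CharP F p] {g : GL T.I F}
    (hg : g ∈ T.rootGen F (fun r => T.half ≤ r)) : ∃ j : ℕ, g ^ p ^ j = 1 := by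
  by_cases hI : Nonempty T.I
  swap
  · exact ⟨0, Units.ext (Matrix.ext fun i => absurd ⟨i⟩ hI)⟩
  have hu := (pos_le_uniSub_hdeg hT (fun r hr hp => ht_pos hT hr (isPos_iff.mpr hp)) hg).1
  let H : ℕ := ∑ r : Fin T.n, (T.ht r.val).natAbs
  have hH : ∀ r < T.n, -(H : ℤ) ≤ T.ht r ∧ T.ht r ≤ H := by
    intro r hr
    have h := Finset.single_le_sum (f := fun r : Fin T.n => (T.ht r.val).natAbs)
      (fun _ _ => Nat.zero_le _) (Finset.mem_univ ⟨r, hr⟩)
    simp only at h
    omega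
  exact ⟨2 * H + 1, pow_eq_one_of_sub g (pow_hdeg_eq_zero hH hu)
    (Nat.lt_pow_self (Fact.out : p.Prime).one_lt).le⟩

theorem Ctrl.eq_of_normal (h : Ctrl T F M σ) (p : ℕ) [Fact p.Prime] [CharP F p] {g : GL T.I F}
    (hg : g ∈ M) (hpow : ∃ j : ℕ, g ^ p ^ j = 1)
    (hn : ∀ i < T.rank, g * T.xU F (T.simple i) 1 * g⁻¹ ∈ T.rootGen F (fun r => T.half ≤ r)) :
    g ∈ T.rootGen F (fun r => T.half ≤ r) := by
  have hgB : g ∈ T.datum.borelSubgroup F := mem_borel_of_conj hT hC (h.frame.le_group hg) fun i hi =>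
    Subgroup.mem_sup_left (by rw [posUnipotent_rootGen hT]; exact hn i hi)
  obtain ⟨u, hu, d, hd, rfl⟩ := (mem_borel_iff hT).mp hgB
  have hnorm : T.datum.diagonalSubgroup F ≤
      Subgroup.normalizer (T.datum.posUnipotent F : Set (GL T.I F)) := by
    rw [posUnipotent_rootGen hT]; exact diag_le_normalizer hT _
  have hpowm : ∀ k : ℕ, ∃ v ∈ T.datum.posUnipotent F, (u * d) ^ k = v * d ^ k := by
    intro k
    induction k with
    | zero => exact ⟨1, one_mem _, by simp⟩
    | succ k ih =>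
      obtain ⟨v, hv, e⟩ := ih
      refine ⟨v * (d ^ k * u * (d ^ k)⁻¹),
        mul_mem hv ((Subgroup.mem_normalizer_iff.mp (hnorm (pow_mem hd k)) u).mp hu), ?_⟩
      rw [pow_succ, e, pow_succ]
      group
  obtain ⟨j, hj⟩ := hpow
  obtain ⟨v, hv, e⟩ := hpowm (p ^ j)
  rw [hj] at e
  have hd1 : d ^ p ^ j ∈ (⊥ : Subgroup (GL T.I F)) := by
    rw [← pos_inf_diag (T := T) (F := F) hT]
    refine Subgroup.mem_inf.mpr ⟨?_, pow_mem hd _⟩
    rw [show d ^ p ^ j = v⁻¹ from eq_inv_of_mul_eq_one_right e.symm]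
    exact inv_mem hv
  obtain ⟨χ, -, rfl⟩ := diag_exists_char hT hd
  have hd2 : (T.dU χ : GL T.I F) = 1 := by
    refine Units.ext ?_
    rw [Subgroup.mem_bot] at hd1
    have h1 := congrArg (fun x : GL T.I F => (x : Matrix T.I T.I F)) hd1
    simp only [Units.val_pow_eq_pow_val, dU_val, Units.val_one, Matrix.diagonal_pow] at h1
    rw [dU_val, Units.val_one, ← Matrix.diagonal_one]
    congr 1
    funext x
    have h2 := congrFun (congrFun h1 x) x
    rw [Matrix.diagonal_apply_eq, Matrix.one_apply_eq, Pi.pow_apply] at h2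
    have h3 : ((T.scale χ x : F) - 1) ^ p ^ j = 0 := by rw [sub_pow_char_pow, h2, one_pow, sub_self]
    exact sub_eq_zero.mp (eq_zero_of_pow_eq_zero h3)
  rw [hd2, mul_one, ← posUnipotent_rootGen hT]
  exact hu

/-- Every `p`-subgroup of the overgroup is conjugate in it into `U`. -/
theorem Ctrl.exists_conj_pos (h : Ctrl T F M σ) (p : ℕ) [Fact p.Prime] [CharP F p]
    {Q : Subgroup (GL T.I F)} (hQM : Q ≤ M) (hQ : IsPGroup p ↥Q) :
    ∃ m ∈ M, ∀ x ∈ Q, m⁻¹ * x * m ∈ T.rootGen F (fun r => T.half ≤ r) := by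
  have := h.frame.fin
  set V := (T.rootGen F (fun r => T.half ≤ r)).subgroupOf M with hV
  have hVp : IsPGroup p ↥V := by
    rintro ⟨v, hv⟩
    obtain ⟨j, hj⟩ := pos_pow_eq_one hT p (Subgroup.mem_subgroupOf.mp hv)
    exact ⟨j, Subtype.ext (Subtype.ext (by simpa using hj))⟩
  obtain ⟨S, hVS⟩ := hVp.exists_le_sylow
  have hSV : (S : Subgroup ↥M) = V := by
    by_contra hne
    have hlt : V.subgroupOf (S : Subgroup ↥M) < ⊤ := lt_top_iff_ne_top.mpr fun e =>
      hne (le_antisymm (Subgroup.subgroupOf_eq_top.mp e) hVS)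
    have := S.2.isNilpotent
    have hnc := Group.normalizerCondition_of_isNilpotent (G := ↥(S : Subgroup ↥M)) _ hlt
    obtain ⟨x, hxN, hxV⟩ := SetLike.exists_of_lt hnc
    apply hxV
    rw [Subgroup.mem_subgroupOf, hV, Subgroup.mem_subgroupOf]
    refine h.eq_of_normal hT hC p (x : ↥M).2 ?_ fun i hi => ?_
    · obtain ⟨j, hj⟩ := S.2 x
      exact ⟨j, by simpa using congrArg (fun y : ↥(S : Subgroup ↥M) => ((y : ↥M) : GL T.I F)) hj⟩
    · have hs := simple_lt hT hi
      let y : ↥M := ⟨T.xU F (T.simple i) 1, h.frame.root_one hs⟩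
      have hy : y ∈ V := Subgroup.mem_subgroupOf.mpr
        (xU_mem_rootGen (P := fun r => T.half ≤ r) hs (isPos_iff.mp (simple_pos hT hi)) 1)
      have h1 := (Subgroup.mem_normalizer_iff.mp hxN ⟨y, hVS hy⟩).mp (Subgroup.mem_subgroupOf.mpr hy)
      rw [Subgroup.mem_subgroupOf, hV, Subgroup.mem_subgroupOf] at h1
      exact h1
  obtain ⟨S', hQS⟩ := (hQ.of_equiv (Subgroup.subgroupOfEquivOfLe hQM).symm).exists_le_sylow
  obtain ⟨m, rfl⟩ := MulAction.exists_smul_eq ↥M S S'
  refine ⟨m, m.2, fun x hx => ?_⟩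
  obtain ⟨y, hy, e⟩ := hQS (show (⟨x, hQM hx⟩ : ↥M) ∈ Q.subgroupOf M from hx)
  have e' : (m : GL T.I F) * (y : GL T.I F) * (m : GL T.I F)⁻¹ = x := congrArg Subtype.val e
  rw [← e', show (m : GL T.I F)⁻¹ * ((m : GL T.I F) * y * (m : GL T.I F)⁻¹) * m = (y : GL T.I F) by group]
  have hy' : y ∈ V := hSV ▸ hy
  exact hy'

omit hC in
theorem Frame.exists_mono (h : Frame T F M σ) {J : Finset ℕ} {v : Equiv.Perm (Fin T.n)}
    (hv : v ∈ WJ T hT J) :
    ∃ n ∈ M, n ∈ T.datum.monomialSubgroup F ∧ T.Mono n v ∧ mapGL T σ n = n ∧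
      n ∈ T.datum.parabolicSubgroup F J := by
  induction hv using Subgroup.closure_induction with
  | mem x hx =>
    obtain ⟨i, hi, rfl⟩ := hx
    exact ⟨_, h.nU_mem hT (simple_lt hT i.2), nU_simple_mem_N hT i, mono_nU_simple hT i,
      by rw [map_nU σ hT (simple_lt hT i.2), map_one],
      mem_nJ hT i.2 (Finset.mem_coe.mpr hi)⟩
  | one => exact ⟨1, one_mem _, one_mem _, Mono.one, map_one _, one_mem _⟩
  | mul x y _ _ hx hy =>
    obtain ⟨a, a1, a2, a3, a4, a5⟩ := hx
    obtain ⟨b, b1, b2, b3, b4, b5⟩ := hy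
    exact ⟨a * b, mul_mem a1 b1, mul_mem a2 b2, a3.mul b3, by rw [map_mul, a4, b4], mul_mem a5 b5⟩
  | inv x _ hx =>
    obtain ⟨a, a1, a2, a3, a4, a5⟩ := hx
    exact ⟨a⁻¹, inv_mem a1, inv_mem a2, a3.inv, by rw [map_inv, a4], inv_mem a5⟩

variable (hSupp : T.chkSupp = true)
include hSupp

omit hC in
theorem closed_out (J : Set ℕ) :
    T.Closed (fun r => T.datum.IsPosRoot r ∧ ¬ T.datum.InRootSub J r) := by
  intro a ha b hb ⟨hap, haJ⟩ ⟨hbp, _⟩ _ _ c hc
  have hap' := ((posRoot_iff hT).mp hap).2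
  have hbp' := ((posRoot_iff hT).mp hbp).2
  rw [supp_inSub hT hSupp ha] at haJ
  push Not at haJ
  obtain ⟨k, hk, hkJ, hk0⟩ := haJ
  obtain ⟨hi, -, hco⟩ := commT_co hT ha hb c hc
  have hak : 0 < T.co a k :=
    lt_of_le_of_ne (co_nonneg hT ha (isPos_iff.mpr hap') hk) (Ne.symm hk0)
  have hbk : 0 ≤ T.co b k := co_nonneg hT hb (isPos_iff.mpr hbp') hk
  have hck : 0 < T.co c.1 k := by
    rw [hco k hk]
    have h1 : 0 < (c.2.2.1 : ℤ) * T.co a k := mul_pos (by exact_mod_cast hi) hak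
    have h2 : 0 ≤ (c.2.2.2 : ℤ) * T.co b k := mul_nonneg (by positivity) hbk
    omega
  have hcn := commT_lt hT ha hb c hc
  refine ⟨(posRoot_iff hT).mpr ⟨hcn, half_le_of_co hT hcn hk hck⟩, fun h => ?_⟩
  rw [(supp_inSub hT hSupp hcn).mp h k hk hkJ] at hck
  exact lt_irrefl _ hck

/-- Only elements of `U` centralise the fixed elements of a proper radical inside its parabolic. -/
theorem centralizer_radical (hX : CfsgLib.KnownB.ParabolicFStar.chkSpread T = true) {J : Set ℕ}
    {k : ℕ} (hk : k < T.rank) (hkJ : k ∉ J) {c : GL T.I F}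
    (hc : c ∈ T.datum.parabolicSubgroup F J)
    (hcomm : ∀ r < T.n, T.datum.IsPosRoot r → ¬ T.datum.InRootSub J r →
      Commute c (T.xU F r 1)) : c ∈ T.rootGen F (fun r => T.half ≤ r) := by
  have hcG := CfsgLib.KnownB.ParabolicFStar.parabolic_le_group' hT J hc
  obtain ⟨b, hb, n, hn, w, hw, hm, u, hu, rfl⟩ := exists_canonical hT hC hcG
  have hupos : u ∈ T.rootGen F (fun r => T.half ≤ r) := rootGen_mono (fun r _ h => h.2.1) hu
  set Out : ℕ → Prop := fun r => T.datum.IsPosRoot r ∧ ¬ T.datum.InRootSub J r with hOut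
  have hOutpos : ∀ r, Out r → T.half ≤ r := fun r h => ((posRoot_iff hT).mp h.1).2
  have huN : u ∈ Subgroup.normalizer (T.rootGen F Out : Set (GL T.I F)) := by
    have h1 := parabolic_le_normalizer hT hC hSupp J
      (show u ∈ T.datum.parabolicSubgroup F J from Subgroup.mem_sup_left
        (Subgroup.mem_sup_left (by rw [posUnipotent_rootGen hT]; exact hupos)))
    rwa [unipotentRadical_eq hT] at h1
  obtain ⟨u', hu', d, hd, rfl⟩ := (mem_borel_iff hT).mp hb
  rw [posUnipotent_rootGen hT] at hu'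
  obtain ⟨χ, hχ, rfl⟩ := diag_exists_char hT hd
  -- the permutation fixes the roots of the radical
  have hfix : ∀ m, ∀ r : Fin T.n, T.n - r.val = m → Out r.val → w r = r := by
    intro m
    induction m using Nat.strong_induction_on with
    | _ m IH =>
    intro r hrm hr
    have hrp := hOutpos r hr
    have hx : T.xU F r.val 1 ∈ T.rootGen F Out := xU_mem_rootGen r.2 hr 1
    have hyO : u * T.xU F r.val 1 * u⁻¹ ∈ T.rootGen F Out :=
      (Subgroup.mem_normalizer_iff.mp huN _).mp hx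
    have hxge : T.xU F r.val 1 ∈ geSub T F r.val := xU_mem_rootGen (P := fun s => r.val ≤ s) r.2 le_rfl 1
    set rest := (T.xU F r.val 1)⁻¹ * (u * T.xU F r.val 1 * u⁻¹) with hrest
    have hrest1 : rest ∈ geSub T F (r.val + 1) := by
      have h := commutator_mem hT hC hrp (inv_mem hxge) hupos
      rw [commutatorElement_def, inv_inv] at h
      simpa only [hrest, mul_assoc] using h
    have hrest2 : rest ∈ T.rootGen F (fun s => Out s ∧ r.val + 1 ≤ s) :=
      closed_inter_mem hT hC (closed_out hT hSupp J) (closed_ge hT (by omega)) hOutpos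
        (fun s hs => by omega) (mul_mem (inv_mem hx) hyO) hrest1
    have hmove : n * rest * n⁻¹ ∈ geSub T F (r.val + 1) :=
      conj_mem_rootGen hT hm (Q := fun s => r.val + 1 ≤ s) (fun s hs => by
        rw [IH (T.n - s.val) (by have := hs.2; omega) s rfl hs.1]; exact hs.2) hrest2
    obtain ⟨a, ha⟩ := hm.conj r
    have hL : n * (u * T.xU F r.val 1 * u⁻¹) * n⁻¹ = T.xU F (w r).val a * (n * rest * n⁻¹) := by
      have h1 := (ha 1).1
      rw [mul_one] at h1
      rw [show u * T.xU F r.val 1 * u⁻¹ = T.xU F r.val 1 * rest by rw [hrest, mul_inv_cancel_left],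
        ← mul_assoc n, h1]
      group
    obtain ⟨g', hg', e'⟩ := CfsgLib.KnownB.ParabolicFStar.conj_lead hT hC (χ := χ⁻¹)
      { add := fun a ha b hb v N hv => by
          simp only [Pi.inv_apply, hχ.add a ha b hb v N hv, mul_inv_rev]; exact mul_comm _ _
        neg := fun a ha => by simp only [Pi.inv_apply, hχ.neg a ha] }
      (u := (T.dU χ)⁻¹ * u'⁻¹ * T.dU χ) (by
        have := (Subgroup.mem_normalizer_iff.mp (diag_le_normalizer hT (fun r => T.half ≤ r)
          (inv_mem hd)) u'⁻¹).mp (inv_mem hu')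
        rwa [inv_inv] at this) r.2 hrp 1
    rw [← dU_inv, mul_one] at e'
    have hR : n * (u * T.xU F r.val 1 * u⁻¹) * n⁻¹ =
        T.xU F r.val (((χ⁻¹) r.val : Fˣ) : F) * g' := by
      rw [← e']
      have h1 := (hcomm r.val r.2 hr.1 hr.2).eq
      calc n * (u * T.xU F r.val 1 * u⁻¹) * n⁻¹
          = (u' * T.dU χ)⁻¹ * ((u' * T.dU χ * n * u) * T.xU F r.val 1) * u⁻¹ * n⁻¹ := by group
        _ = (u' * T.dU χ)⁻¹ * (T.xU F r.val 1 * (u' * T.dU χ * n * u)) * u⁻¹ * n⁻¹ := by rw [h1]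
        _ = _ := by group
    rw [hL] at hR
    have hwr := (w r).2
    rcases lt_trichotomy (w r).val r.val with hlt | heq | hgt
    · exfalso
      have hmem : T.xU F r.val (((χ⁻¹) r.val : Fˣ) : F) * g' ∈ geSub T F r.val :=
        mul_mem (xU_mem_rootGen (P := fun s => r.val ≤ s) r.2 le_rfl _)
          (rootGen_mono (fun s _ (h : r.val + 1 ≤ s) => Nat.le_of_succ_le h) hg')
      by_cases hwp : T.half ≤ (w r).val
      · obtain ⟨e1, -⟩ := xU_mul_inj hT hC hwp hwr
          (rootGen_mono (fun s _ (h : r.val + 1 ≤ s) => by omega) hmove)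
          (rootGen_mono (fun s _ (h : r.val ≤ s) => by omega) hmem) (t' := 0)
          (by rw [hR, xU_zero hT hwr, one_mul])
        exact a.ne_zero e1
      · have h1 : T.xU F (w r).val a ∈ T.rootGen F (fun s => T.half ≤ s) := by
          rw [eq_mul_inv_of_mul_eq hR]
          exact rootGen_mono (fun s _ (h : r.val ≤ s) => hrp.trans h)
            (mul_mem hmem (inv_mem (rootGen_mono (fun s _ (h : r.val + 1 ≤ s) => Nat.le_of_succ_le h) hmove)))
        have h2 := eq_one_of_pos_neg hT h1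
          (xU_mem_rootGen (P := fun s => s < T.half) hwr (not_le.mp hwp) _)
        rw [← xU_zero hT hwr] at h2
        exact a.ne_zero (xU_inj hT hwr h2)
    · exact Fin.ext heq
    · exfalso
      have hmem : T.xU F (w r).val a * (n * rest * n⁻¹) ∈ geSub T F (r.val + 1) :=
        mul_mem (xU_mem_rootGen (P := fun s => r.val + 1 ≤ s) hwr hgt _) hmove
      obtain ⟨e1, -⟩ := xU_mul_inj hT hC hrp r.2 hg' hmem (t' := 0)
        (by rw [← hR, xU_zero hT r.2, one_mul])
      exact ((χ⁻¹) r.val).ne_zero e1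
  have hout_simple : ∀ r, r < T.n → T.half ≤ r → T.co r k ≠ 0 → Out r := fun r hr hrp hco =>
    ⟨(posRoot_iff hT).mpr ⟨hr, hrp⟩, fun hh => hco ((supp_inSub hT hSupp hr).mp hh k hk hkJ)⟩
  have hpull : ∀ i : Fin T.rank, i.val ≠ k → ∃ r v : Fin T.n, ∃ N, T.sum? (T.simple i) r = some (v.val, N) ∧
      Out r ∧ Out v := by
    intro i hik
    obtain ⟨r, hr, hp, hco, v, N, hsum⟩ := (CfsgLib.KnownB.ParabolicFStar.spread hT hX i.2 hk hik).2
    have hv := sum?_lt hT (simple_lt hT i.2) hr hsum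
    have hcov : T.co v k = T.co r k := by
      rw [co_sum hT (simple_lt hT i.2) hr hsum hk, co_simple hT i.2 hk, if_neg (Ne.symm hik), zero_add]
    have hpos : 0 < T.co r k := lt_of_le_of_ne (co_nonneg hT hr (isPos_iff.mpr hp) hk) (Ne.symm hco)
    exact ⟨⟨r, hr⟩, ⟨v, hv⟩, N, hsum, hout_simple r hr hp hco,
      hout_simple v hv (half_le_of_co hT hv hk (hcov ▸ hpos)) (hcov ▸ hco)⟩
  have hkOut : Out (T.simple k) := hout_simple _ (simple_lt hT hk) (isPos_iff.mp (simple_pos hT hk))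
    (by rw [co_simple hT hk hk, if_pos rfl]; exact one_ne_zero)
  have hw1 : w = 1 := by
    refine eq_one_of_pos hT hw fun i => ?_
    by_cases hik : i.val = k
    · have : T.simpF hT i = ⟨T.simple k, simple_lt hT hk⟩ := Fin.ext (by simp [simpF, hik])
      rw [this, hfix _ _ rfl hkOut]
      exact isPos_iff.mp (simple_pos hT hk)
    obtain ⟨r, v, N, hsum, hr, hv⟩ := hpull i hik
    refine half_le_of_co_nonneg hT (w _).2 fun j hj => ?_
    have e : T.co (w v).val j = T.co (w (T.simpF hT i)).val j + T.co (w r).val j := by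
      rw [WP_linear hT hw v hj, WP_linear hT hw (T.simpF hT i) hj, WP_linear hT hw r hj,
        ← Finset.sum_add_distrib]
      refine Finset.sum_congr rfl fun l _ => ?_
      rw [co_sum hT (simple_lt hT i.2) r.2 hsum l.2, show (T.simpF hT i).val = T.simple i from rfl]
      ring
    rw [hfix _ v rfl hv, hfix _ r rfl hr, co_sum hT (simple_lt hT i.2) r.2 hsum hj] at e
    have e' : T.co (w (T.simpF hT i)).val j = T.co (T.simple i) j := by omega
    rw [e']
    exact co_nonneg hT (simple_lt hT i.2) (simple_pos hT i.2) hj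
  subst hw1
  have hn' : n ∈ T.datum.diagonalSubgroup F := mem_diag_of_mono_one hT hn hm
  have hB : u' * T.dU χ * n * u ∈ T.datum.borelSubgroup F :=
    mul_mem (mul_mem (mul_mem (Subgroup.mem_sup_left (by rw [posUnipotent_rootGen hT]; exact hu'))
      (Subgroup.mem_sup_right hd)) (Subgroup.mem_sup_right hn'))
      (Subgroup.mem_sup_left (by rw [posUnipotent_rootGen hT]; exact hupos))
  obtain ⟨v, hv, h, hh, e⟩ := (mem_borel_iff hT).mp hB
  rw [posUnipotent_rootGen hT] at hv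
  obtain ⟨ψ, hψ, rfl⟩ := diag_exists_char hT hh
  have hone : ∀ r, r < T.n → Out r → ψ r = 1 := by
    intro r hr hro
    obtain ⟨g, hg, e'⟩ := CfsgLib.KnownB.ParabolicFStar.conj_lead hT hC hψ hv hr (hOutpos r hro) 1
    rw [← e, (hcomm r hr hro.1 hro.2).eq, mul_inv_cancel_right] at e'
    obtain ⟨h1, -⟩ := xU_mul_inj hT hC (hOutpos r hro) hr (one_mem _) hg (t := (1 : F))
      (by rw [mul_one]; exact e')
    exact Units.ext (by simpa using h1.symm)
  have hd1 : (T.dU ψ : GL T.I F) = 1 := dU_eq_one_of_simple hT hψ fun i hi => by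
    by_cases hik : i = k
    · subst hik; exact hone _ (simple_lt hT hi) hkOut
    obtain ⟨r, v, N, hsum, hr, hv'⟩ := hpull ⟨i, hi⟩ hik
    have h1 := hone v.val v.2 hv'
    rwa [hψ.add _ (simple_lt hT hi) r.val r.2 v.val N hsum, hone r.val r.2 hr, mul_one] at h1
  rw [e, hd1, mul_one]
  exact hv

/-- A proper parabolic subgroup meets the overgroup in fixed elements. -/
theorem Ctrl.parabolic_fixed (h : Ctrl T F M σ)
    (hX : CfsgLib.KnownB.ParabolicFStar.chkSpread T = true) {J : Set ℕ}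
    (hJ : ∃ k, k < T.rank ∧ k ∉ J) {m : GL T.I F} (hmM : m ∈ M)
    (hmP : m ∈ T.datum.parabolicSubgroup F J) : mapGL T σ m = m := by
  classical
  obtain ⟨k, hk, hkJ⟩ := hJ
  have hnorm : ∀ {g : GL T.I F}, g ∈ T.datum.parabolicSubgroup F J → ∀ x,
      (x ∈ T.datum.unipotentRadical F J ↔ g * x * g⁻¹ ∈ T.datum.unipotentRadical F J) :=
    fun hg x => Subgroup.mem_normalizer_iff.mp (parabolic_le_normalizer hT hC hSupp J hg) x
  have hradpos : T.datum.unipotentRadical F J ≤ T.rootGen F (fun r => T.half ≤ r) := by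
    rw [unipotentRadical_eq hT]
    exact rootGen_mono fun r _ h => ((posRoot_iff hT).mp h.1).2
  have hPσ : ∀ g ∈ T.datum.parabolicSubgroup F J, mapGL T σ g ∈ T.datum.parabolicSubgroup F J := by
    rw [parabolic_eq_gen hT hSupp]
    intro g hg
    have hle : T.datum.diagonalSubgroup F ⊔
        T.rootGen F (fun r => T.datum.IsPosRoot r ∨ T.datum.InRootSub J r) ≤
        (T.datum.diagonalSubgroup F ⊔
        T.rootGen F (fun r => T.datum.IsPosRoot r ∨ T.datum.InRootSub J r)).comap (mapGL T σ) := by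
      refine sup_le (fun d hd => ?_) (fun x hx => ?_)
      · obtain ⟨f, rfl⟩ : ∃ f, torusHom T F f = d := by
          rw [← MonoidHom.mem_range, torusHom_range hT]; exact hd
        refine Subgroup.mem_sup_left ?_
        rw [CfsgLib.KnownB.FieldAut.map_torus, ← torusHom_range hT]
        exact ⟨_, rfl⟩
      · exact Subgroup.mem_sup_right (map_rootGen σ hT _ ⟨x, hx, rfl⟩)
    exact hle hg
  -- the quotient of an element and its image centralises the fixed radical
  have hcU : ∀ m ∈ M, m ∈ T.datum.parabolicSubgroup F J →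
      m⁻¹ * mapGL T σ m ∈ T.rootGen F (fun r => T.half ≤ r) := by
    intro m hmM hmP
    refine centralizer_radical hT hC hSupp hX hk hkJ (mul_mem (inv_mem hmP) (hPσ m hmP))
      fun r hr hrp hrJ => ?_
    have hx : T.xU F r 1 ∈ T.datum.unipotentRadical F J := by
      rw [unipotentRadical_eq hT]
      exact xU_mem_rootGen (P := fun r => T.datum.IsPosRoot r ∧ ¬ T.datum.InRootSub J r) hr ⟨hrp, hrJ⟩ 1
    have hfix := h.pos_fixed _ (mul_mem (mul_mem hmM (h.frame.root_one hr)) (inv_mem hmM))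
      (hradpos ((hnorm hmP _).mp hx))
    rw [map_mul, map_mul, map_inv, map_xU σ hT hr, map_one] at hfix
    show m⁻¹ * mapGL T σ m * T.xU F r 1 = T.xU F r 1 * (m⁻¹ * mapGL T σ m)
    calc m⁻¹ * mapGL T σ m * T.xU F r 1
        = m⁻¹ * (mapGL T σ m * T.xU F r 1 * (mapGL T σ m)⁻¹) * mapGL T σ m := by group
      _ = m⁻¹ * (m * T.xU F r 1 * m⁻¹) * mapGL T σ m := by rw [hfix]
      _ = _ := by group
  -- hence it lies in the radical
  set J' := (Finset.range T.rank).filter (· ∈ J) with hJ'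
  obtain ⟨n0, hn0M, hn0N, hn0m, hn0σ, hn0P⟩ := h.frame.exists_mono hT (longJ_mem hT J')
  have hn0P' : n0 ∈ T.datum.parabolicSubgroup F J := by
    refine (sup_le_sup le_rfl (Subgroup.closure_mono ?_) :
      T.datum.parabolicSubgroup F (J' : Set ℕ) ≤ T.datum.parabolicSubgroup F J) hn0P
    rintro x ⟨j, hj, hrest⟩
    exact ⟨j, (Finset.mem_filter.mp hj).2, hrest⟩
  have hrad : m⁻¹ * mapGL T σ m ∈ T.datum.unipotentRadical F J := by
    have h1 := hcU m hmM hmP
    have h2 := hcU (m * n0⁻¹) (mul_mem hmM (inv_mem hn0M)) (mul_mem hmP (inv_mem hn0P'))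
    rw [map_mul, map_inv, hn0σ, show (m * n0⁻¹)⁻¹ * (mapGL T σ m * n0⁻¹) =
      n0 * (m⁻¹ * mapGL T σ m) * n0⁻¹ by group] at h2
    obtain ⟨a, ha, q, hq, e⟩ := exists_factor hT hC
      (fun r => T.datum.IsPosRoot r ∧ ¬ T.datum.InRootSub J r)
      (fun r => T.half ≤ r ∧ T.datum.InRootSub J r)
      (fun r hr hrp => by
        by_cases hin : T.datum.InRootSub J r
        · exact Or.inr ⟨hrp, hin⟩
        · exact Or.inl ⟨(posRoot_iff hT).mpr ⟨hr, hrp⟩, hin⟩)
      T.half T.half (Nat.two_mul _).symm le_rfl _ h1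
    have haR : a ∈ T.datum.unipotentRadical F J := by rw [unipotentRadical_eq hT]; exact ha
    rw [e] at h2 ⊢
    have hq2 : n0 * q * n0⁻¹ ∈ T.rootGen F (fun r => r < T.half) := by
      refine conj_mem_rootGen hT hn0m (fun s hs => ?_) hq
      refine (longJ_negOn hT J').neg hT (CfsgLib.KnownB.Steinberg.wJ_le hT J' (longJ_mem hT J')) ?_ hs.1
      intro j hj hjJ
      exact (supp_inSub hT hSupp s.2).mp hs.2 j hj fun hjm =>
        hjJ (Finset.mem_filter.mpr ⟨Finset.mem_range.mpr hj, hjm⟩)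
    have hq1 : n0 * q * n0⁻¹ = 1 := by
      refine eq_one_of_pos_neg hT ?_ hq2
      rw [show n0 * q * n0⁻¹ = (n0 * a * n0⁻¹)⁻¹ * (n0 * (a * q) * n0⁻¹) by group]
      exact mul_mem (inv_mem (hradpos ((hnorm hn0P' _).mp haR))) h2
    rw [conj_eq_one_iff] at hq1
    rw [hq1, mul_one]
    exact haR
  -- the Bruhat form
  obtain ⟨b, hb, n, hn, w, hw, hm, u, hu, e⟩ :=
    exists_canonical hT hC (h.frame.le_group hmM)
  have hupos : u ∈ T.rootGen F (fun r => T.half ≤ r) := rootGen_mono (fun r _ h => h.2.1) hu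
  have huP : u ∈ T.datum.parabolicSubgroup F J :=
    Subgroup.mem_sup_left (Subgroup.mem_sup_left (by rw [posUnipotent_rootGen hT]; exact hupos))
  have hnP : n ∈ T.datum.parabolicSubgroup F J := by
    have : n = b⁻¹ * m * u⁻¹ := by rw [e]; group
    rw [this]
    exact mul_mem (mul_mem (inv_mem (Subgroup.mem_sup_left hb)) hmP) (inv_mem huP)
  set c := m⁻¹ * mapGL T σ m with hcdef
  have hc' : n * (u * c * u⁻¹) * n⁻¹ ∈ T.datum.borelSubgroup F :=
    Subgroup.mem_sup_left (by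
      rw [posUnipotent_rootGen hT]; exact hradpos ((hnorm hnP _).mp ((hnorm huP _).mp hrad)))
  obtain ⟨l, rfl⟩ := exists_pw hT hw
  have hd : n * (T.nw F l)⁻¹ ∈ T.datum.diagonalSubgroup F := by
    refine mem_diag_of_mono_one hT (mul_mem hn (inv_mem (nw_mem hT l))) ?_
    have := hm.mul (mono_nw (F := F) hT l).inv
    rwa [mul_inv_cancel] at this
  set b1 := b * (n * (T.nw F l)⁻¹) with hb1
  have hb1B : b1 ∈ T.datum.borelSubgroup F := mul_mem hb (Subgroup.mem_sup_right hd)
  set b2 := b * (n * (u * c * u⁻¹) * n⁻¹) * (n * (T.nw F l)⁻¹) with hb2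
  have hb2B : b2 ∈ T.datum.borelSubgroup F := mul_mem (mul_mem hb hc') (Subgroup.mem_sup_right hd)
  have hσB : mapGL T σ b1 ∈ T.datum.borelSubgroup F := by
    obtain ⟨v, hv, d, hd', e'⟩ := (mem_borel_iff hT).mp hb1B
    rw [e', map_mul]
    obtain ⟨f, rfl⟩ : ∃ f, torusHom T F f = d := by
      rw [← MonoidHom.mem_range, torusHom_range hT]; exact hd'
    rw [posUnipotent_rootGen hT] at hv
    refine mul_mem (Subgroup.mem_sup_left (by
      rw [posUnipotent_rootGen hT]; exact map_rootGen σ hT _ ⟨v, hv, rfl⟩)) (Subgroup.mem_sup_right ?_)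
    rw [CfsgLib.KnownB.FieldAut.map_torus, ← torusHom_range hT]
    exact ⟨_, rfl⟩
  have hem : m = b1 * T.nw F l * u := by rw [hb1, e]; group
  have heq : mapGL T σ b1 * T.nw F l * mapGL T σ u = b2 * T.nw F l * u := by
    rw [← CfsgLib.KnownB.FieldAut.map_nw σ hT l (K := F), ← map_mul, ← map_mul, ← hem,
      CfsgLib.KnownB.FieldAut.map_nw σ hT l,
      show mapGL T σ m = m * c by rw [hcdef, mul_inv_cancel_left], hb2, e]
    group
  obtain ⟨-, h2⟩ := canonical_unique hT hC hσB hb2B (nw_mem hT l) (nw_mem hT l) (mono_nw hT l)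
    (map_rootGen σ hT _ ⟨u, hu, rfl⟩) hu heq
  obtain ⟨-, hu2⟩ := h2 (mono_nw hT l) rfl
  have huM : u ∈ M := h.frame.fixed_mem hT hC hupos hu2
  have hnwM : T.nw F l ∈ M := h.frame.nw_mem hT l
  have hb1M : b1 ∈ M := by
    have e1 : b1 = m * u⁻¹ * (T.nw F l)⁻¹ := by rw [hem]; group
    rw [e1]
    exact mul_mem (mul_mem hmM (inv_mem huM)) (inv_mem hnwM)
  rw [hem, map_mul, map_mul, h.borel_fixed b1 hb1M hb1B, hu2, CfsgLib.KnownB.FieldAut.map_nw σ hT l]

end CfsgLib.Chevalley.Overgroup
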