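import Cfsg.Agent.Lib.Chevalley.Overgroup.Frame
import Mathlib.FieldTheory.Finite.Basic

/-!
The parameters of the root elements in a finite overgroup: their behaviour under reflections, the
commutator words, and the field map they define.
-/

set_option autoImplicit false

namespace CfsgLib.Chevalley.Overgroup

open CfsgLib.Chevalley CfsgLib.Chevalley.Tbl
open CfsgLib.KnownB.FieldAut (mapGL map_xU)
open scoped commutatorElement

variable {T : Tbl} {F : Type*} [Field F]

/-- The parameters of the root elements at `r` in `M`. -/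
def rootSet (M : Subgroup (GL T.I F)) (r : ℕ) : Set F := {t | T.xU F r t ∈ M}

/-- The finite group contains the root elements with parameter one. -/
structure Base (T : Tbl) (F : Type*) [Field F] (M : Subgroup (GL T.I F)) : Prop where
  fin : Finite ↥M
  le_group : M ≤ T.datum.group F
  one : ∀ r < T.n, T.xU F r 1 ∈ M

/-- Raise a root by fundamental reflections as far as the first one that applies allows. -/
def upRep (T : Tbl) : ℕ → ℕ → ℕ
  | 0, r => r
  | k + 1, r => match (List.range T.rank).find? (fun i => Nat.blt r (T.refl i r)) with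
    | some i => upRep T k (T.refl i r)
    | none => r

variable (hT : T.Valid) {M : Subgroup (GL T.I F)}
include hT

theorem rootSet_zero {r : ℕ} (hr : r < T.n) : (0 : F) ∈ rootSet M r := by
  show T.xU F r 0 ∈ M
  rw [xU_zero hT hr]; exact one_mem M

theorem rootSet_add {r : ℕ} (hr : r < T.n) {s t : F} (hs : s ∈ rootSet M r) (ht : t ∈ rootSet M r) :
    s + t ∈ rootSet M r := by
  show T.xU F r (s + t) ∈ M
  rw [← xU_add hT hr]; exact mul_mem hs ht

theorem rootSet_neg {r : ℕ} (hr : r < T.n) {s : F} (hs : s ∈ rootSet M r) : -s ∈ rootSet M r := by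
  show T.xU F r (-s) ∈ M
  rw [← xU_inv hT hr]; exact inv_mem hs

theorem rootSet_sign {r : ℕ} (hr : r < T.n) {e : ℤ} (he : e = 1 ∨ e = -1) {s : F} :
    (e : F) * s ∈ rootSet M r ↔ s ∈ rootSet M r := by
  rcases he with rfl | rfl
  · simp
  · simp only [Int.cast_neg, Int.cast_one, neg_one_mul]
    exact ⟨fun h => by simpa using rootSet_neg hT hr h, rootSet_neg hT hr⟩

theorem rootSet_finite (hB : Base T F M) {r : ℕ} (hr : r < T.n) : (rootSet M r).Finite := by
  have := hB.fin
  refine Set.Finite.of_injOn (f := fun t => T.xU F r t) (t := (M : Set (GL T.I F))) (fun t ht => ht)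
    (fun a _ b _ h => xU_inj hT hr h) (Set.toFinite _)

theorem Base.nU_mem (hB : Base T F M) {r : ℕ} (hr : r < T.n) : T.nU F r 1 ∈ M := by
  refine mul_mem (mul_mem (hB.one r hr) ?_) (hB.one r hr)
  rw [show (-(1 : F)⁻¹) = -1 by simp, ← xU_inv hT (neg_lt' hr)]
  exact inv_mem (hB.one _ (neg_lt' hr))

theorem rootSet_negRoot (hB : Base T F M) {r : ℕ} (hr : r < T.n) :
    rootSet M (T.neg r) = rootSet M r := by
  have hn := hB.nU_mem hT hr
  ext t
  have e := nU_conj (F := F) hT hr (-t)
  rw [neg_neg] at e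
  constructor
  · intro ht
    have h1 : T.xU F r (-t) = (T.nU F r 1)⁻¹ * T.xU F (T.neg r) t * T.nU F r 1 := by
      rw [eq_comm, mul_assoc, inv_mul_eq_iff_eq_mul]; exact e.symm
    have h2 : -t ∈ rootSet M r := by
      show T.xU F r (-t) ∈ M
      rw [h1]; exact mul_mem (mul_mem (inv_mem hn) ht) hn
    simpa using rootSet_neg hT hr h2
  · intro ht
    show T.xU F (T.neg r) t ∈ M
    rw [eq_mul_inv_of_mul_eq e.symm]
    exact mul_mem (mul_mem hn (rootSet_neg hT hr ht)) (inv_mem hn)

/-- Conjugation by a fundamental `n`. -/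
theorem refl_mem (hB : Base T F M) {i r : ℕ} (hi : i < T.rank) (hr : r < T.n) {t : F} :
    T.xU F (T.refl i r) ((T.eta i r : F) * t) ∈ M ↔ T.xU F r t ∈ M := by
  have hn := hB.nU_mem hT (simple_lt hT hi)
  have e := nU_simple_xU (F := F) hT hi hr t
  constructor
  · intro h
    rw [show T.xU F r t = (T.nU F (T.simple i) 1)⁻¹ *
      (T.xU F (T.refl i r) ((T.eta i r : F) * t) * T.nU F (T.simple i) 1) by
        rw [← e, inv_mul_cancel_left]]
    exact mul_mem (inv_mem hn) (mul_mem h hn)
  · intro h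
    rw [eq_mul_inv_of_mul_eq e.symm]
    exact mul_mem (mul_mem hn h) (inv_mem hn)

theorem rootSet_refl (hB : Base T F M) {i r : ℕ} (hi : i < T.rank) (hr : r < T.n) :
    rootSet M (T.refl i r) = rootSet M r := by
  ext t
  rw [← rootSet_sign hT (refl_lt hT hi hr) (eta_sq hT hi hr)]
  exact refl_mem hT hB hi hr

theorem rootSet_upRep (hB : Base T F M) : ∀ k r, r < T.n →
    upRep T k r < T.n ∧ rootSet M (upRep T k r) = rootSet M r := by
  intro k
  induction k with
  | zero => exact fun r hr => ⟨hr, rfl⟩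
  | succ k ih =>
    intro r hr
    simp only [upRep]
    cases hf : (List.range T.rank).find? (fun i => Nat.blt r (T.refl i r)) with
    | none => exact ⟨hr, rfl⟩
    | some i =>
      have hi : i < T.rank := List.mem_range.mp (List.mem_of_find?_eq_some hf)
      obtain ⟨h1, h2⟩ := ih _ (refl_lt hT hi hr)
      exact ⟨h1, h2.trans (rootSet_refl hT hB hi hr)⟩

theorem rootSet_eq_of_upRep (hB : Base T F M) {r e : ℕ} (hr : r < T.n)
    (h : upRep T T.half r = e) : rootSet M r = rootSet M e := by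
  rw [← h, (rootSet_upRep hT hB T.half r hr).2]

variable (hC : T.chkComm = true)
include hC

theorem commWord_mem {r s : ℕ} (hr : r < T.n) (hs : s < T.n) (hrs : s ≠ r) (hneg : s ≠ T.neg r)
    {t u : F} (ht : t ∈ rootSet M r) (hu : u ∈ rootSet M s) :
    ((T.commT r s).map fun c =>
      T.xU F c.1 ((c.2.1 : F) * (-t) ^ c.2.2.1 * u ^ c.2.2.2)).prod ∈ M := by
  have e := comm_xU (F := F) hT hC hr hs hrs hneg t u
  rw [show ((T.commT r s).map fun c =>
      T.xU F c.1 ((c.2.1 : F) * (-t) ^ c.2.2.1 * u ^ c.2.2.2)).prod =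
      (T.xU F r t * T.xU F s u)⁻¹ * (T.xU F s u * T.xU F r t) by rw [e]; group]
  exact mul_mem (inv_mem (mul_mem ht hu)) (mul_mem hu ht)

/-- The commutator of a product with a root element of `M`, the second factor commuting. -/
theorem commWord_mem' {r s c : ℕ} (hr : r < T.n) (hs : s < T.n) (hrs : s ≠ r)
    (hneg : s ≠ T.neg r) {t u v : F}
    (hcomm : Commute (T.xU F c v) (T.xU F r t)) (ht : t ∈ rootSet M r)
    (huv : T.xU F s u * T.xU F c v ∈ M) :
    ((T.commT r s).map fun c =>
      T.xU F c.1 ((c.2.1 : F) * t ^ c.2.2.1 * (-u) ^ c.2.2.2)).prod ∈ M := by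
  have e := comm_xU (F := F) hT hC hr hs hrs hneg (-t) (-u)
  have e2 := hcomm.inv_right.eq
  simp only [neg_neg] at e
  rw [← xU_inv hT hr, ← xU_inv hT hs] at e
  have e3 : (T.xU F s u * T.xU F c v) * (T.xU F r t)⁻¹ * (T.xU F s u * T.xU F c v)⁻¹ =
      T.xU F s u * (T.xU F r t)⁻¹ * (T.xU F s u)⁻¹ := by
    rw [mul_assoc (T.xU F s u), e2]; group
  rw [show ((T.commT r s).map fun c =>
      T.xU F c.1 ((c.2.1 : F) * t ^ c.2.2.1 * (-u) ^ c.2.2.2)).prod =
      (T.xU F s u * T.xU F r t * (T.xU F s u)⁻¹ * (T.xU F r t)⁻¹)⁻¹⁻¹ *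
      ((T.xU F s u * T.xU F r t * (T.xU F s u)⁻¹ * (T.xU F r t)⁻¹)⁻¹ *
      ((T.xU F s u * T.xU F r t) * ((T.xU F s u)⁻¹ * (T.xU F r t)⁻¹))) by
    rw [e]; group]
  have h1 : T.xU F s u * (T.xU F r t)⁻¹ * (T.xU F s u)⁻¹ ∈ M :=
    e3 ▸ mul_mem (mul_mem huv (inv_mem ht)) (inv_mem huv)
  have h2 : T.xU F s u * T.xU F r t * (T.xU F s u)⁻¹ * (T.xU F r t)⁻¹ ∈ M := by
    refine mul_mem ?_ (inv_mem ht)
    have := inv_mem h1
    simpa [mul_assoc] using this
  refine mul_mem (inv_mem (inv_mem h2)) (mul_mem (inv_mem h2) ?_)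
  simpa [mul_assoc] using h2

omit hC

/-- A finite multiplicative and additive set with `1` is the fixed set of a power of Frobenius. -/
theorem exists_frob {p : ℕ} [Fact p.Prime] [CharP F p] {A : Set F} (hfin : A.Finite) (h1 : (1 : F) ∈ A)
    (hadd : ∀ s ∈ A, ∀ t ∈ A, s + t ∈ A) (hmul : ∀ s ∈ A, ∀ t ∈ A, s * t ∈ A) :
    ∃ m : ℕ, 0 < m ∧ Nat.card A = p ^ m ∧ ∀ t : F, iterateFrobenius F p m t = t ↔ t ∈ A := by
  classical
  have hn : ∀ k : ℕ, (k + 1 : F) ∈ A := by
    intro k
    induction k with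
    | zero => simpa using h1
    | succ k ih => push_cast; exact hadd _ ih _ h1
  have hp1 : (-1 : F) ∈ A := by
    have h := hn (p - 2)
    have h2 := (Fact.out : p.Prime).two_le
    have e : ((p - 2 : ℕ) : F) + 1 = -1 := by
      rw [Nat.cast_sub h2, CharP.cast_eq_zero]; push_cast; ring
    rwa [e] at h
  have hneg : ∀ s ∈ A, -s ∈ A := fun s hs => by simpa using hmul _ hp1 _ hs
  have hinv : ∀ s ∈ A, s⁻¹ ∈ A := by
    intro s hs
    by_cases h0 : s = 0
    · subst h0; simpa using hs
    have hmap : Set.MapsTo (fun x => s * x) A A := fun x hx => hmul s hs x hx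
    obtain ⟨x, hx, hx1⟩ := ((hfin.injOn_iff_bijOn_of_mapsTo hmap).mp
      (fun a _ b _ h => mul_left_cancel₀ h0 h)).surjOn h1
    rwa [inv_eq_of_mul_eq_one_right hx1]
  let K : Subfield F :=
    { carrier := A
      zero_mem' := by have := hadd 1 h1 (-1) hp1; rwa [add_neg_cancel] at this
      one_mem' := h1
      add_mem' := fun ha hb => hadd _ ha _ hb
      mul_mem' := fun ha hb => hmul _ ha _ hb
      neg_mem' := fun ha => hneg _ ha
      inv_mem' := hinv }
  have : Finite ↥K := hfin.to_subtype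
  let _ : Fintype ↥K := Fintype.ofFinite _
  have : CharP ↥K p := RingHom.charP K.subtype Subtype.val_injective p
  obtain ⟨m, -, hm⟩ := FiniteField.card ↥K p
  refine ⟨m, m.pos, ?_, fun t => ⟨fun ht => ?_, fun ht => ?_⟩⟩
  · rw [← hm, ← Nat.card_eq_fintype_card]; rfl
  · rw [iterateFrobenius_def] at ht
    have hsub : hfin.toFinset ⊆
        (Polynomial.X ^ p ^ (m : ℕ) - Polynomial.X : Polynomial F).roots.toFinset := by
      intro a ha
      have h2 : (p : ℕ) ^ (m : ℕ) ≠ 1 := (Nat.one_lt_pow m.ne_zero (Fact.out : p.Prime).one_lt).ne'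
      rw [Multiset.mem_toFinset, Polynomial.mem_roots
        (FiniteField.X_pow_card_sub_X_ne_zero F (Nat.one_lt_pow m.ne_zero (Fact.out : p.Prime).one_lt))]
      have := congrArg Subtype.val (FiniteField.pow_card (⟨a, hfin.mem_toFinset.mp ha⟩ : ↥K))
      rw [hm] at this
      simp only [SubmonoidClass.coe_pow] at this
      simp [this]
    have hc : (Polynomial.X ^ p ^ (m : ℕ) - Polynomial.X : Polynomial F).roots.toFinset.card ≤
        hfin.toFinset.card := by
      refine le_trans (Multiset.toFinset_card_le _) (le_trans (Polynomial.card_roots' _) ?_)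
      rw [FiniteField.X_pow_card_sub_X_natDegree_eq F
        (Nat.one_lt_pow m.ne_zero (Fact.out : p.Prime).one_lt), ← hm,
        ← Set.ncard_eq_toFinset_card A hfin, ← Nat.card_coe_set_eq, ← Nat.card_eq_fintype_card]
      rfl
    rw [← hfin.mem_toFinset, Finset.eq_of_subset_of_card_le hsub hc, Multiset.mem_toFinset,
      Polynomial.mem_roots
        (FiniteField.X_pow_card_sub_X_ne_zero F (Nat.one_lt_pow m.ne_zero (Fact.out : p.Prime).one_lt))]
    simp [ht]
  · have := congrArg Subtype.val (FiniteField.pow_card (⟨t, ht⟩ : ↥K))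
    rw [hm] at this
    simpa [iterateFrobenius_def] using this

omit hT in
/-- Equality of two sets between which an injective power map goes. -/
theorem eq_of_pow_subset {A B : Set F} (hB : B.Finite) (hAB : A ⊆ B) {k : ℕ}
    (hinj : Function.Injective fun t : F => t ^ k) (h : ∀ t ∈ B, t ^ k ∈ A) : A = B := by
  refine Set.eq_of_subset_of_ncard_le hAB ?_ hB
  exact Set.ncard_le_ncard_of_injOn (fun t => t ^ k) h (fun a _ b _ e => hinj e) (hB.subset hAB)

end CfsgLib.Chevalley.Overgroup
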