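import Cfsg.Agent.Lib.Chevalley.Overgroup.Main

/-!
The certificates of the seven tables.
-/

set_option autoImplicit false
set_option maxRecDepth 20000
set_option maxHeartbeats 2000000

namespace CfsgLib.Chevalley.Overgroup

universe u

open CfsgLib.Chevalley CfsgLib.Chevalley.Tbl

theorem cert_G2 : Cert.{u} Data.G2.tbl :=
  { valid := Data.G2.valid, comm := Data.G2.chkComm, supp := Data.G2.chkSupp
    sorted := Data.G2.chkSorted, spread := by decide +kernel, rank := by decide
    top := by decide +kernel, orbit := by decide +kernel, delta := by decide +kernel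
    heis := by decide +kernel, gamma := ⟨6, 1, by decide +kernel⟩
    two := Or.inl ⟨7, by decide +kernel, by decide +kernel, by decide +kernel⟩
    field := fun F _ M hB p _ _ => rootField_G2 hB p }

theorem cert_B2 : Cert.{u} Data.B2.tbl :=
  { valid := Data.B2.valid, comm := Data.B2.chkComm, supp := Data.B2.chkSupp
    sorted := Data.B2.chkSorted, spread := by decide +kernel, rank := by decide
    top := by decide +kernel, orbit := by decide +kernel, delta := by decide +kernel
    heis := by decide +kernel, gamma := ⟨6, 2, by decide +kernel⟩
    two := Or.inl ⟨5, by decide +kernel, by decide +kernel, by decide +kernel⟩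
    field := fun F _ M hB p _ _ => rootField_B2 hB p }

theorem cert_F4 : Cert.{u} Data.F4.tbl :=
  { valid := Data.F4.valid, comm := Data.F4.chkComm, supp := Data.F4.chkSupp
    sorted := Data.F4.chkSorted, spread := by decide +kernel, rank := by decide
    top := by decide +kernel, orbit := by decide +kernel, delta := by decide +kernel
    heis := by decide +kernel, gamma := ⟨24, 1, by decide +kernel⟩
    two := Or.inl ⟨27, by decide +kernel, by decide +kernel, by decide +kernel⟩
    field := fun F _ M hB p _ _ => rootField_F4 hB p }

theorem cert_D4 : Cert.{u} Data.D4.tbl :=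
  { valid := Data.D4.valid, comm := Data.D4.chkComm, supp := Data.D4.chkSupp
    sorted := Data.D4.chkSorted, spread := by decide +kernel, rank := by decide
    top := by decide +kernel, orbit := by decide +kernel, delta := by decide +kernel
    heis := by decide +kernel, gamma := ⟨14, 1, by decide +kernel⟩
    two := Or.inr ⟨2, 0, by decide +kernel, by decide +kernel, by decide +kernel, by decide +kernel⟩
    field := fun F _ M hB p _ _ => rootField_simplyLaced Data.D4.valid hB Data.D4.chkComm p
      (r := 14) (s := 22) (N := 1) (by decide +kernel) (by decide +kernel) (by decide +kernel)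
      (by decide +kernel) (by decide +kernel) (by decide +kernel) (by decide +kernel) (Or.inl rfl) }

theorem cert_E6 : Cert.{u} Data.E6.tbl :=
  { valid := Data.E6.valid, comm := Data.E6.chkComm, supp := Data.E6.chkSupp
    sorted := Data.E6.chkSorted, spread := by decide +kernel, rank := by decide
    top := by decide +kernel, orbit := by decide +kernel, delta := by decide +kernel
    heis := by decide +kernel, gamma := ⟨46, 1, by decide +kernel⟩
    two := Or.inr ⟨1, 0, by decide +kernel, by decide +kernel, by decide +kernel, by decide +kernel⟩
    field := fun F _ M hB p _ _ => rootField_simplyLaced Data.E6.valid hB Data.E6.chkComm p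
      (r := 46) (s := 70) (N := 1) (by decide +kernel) (by decide +kernel) (by decide +kernel)
      (by decide +kernel) (by decide +kernel) (by decide +kernel) (by decide +kernel) (Or.inl rfl) }

theorem cert_E7 : Cert.{u} Data.E7.tbl :=
  { valid := Data.E7.valid, comm := Data.E7.chkComm, supp := Data.E7.chkSupp
    sorted := Data.E7.chkSorted, spread := by decide +kernel, rank := by decide
    top := by decide +kernel, orbit := by decide +kernel, delta := by decide +kernel
    heis := by decide +kernel, gamma := ⟨93, 1, by decide +kernel⟩
    two := Or.inr ⟨1, 0, by decide +kernel, by decide +kernel, by decide +kernel, by decide +kernel⟩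
    field := fun F _ M hB p _ _ => rootField_simplyLaced Data.E7.valid hB Data.E7.chkComm p
      (r := 93) (s := 124) (N := 1) (by decide +kernel) (by decide +kernel) (by decide +kernel)
      (by decide +kernel) (by decide +kernel) (by decide +kernel) (by decide +kernel) (Or.inl rfl) }

theorem cert_E8 : Cert.{u} Data.E8.tbl :=
  { valid := Data.E8.valid, comm := Data.E8.chkComm, supp := Data.E8.chkSupp
    sorted := Data.E8.chkSorted, spread := by decide +kernel, rank := by decide
    top := by decide +kernel, orbit := by decide +kernel, delta := by decide +kernel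
    heis := by decide +kernel, gamma := ⟨120, 1, by decide +kernel⟩
    two := Or.inr ⟨1, 0, by decide +kernel, by decide +kernel, by decide +kernel, by decide +kernel⟩
    field := fun F _ M hB p _ _ => rootField_simplyLaced Data.E8.valid hB Data.E8.chkComm p
      (r := 120) (s := 238) (N := 1) (by decide +kernel) (by decide +kernel) (by decide +kernel)
      (by decide +kernel) (by decide +kernel) (by decide +kernel) (by decide +kernel) (Or.inl rfl) }

/-- Each of the seven data has a certified table. -/
theorem exists_cert {D : Cfsg.Lie.ChevalleyDatum}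
    (hD : D ∈ [Cfsg.Lie.chevG2, Cfsg.Lie.chevB2, Cfsg.Lie.chevD4, Cfsg.Lie.chevF4, Cfsg.Lie.chevE6,
      Cfsg.Lie.chevE7, Cfsg.Lie.chevE8]) : ∃ T : Tbl, Cert.{u} T ∧ T.datum = D := by
  simp only [List.mem_cons, List.not_mem_nil, or_false] at hD
  rcases hD with rfl | rfl | rfl | rfl | rfl | rfl | rfl
  · exact ⟨_, cert_G2, Data.G2.datum_eq⟩
  · exact ⟨_, cert_B2, Data.B2.datum_eq⟩
  · exact ⟨_, cert_D4, Data.D4.datum_eq⟩
  · exact ⟨_, cert_F4, Data.F4.datum_eq⟩
  · exact ⟨_, cert_E6, Data.E6.datum_eq⟩
  · exact ⟨_, cert_E7, Data.E7.datum_eq⟩
  · exact ⟨_, cert_E8, Data.E8.datum_eq⟩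

variable {T : Tbl} {F : Type*} [Field F]

/-- The generators of the group over a field of a finite overgroup. -/
theorem mem_of_root (hT : T.Valid) {M : Subgroup (GL T.I F)} {S : F → Prop}
    (h : ∀ r < T.n, ∀ t, S t → T.xU F r t ∈ M) {g : GL T.datum.Idx F} {s : ℕ} {t : F}
    (ht : S t) (e : (g : Matrix T.datum.Idx T.datum.Idx F) = T.datum.x F s t) : g ∈ M := by
  by_cases hs : s < T.n
  · have : g = T.xU F s t := Units.ext (e.trans (x_eq_val hT hs t))
    rw [this]; exact h s hs t ht
  · have : g = 1 := Units.ext (by
      rw [e, Units.val_one, Cfsg.Lie.ChevalleyDatum.x, dif_neg]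
      exact hs)
    rw [this]; exact one_mem M

end CfsgLib.Chevalley.Overgroup
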